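import Groth.Agent.IsoNatSm.AutSp
import Groth.Agent.AlgStB.GerbeAutScheme
import Groth.Agent.GrpSch.QuasiAffineHom

/-!
# Stabilisers of stacks with quasi-affine diagonal are affine
-/

set_option autoImplicit false
set_option backward.isDefEq.respectTransparency false
set_option backward.isDefEq.respectTransparency.types false

universe u

open CategoryTheory CategoryTheory.Limits AlgebraicGeometry Opposite

namespace Groth.Agent.IsoNatSm

open Groth.Agent.AlgStB
open _root_.AlgSp (Sp LocP RepWith yon IsAlgSpace IsSeparatedMor)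

noncomputable section

variable {S : Scheme.{u}}

theorem isClosedImmersion_diagonal_left {W U : Over S} (i : W ⟶ U) [IsSeparated i.left] :
    IsClosedImmersion (pullback.diagonal i).left := by
  have sq := (IsPullback.of_hasPullback i i).map (Over.forget S)
  have e : (pullback.diagonal i).left ≫ sq.isoPullback.hom = pullback.diagonal i.left := by
    apply pullback.hom_ext
    · erw [Category.assoc, sq.isoPullback_hom_fst, pullback.diagonal_fst]
      exact congrArg CommaMorphism.left (pullback.diagonal_fst (f := i))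
    · erw [Category.assoc, sq.isoPullback_hom_snd, pullback.diagonal_snd]
      exact congrArg CommaMorphism.left (pullback.diagonal_snd (f := i))
  have h : IsClosedImmersion ((pullback.diagonal i).left ≫ sq.isoPullback.hom) := by
    rw [e]; infer_instance
  exact (MorphismProperty.cancel_right_of_respectsIso @IsClosedImmersion _ _).1 h

theorem isSeparatedMor_yon_map {W U : Over S} (i : W ⟶ U) [IsSeparated i.left] :
    IsSeparatedMor ((yon S).map i) := by
  have sq := (IsPullback.of_hasPullback i i).map (yon S)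
  show RepWith @IsClosedImmersion (pullback.diagonal ((yon S).map i))
  rw [show pullback.diagonal ((yon S).map i) = (yon S).map (pullback.diagonal i) ≫ sq.isoPullback.hom by
    apply pullback.hom_ext
    · rw [Category.assoc, sq.isoPullback_hom_fst, pullback.diagonal_fst, ← Functor.map_comp,
        pullback.diagonal_fst, CategoryTheory.Functor.map_id]
    · rw [Category.assoc, sq.isoPullback_hom_snd, pullback.diagonal_snd, ← Functor.map_comp,
        pullback.diagonal_snd, CategoryTheory.Functor.map_id]]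
  exact AlgSpc.repWith_comp ((_root_.AlgSp.repWith_yon_map_iff _ _).2 (isClosedImmersion_diagonal_left i))
    (AlgSpc.repWith_iso _)

open MonoidalCategory CartesianMonoidalCategory in
/-- Quasi-affine groups of finite type over a field are affine. -/
theorem isAffine_of_isQuasiAffine_grp {k : Type u} [Field k] (G : Over (Spec (CommRingCat.of k)))
    [GrpObj G] [LocallyOfFiniteType G.hom] (h : G.left.IsQuasiAffine) : IsAffine G.left := by
  let P : Over (Spec (CommRingCat.of k)) := 𝟙_ _
  haveI : LocallyOfFiniteType P.hom := inferInstanceAs (LocallyOfFiniteType (𝟙 _))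
  let f : G ⟶ P := toUnit G
  haveI : IsMonHom f := ⟨toUnit_unique _ _, toUnit_unique _ _⟩
  have hq : Mor2.IsQuasiAffine f.left := by
    haveI : G.left.IsQuasiAffine := h
    haveI : IsAffine P.left := inferInstanceAs (IsAffine (Spec (CommRingCat.of k)))
    haveI hqc : QuasiCompact f.left :=
      HasAffineProperty.iff_of_isAffine.mpr (inferInstanceAs (CompactSpace G.left))
    refine ⟨hqc, fun V hV => ?_⟩
    haveI : CompactSpace ↥((f.left ⁻¹ᵁ V : G.left.Opens) : Scheme.{u}) :=
      isCompact_iff_compactSpace.mp (QuasiCompact.isCompact_preimage (f := f.left) _ V.2 hV.isCompact)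
    exact Scheme.IsQuasiAffine.of_isImmersion (f.left ⁻¹ᵁ V).ι
  haveI : IsAffineHom f.left := GrpSch.QuasiAffineHom.isAffineHom_of_isQuasiAffine f hq
  haveI : IsAffine P.left := inferInstanceAs (IsAffine (Spec (CommRingCat.of k)))
  exact isAffine_of_isAffineHom f.left

/-- The stabiliser of a field-valued point is affine if the diagonal is quasi-affine. -/
theorem isAffine_autRep {𝒳 : AlgSt.Cat S} (h𝒳 : AlgSt.IsAlgStack Scheme.fppfPrecoverage 𝒳)
    (hΔ : AlgSt.RepByAlgSpWith AlgSp.IsQuasiAffineMor (FibCat.diag (FibCat.toSelf 𝒳)))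
    {k : Type u} [Field k] (p : Spec (CommRingCat.of k) ⟶ S)
    (x : FibCat.overCat (Over.mk p) ⥤ᵇ 𝒳) (G : Over (Over.mk p : Over S).left) [GrpObj G]
    (r : Gerb.AutRep x (Gerb.ptsGrp (Over.mk p) G)) :
    IsAffine G.left ∧ LocallyOfFiniteType G.hom := by
  have hX := h𝒳.isStack.1
  let U : Over S := Over.mk p
  -- the space of automorphisms is a quasi-affine scheme
  obtain ⟨F, e, he, hqa⟩ := (repByAlgSpWith_inertiaToBase_iff (FibCat.toSelf 𝒳)).2
    (repByAlgSpWith_fpFst _ _ hΔ) U x
  obtain ⟨F', e', he', hl'⟩ := (repByAlgSpWith_inertiaToBase_iff (FibCat.toSelf 𝒳)).2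
    (repByAlgSpWith_fpFst _ _ (repByAlgSpWith_lft_diag_toSelf h𝒳)) U x
  have hl := (prop_spMap_iff_of_reps (LocP @LocallyOfFiniteType)
    (FibCat.fpFst x (FibCat.inertiaToBase (FibCat.toSelf 𝒳))) e' e he' he).1 hl'
  haveI : IsAffine U.left := inferInstanceAs (IsAffine (Spec (CommRingCat.of k)))
  obtain ⟨W, i, fst, sq, hW⟩ := hqa (Z := U) ‹_› (𝟙 _)
  haveI : IsIso fst := sq.isIso_fst_of_isIso
  let e₂ := BasedFunctor.comp (AlgSt.ofSpMap fst) e
  have he₂ : FibCat.IsEquivOver e₂ :=
    Fib.isEquivOver_comp ((isEquivOver_ofSpMap_iff _).2 inferInstance) he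
  have hφ : AlgSt.spMapOfOver
      (BasedFunctor.comp e₂ (FibCat.fpFst x (FibCat.inertiaToBase (FibCat.toSelf 𝒳)))) =
      (yon S).map i := by
    refine (spMapOfOver_comp fst (BasedFunctor.comp e
      (FibCat.fpFst x (FibCat.inertiaToBase (FibCat.toSelf 𝒳))))).trans ?_
    exact sq.w.trans (Category.comp_id _)
  haveI : IsSeparated i.left := by
    haveI := hW
    haveI : W.left.IsSeparated := inferInstance
    infer_instance
  obtain ⟨A, hA⟩ := exists_autSp_local h𝒳 x ⟨(yon S).obj W, IsAlgSpace.yon_obj W⟩ e₂ he₂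
    ((prop_spMap_iff_of_reps (LocP @LocallyOfFiniteType)
      (FibCat.fpFst x (FibCat.inertiaToBase (FibCat.toSelf 𝒳))) e e₂ he he₂).1 hl)
    (by rw [hφ]; exact isSeparatedMor_yon_map i)
  obtain ⟨W', hW', ⟨j⟩⟩ := hA (fun F _ _ => ∃ W' : Over S, W'.left.IsQuasiAffine ∧
    Nonempty (F ≅ (yon S).obj W')) ⟨W, hW, ⟨Iso.refl _⟩⟩
  let π' : W' ⟶ U := AlgSpc.pre (j.inv ≫ A.π)
  have hπ' : (yon S).map π' = j.inv ≫ A.π := AlgSpc.map_pre _
  haveI : LocallyOfFiniteType π'.left :=
    A.lft j.inv (𝟙 _) π' (AlgSpc.repWith_iso _) (AlgSpc.repWith_iso _) (by rw [hπ', Category.comp_id])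
  -- the automorphism of a point of the group
  let Θ : ∀ {T : Over S} (a : T ⟶ U), (Gerb.ptsGrp U G).obj (op (Over.mk a)) → (ob x a ⟶ ob x a) :=
    fun {T} a q => ⟨(r.iso (Over.mk a) q).hom.1,
      autO_isHomLift (A := x.obj (Over.mk a)) (R := T) (x.w_obj (Over.mk a)) (r.iso (Over.mk a) q)⟩
  have hΘinj : ∀ {T : Over S} (a : T ⟶ U) q q', Θ a q = Θ a q' → q = q' := by
    intro T a q q' h
    refine (r.iso (Over.mk a)).injective (Aut.ext (Functor.Fiber.hom_ext ?_))
    have h' := congrArg Subtype.val h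
    exact h'
  have hΘsurj : ∀ {T : Over S} (a : T ⟶ U) (θ : ob x a ⟶ ob x a), ∃ q, Θ a q = θ := by
    intro T a θ
    haveI := isIso_fiber hX θ
    haveI : IsIso θ.1 := Functor.map_isIso (Functor.Fiber.fiberInclusion (p := 𝒳.p) (S := T)) θ
    have hl : 𝒳.p.IsHomLift (𝟙 (𝒳.p.obj (x.obj (Over.mk a)))) (asIso θ.1).hom := by
      rw [x.w_obj]; exact θ.2
    let β : Gerb.AutO (x.obj (Over.mk a)) := Fib.fiberIso 𝒳.p (asIso θ.1) hl
    refine ⟨(r.iso (Over.mk a)).symm β, Subtype.ext ?_⟩
    change (r.iso (Over.mk a) ((r.iso (Over.mk a)).symm β)).hom.1 = θ.1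
    rw [MulEquiv.apply_symm_apply]
    rfl
  let G' : Over S := Over.mk (G.hom ≫ U.hom)
  let g : G' ⟶ U := Over.homMk G.hom
  let pt : ∀ {T : Over S} (v : T ⟶ G'), (Gerb.ptsGrp U G).obj (op (Over.mk (v ≫ g))) := fun v =>
    Over.homMk v.left rfl
  have hpull : ∀ {T : Over S} (v : T ⟶ G'), (yon S).map v ≫ A.sec g (Θ g (Over.homMk (𝟙 _) (Category.id_comp _))) =
      A.sec (v ≫ g) (Θ (v ≫ g) (pt v)) := by
    intro T v
    rw [A.sec_pull v rfl]
    congr 1
    refine pullM_eq hX _ _ _ _ _ ?_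
    have h := r.natural (ovHom v (rfl : v ≫ g = v ≫ g))
      (Over.homMk (𝟙 _) (Category.id_comp _) : (Over.iteratedSliceForward U).obj (Over.mk g) ⟶ G)
    have hpt : (Gerb.ptsGrp U G).map (ovHom v (rfl : v ≫ g = v ≫ g)).op
        (Over.homMk (𝟙 _) (Category.id_comp _) : (Over.iteratedSliceForward U).obj (Over.mk g) ⟶ G) = pt v := by
      apply Over.OverMorphism.ext
      change v.left ≫ 𝟙 _ = v.left
      simp
    rw [hpt] at h
    exact h
  let u := A.sec g (Θ g (Over.homMk (𝟙 _) (Category.id_comp _))) ≫ j.hom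
  let m : G' ⟶ W' := AlgSpc.pre u
  have hm : (yon S).map m = u := AlgSpc.map_pre _
  have hmπ : m ≫ π' = g := (yon S).map_injective (by
    rw [Functor.map_comp, hm, hπ']
    simp only [u, Category.assoc, Iso.hom_inv_id_assoc]
    exact A.sec_π _ _)
  -- it is an isomorphism
  obtain ⟨θ, hθ⟩ := A.exists_sec j.inv π' hπ'.symm
  obtain ⟨q, hq⟩ := hΘsurj π' θ
  let n : W' ⟶ G' := Over.homMk q.left (by
    change q.left ≫ G.hom ≫ U.hom = W'.hom
    rw [reassoc_of% (Over.w q)]
    exact Over.w π')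
  have hng : n ≫ g = π' := Over.OverMorphism.ext (Over.w q)
  have hnm : n ≫ m = 𝟙 W' := by
    apply (yon S).map_injective
    rw [Functor.map_comp, hm, CategoryTheory.Functor.map_id]
    simp only [u]
    rw [← Category.assoc, hpull]
    have key : ∀ (a : W' ⟶ U) (_ : a = π') (q' : (Gerb.ptsGrp U G).obj (op (Over.mk a))),
        q'.left = q.left → A.sec a (Θ a q') = j.inv := by
      rintro a rfl q' h
      rw [show q' = q from Over.OverMorphism.ext h, hq, hθ]
    rw [key _ hng (pt n) rfl, Iso.inv_hom_id]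
  haveI : Mono m := ⟨fun {T} v v' h => by
    have hg : v ≫ g = v' ≫ g := by rw [← hmπ, reassoc_of% h]
    have h' : (yon S).map v ≫ u = (yon S).map v' ≫ u := by
      rw [← hm, ← Functor.map_comp, ← Functor.map_comp, h]
    simp only [u, ← Category.assoc, cancel_mono] at h'
    rw [hpull, hpull] at h'
    have key : ∀ (a b : T ⟶ U) (_ : a = b) (q₁ : (Gerb.ptsGrp U G).obj (op (Over.mk a)))
        (q₂ : (Gerb.ptsGrp U G).obj (op (Over.mk b))), A.sec a (Θ a q₁) = A.sec b (Θ b q₂) →
        q₁.left = q₂.left := by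
      rintro a b rfl q₁ q₂ hs
      rw [hΘinj a q₁ q₂ (A.sec_inj a _ _ hs)]
    exact Over.OverMorphism.ext (key _ _ hg (pt v) (pt v') h')⟩
  haveI : IsSplitEpi m := ⟨⟨⟨n, hnm⟩⟩⟩
  haveI : IsIso m := isIso_of_mono_of_isSplitEpi m
  haveI : IsIso m.left := Functor.map_isIso (Over.forget S) m
  haveI : LocallyOfFiniteType G.hom := by
    have h : LocallyOfFiniteType (m.left ≫ π'.left) := inferInstance
    rwa [← Over.comp_left, hmπ] at h
  haveI : W'.left.IsQuasiAffine := hW'
  have hqG : G'.left.IsQuasiAffine := @Scheme.IsQuasiAffine.of_isAffineHom _ _ m.left inferInstance hW'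
  exact ⟨@isAffine_of_isQuasiAffine_grp k _ G _ ‹_› hqG, ‹_›⟩

end

end Groth.Agent.IsoNatSm
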