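import Groth.Agent.IsoNatSm.Smooth
import Groth.Agent.IsoNatQC.QC

/-!
# Transfer of smooth charts along isomorphisms of isomorphism classes
-/

set_option autoImplicit false
set_option backward.isDefEq.respectTransparency false
set_option backward.isDefEq.respectTransparency.types false

universe u

open CategoryTheory CategoryTheory.Limits AlgebraicGeometry Opposite

namespace Groth.Agent.IsoNatSm

open Groth.Agent.AlgStB
open _root_.AlgSp (Sp LocP yon IsFormallySmoothMor IsFormallyEtaleMor IsSurjectiveMor IsAlgSpace)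

noncomputable section

variable {S : Scheme.{u}} {𝒳 𝒴 : AlgSt.Cat S} {U : Over S}

/-- Two charts with corresponding objects induce corresponding maps of isomorphism classes. -/
theorem comm_of_objCls (h𝒴 : FibCat.IsFibGrpd 𝒴.p) (φ : IsoNat.FIso 𝒳 𝒴)
    (x : FibCat.overCat U ⥤ᵇ 𝒳) (y : FibCat.overCat U ⥤ᵇ 𝒴)
    (hxy : φ.toEquiv U (IsoNat.objCls x) = IsoNat.objCls y) (T : Over S)
    (c : IsoNat.IsoCl (FibCat.overCat U) T) :
    φ.toEquiv T (IsoNat.mapCls x T c) = IsoNat.mapCls y T c := by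
  obtain ⟨⟨z, hz⟩, rfl⟩ := Quotient.exists_rep c
  change Over U at z
  obtain rfl : z.left = T := hz
  exact cls_ob_of_objCls h𝒴 φ x y hxy z.hom

/-- The square of isomorphism classes given by two corresponding charts. -/
def chartSq (h𝒴 : FibCat.IsFibGrpd 𝒴.p) (φ : IsoNat.FIso 𝒳 𝒴)
    (x : FibCat.overCat U ⥤ᵇ 𝒳) (y : FibCat.overCat U ⥤ᵇ 𝒴)
    (hxy : φ.toEquiv U (IsoNat.objCls x) = IsoNat.objCls y) : IsoNat.FIsoSq x y where
  src := IsoNatQC.reflFIso (FibCat.overCat U)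
  tgt := φ
  comm := comm_of_objCls h𝒴 φ x y hxy

theorem isFormallySmooth_of_smooth {x : FibCat.overCat U ⥤ᵇ 𝒳}
    (hx : AlgSt.RepByAlgSpWith (LocP @Smooth) x) : AlgSt.RepByAlgSpWith IsFormallySmoothMor x :=
  fun T z => by
    obtain ⟨F, e, he, h⟩ := hx T z
    exact ⟨F, e, he, ((AlgSpFormal.locP_smooth_iff F.property (IsAlgSpace.yon_obj T)).1 h).2⟩

theorem isLfp_of_smooth {x : FibCat.overCat U ⥤ᵇ 𝒳} (hx : AlgSt.RepByAlgSpWith (LocP @Smooth) x) :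
    AlgSt.RepByAlgSpWith (LocP @LocallyOfFinitePresentation) x :=
  fun T z => by
    obtain ⟨F, e, he, h⟩ := hx T z
    exact ⟨F, e, he, ((AlgSpFormal.locP_smooth_iff F.property (IsAlgSpace.yon_obj T)).1 h).1⟩

variable (h𝒳 : AlgSt.IsAlgStack Scheme.fppfPrecoverage 𝒳)
  (h𝒴 : AlgSt.IsAlgStack Scheme.fppfPrecoverage 𝒴) (φ : IsoNat.FIso 𝒳 𝒴)

include h𝒳 h𝒴

theorem repByAlgSpWith_lfp_of_fIso
    (h𝒴i : AlgSt.RepByAlgSpWith (LocP @LocallyOfFinitePresentation)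
      (FibCat.inertiaToBase (FibCat.toSelf 𝒴)))
    (x : FibCat.overCat U ⥤ᵇ 𝒳) (y : FibCat.overCat U ⥤ᵇ 𝒴)
    (hxy : φ.toEquiv U (IsoNat.objCls x) = IsoNat.objCls y)
    (hx : AlgSt.RepByAlgSpWith (LocP @LocallyOfFinitePresentation) x) :
    AlgSt.RepByAlgSpWith (LocP @LocallyOfFinitePresentation) y := by
  refine IsoNatQC.locP_of_liftsObj h𝒴.isStack.1 y
    (repByAlgSp1_of_diag h𝒴.isStack.1 h𝒴.diag U y) ?_
  exact IsoNatQC.liftsObj_of_fIsoSq (Fib.isFibGrpd_overCat U) h𝒳.isStack.1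
    (Fib.isFibGrpd_overCat U) h𝒴.isStack.1 (chartSq h𝒴.isStack.1 φ x y hxy)
    (IsoNatQC.liftsObj_of_locP (Fib.isFibGrpd_overCat U) h𝒳.isStack.1 x hx)
    (IsoNatQC.liftsObj_of_locP (Groth.Agent.Fib.isFibGrpd_inertia _ h𝒴.isStack.1
      (Groth.Agent.Fib.preservesStronglyCartesian _ Groth.Agent.Fib.isFibGrpd_selfOver))
      h𝒴.isStack.1 _ h𝒴i)

theorem isSurjective_of_fIso (x : FibCat.overCat U ⥤ᵇ 𝒳) (y : FibCat.overCat U ⥤ᵇ 𝒴)
    (hxy : φ.toEquiv U (IsoNat.objCls x) = IsoNat.objCls y) (hx : AlgSt.IsSurjective x) :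
    AlgSt.IsSurjective y := by
  intro z
  obtain ⟨z₀, rfl⟩ := (IsoNatQC.ptHomeo h𝒳 h𝒴 φ).surjective z
  obtain ⟨v, rfl⟩ := hx z₀
  obtain ⟨p, rfl⟩ := _root_.AlgSt.Points.mk_surjective v
  refine ⟨_root_.AlgSt.Points.mk p, (IsoNatQC.ptMap_mk φ p.str
    (x := (IsoNat.fibFun x _).obj ⟨p.obj, p.lies⟩)
    (y := (IsoNat.fibFun y _).obj ⟨p.obj, p.lies⟩) ?_).symm⟩
  exact comm_of_objCls h𝒴.isStack.1 φ x y hxy _ (IsoNat.cls ⟨p.obj, p.lies⟩)

/-- Smoothness of a chart transfers. -/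
theorem repByAlgSpWith_smooth_transfer
    (h𝒴i : AlgSt.RepByAlgSpWith (LocP @LocallyOfFinitePresentation)
      (FibCat.inertiaToBase (FibCat.toSelf 𝒴)))
    (x : FibCat.overCat U ⥤ᵇ 𝒳) (y : FibCat.overCat U ⥤ᵇ 𝒴)
    (hxy : φ.toEquiv U (IsoNat.objCls x) = IsoNat.objCls y)
    (hx : AlgSt.RepByAlgSpWith (LocP @Smooth) x) : AlgSt.RepByAlgSpWith (LocP @Smooth) y :=
  repByAlgSpWith_smooth_of_fIso h𝒳 h𝒴 φ x y hxy (isFormallySmooth_of_smooth hx)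
    (repByAlgSpWith_lfp_of_fIso h𝒳 h𝒴 φ h𝒴i x y hxy (isLfp_of_smooth hx))

theorem repByAlgSpWith_surjective_transfer (x : FibCat.overCat U ⥤ᵇ 𝒳) (y : FibCat.overCat U ⥤ᵇ 𝒴)
    (hxy : φ.toEquiv U (IsoNat.objCls x) = IsoNat.objCls y)
    (hx : AlgSt.RepByAlgSpWith IsSurjectiveMor x) : AlgSt.RepByAlgSpWith IsSurjectiveMor y :=
  repWith_surjective_of_isSurjective (Fib.isFibGrpd_overCat U) h𝒴.isStack.1 y
    (repByAlgSp1_of_diag h𝒴.isStack.1 h𝒴.diag U y)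
    (isSurjective_of_fIso h𝒳 h𝒴 φ x y hxy
      (isSurjective_of_repWith (Fib.isFibGrpd_overCat U) h𝒳.isStack.1 x hx))

omit h𝒳 in
/-- A chart corresponding to a given one. -/
theorem exists_chart_of_fIso (x : FibCat.overCat U ⥤ᵇ 𝒳) :
    ∃ y : FibCat.overCat U ⥤ᵇ 𝒴, φ.toEquiv U (IsoNat.objCls x) = IsoNat.objCls y := by
  obtain ⟨ξ, hξ⟩ := Quotient.exists_rep (φ.toEquiv U (IsoNat.objCls x))
  have := Fib.isFibered_of_isFibGrpd _ h𝒴.isStack.1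
  obtain ⟨y, -, e, he⟩ := Fib.exists_basedFunctor ξ
  refine ⟨y, hξ.symm.trans (Quotient.sound ⟨Iso.symm ?_⟩)⟩
  exact
    { hom := ⟨e.hom, he⟩
      inv := ⟨e.inv, inferInstance⟩
      hom_inv_id := Subtype.ext e.hom_inv_id
      inv_hom_id := Subtype.ext e.inv_hom_id }

end

end Groth.Agent.IsoNatSm
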