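import Groth.Agent.IsoNatSm.Pull
import Groth.Agent.IsoNatSm.Charts
import Groth.Agent.Ferrand.Basic

/-!
# Automorphisms trivial on a square-zero retract descend along pinchings
-/

set_option autoImplicit false
set_option backward.isDefEq.respectTransparency false
set_option backward.isDefEq.respectTransparency.types false

universe u

open CategoryTheory CategoryTheory.Limits AlgebraicGeometry Opposite

namespace Groth.Agent.IsoNatSm

open _root_.AlgSp (Sp yon IsFormallyEtaleMor InfSq)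

noncomputable section

variable {S : Scheme.{u}} {𝒴 : AlgSt.Cat S} {U : Over S}

/-- A point of the diagonal of the fibre square of a chart lifting to a scheme. -/
structure DiagChart (h𝒴 : FibCat.IsFibGrpd 𝒴.p) (y : FibCat.overCat U ⥤ᵇ 𝒴) {P : Over S}
    (r : P ⟶ U) where
  /-- the sheaf of isomorphisms -/
  F : Sp S
  /-- the representation -/
  e : AlgSt.ofSp F ⥤ᵇ FibCat.fp y y
  he : FibCat.IsEquivOver e
  /-- the chart -/
  G : Over S
  /-- the chart map -/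
  c : (yon S).obj G ⟶ F
  hc : IsFormallyEtaleMor c
  /-- the lift of the point -/
  v : P ⟶ G
  hv : ∃ q : e.obj (⟨P, (_root_.AlgSp.J S).uliftYonedaEquiv.{u + 1} ((yon S).map v ≫ c)⟩ :
      (AlgSt.ofSp F).obj) ≅ stdPt y y r r (Iso.refl _) (IsHomLift.id (y.w_obj _)),
    (FibCat.fp y y).p.IsHomLift (𝟙 P) q.hom

variable {h𝒴 : FibCat.IsFibGrpd 𝒴.p} {y : FibCat.overCat U ⥤ᵇ 𝒴} {P : Over S} {r : P ⟶ U}
  (D : DiagChart h𝒴 y r)

/-- The iso underlying a morphism in a fibre. -/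
def fibIso (h𝒴 : FibCat.IsFibGrpd 𝒴.p) {T : Over S} {a b : 𝒴.p.Fiber T} (f : a ⟶ b) :
    a.1 ≅ b.1 :=
  haveI := f.2
  haveI := Fib.isIso_of_isHomLift 𝒴.p h𝒴 (𝟙 T) f.1
  asIso f.1

theorem fibIso_isHomLift (h𝒴 : FibCat.IsFibGrpd 𝒴.p) {T : Over S} {a b : 𝒴.p.Fiber T} (f : a ⟶ b) :
    𝒴.p.IsHomLift (𝟙 T) (fibIso h𝒴 f).hom :=
  f.2

/-- The point given by an automorphism. -/
abbrev autPt (h𝒴 : FibCat.IsFibGrpd 𝒴.p) (y : FibCat.overCat U ⥤ᵇ 𝒴) {T : Over S} (a : T ⟶ U)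
    (f : ob y a ⟶ ob y a) : (FibCat.fp y y).obj :=
  stdPt y y a a (fibIso h𝒴 f) (fibIso_isHomLift h𝒴 f)

/-- A morphism between automorphism points. -/
theorem exists_autHom {T' T : Over S} (k : T' ⟶ T) {a : T ⟶ U} {a' : T' ⟶ U} (ha : k ≫ a = a')
    (f : ob y a ⟶ ob y a) (f' : ob y a' ⟶ ob y a') (h : pullM h𝒴 y y k ha ha f = f') :
    ∃ χ : autPt h𝒴 y a' f' ⟶ autPt h𝒴 y a f, (FibCat.fp y y).p.IsHomLift k χ := by
  refine exists_stdHom y y k ha ha ?_
  subst h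
  exact (pullM_spec h𝒴 k ha ha f).symm

/-- A morphism from an automorphism point to the point of the identity. -/
theorem exists_autHom_diag {T : Over S} (k : T ⟶ P) {a : T ⟶ U} (ha : k ≫ r = a)
    (f : ob y a ⟶ ob y a) (h : f = 𝟙 _) :
    ∃ χ : autPt h𝒴 y a f ⟶ stdPt y y r r (Iso.refl _) (IsHomLift.id (y.w_obj _)),
      (FibCat.fp y y).p.IsHomLift k χ := by
  refine exists_stdHom y y k ha ha ?_
  subst h
  show y.map (ovHom k ha) ≫ 𝟙 _ = 𝟙 _ ≫ y.map (ovHom k ha)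
  rw [Category.comp_id, Category.id_comp]

variable {L : Type u} [CommRing L] {strL : Spec (CommRingCat.of L) ⟶ S}

include D in
/-- An automorphism over an affine scheme, trivial on a closed subscheme of square zero, lifts to the
chart, uniquely. -/
theorem exists_chart_lift (eL : L →+* L) (hee : eL.comp eL = eL)
    (hker : (RingHom.ker eL) ^ 2 = ⊥) (εL : Over.mk strL ⟶ Over.mk strL)
    (hεL : εL.left = Spec.map (CommRingCat.ofHom eL)) (π : Over.mk strL ⟶ P) {a : Over.mk strL ⟶ U}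
    (ha : π ≫ r = a) (hεa : εL ≫ a = a) (f : ob y a ⟶ ob y a)
    (hf : pullM h𝒴 y y εL hεa hεa f = 𝟙 _) :
    ∃! l : Over.mk strL ⟶ D.G,
      thinHom L (RingHom.ker eL) strL ≫ l = thinHom L (RingHom.ker eL) strL ≫ π ≫ D.v ∧
      ∃ q : D.e.obj (⟨Over.mk strL, (_root_.AlgSp.J S).uliftYonedaEquiv.{u + 1}
          ((yon S).map l ≫ D.c)⟩ : (AlgSt.ofSp D.F).obj) ≅ autPt h𝒴 y a f,
        (FibCat.fp y y).p.IsHomLift (𝟙 (Over.mk strL)) q.hom := by
  let j := thinHom L (RingHom.ker eL) strL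
  have hjε : j ≫ εL = j := by
    apply Over.OverMorphism.ext
    show Spec.map (CommRingCat.ofHom (Ideal.Quotient.mk (RingHom.ker eL))) ≫ εL.left = _
    rw [hεL, ← Spec.map_comp, ← CommRingCat.ofHom_comp]
    congr 2
    ext z
    refine (Ideal.Quotient.mk_eq_mk_iff_sub_mem _ _).2 ?_
    rw [RingHom.mem_ker, map_sub, ← RingHom.comp_apply, hee, sub_self]
  have hja : j ≫ a = j ≫ π ≫ r := by rw [ha]
  have hf' : pullM h𝒴 y y j hja hja f = 𝟙 _ := by
    rw [← pullM_congr h𝒴 hjε (by rw [hjε]; exact hja) (by rw [hjε]; exact hja) f,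
      ← pullM_pullM h𝒴 j εL hεa hεa hja hja _ rfl, hf, pullM_id]
  obtain ⟨qv, hqv⟩ := D.hv
  obtain ⟨s, qs, hqs⟩ := exists_section D.he (autPt h𝒴 y a f) (T := Over.mk strL) rfl
  obtain ⟨s', qs', hqs'⟩ := exists_section D.he
    (autPt h𝒴 y (j ≫ π ≫ r) (𝟙 _)) (T := thin L (RingHom.ker eL) strL) rfl
  obtain ⟨χ₁, hχ₁⟩ := exists_autHom j hja f (𝟙 _) hf'
  obtain ⟨χ₂, hχ₂⟩ := exists_autHom_diag (r := r) (j ≫ π) (a := j ≫ π ≫ r) (Category.assoc _ _ _)
    (𝟙 (ob y (j ≫ π ≫ r))) (rfl : (𝟙 _ : ob y (j ≫ π ≫ r) ⟶ _) = 𝟙 _)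
  have h₁ := section_eq D.he j qs' hqs' qs hqs χ₁ hχ₁
  have h₂ := section_eq D.he (j ≫ π) qs' hqs' qv hqv χ₂ hχ₂
  let bot : (yon S).obj (Over.mk strL) ⟶ D.F :=
    (_root_.AlgSp.J S).uliftYonedaEquiv.{u + 1}.symm s
  have hbot : (_root_.AlgSp.J S).uliftYonedaEquiv.{u + 1} bot = s := Equiv.apply_symm_apply _ _
  let sq : InfSq D.c :=
    { A := L
      commRing := inferInstance
      I := RingHom.ker eL
      sq_zero := hker
      str := strL
      top := (yon S).map (j ≫ π ≫ D.v)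
      bot := bot
      comm := by
        apply ((_root_.AlgSp.J S).uliftYonedaEquiv.{u + 1}).injective
        have e₁ := AlgSpLimit.equiv_map (j ≫ π) ((yon S).map D.v ≫ D.c)
        have e₂ := AlgSpLimit.equiv_map j bot
        rw [hbot, h₁] at e₂
        rw [h₂] at e₁
        refine Eq.trans ?_ e₂.symm
        refine Eq.trans ?_ e₁
        simp only [Functor.map_comp, Category.assoc] }
  obtain ⟨l, ⟨hl₁, hl₂⟩, hu⟩ := D.hc sq
  have hsl : ∀ l' : Over.mk strL ⟶ D.G,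
      (∃ q : D.e.obj (⟨Over.mk strL, (_root_.AlgSp.J S).uliftYonedaEquiv.{u + 1}
          ((yon S).map l' ≫ D.c)⟩ : (AlgSt.ofSp D.F).obj) ≅ autPt h𝒴 y a f,
        (FibCat.fp y y).p.IsHomLift (𝟙 (Over.mk strL)) q.hom) ↔ (yon S).map l' ≫ D.c = bot := by
    intro l'
    constructor
    · rintro ⟨q', hq'⟩
      apply ((_root_.AlgSp.J S).uliftYonedaEquiv.{u + 1}).injective
      rw [hbot]
      have h3 := section_eq D.he (𝟙 (Over.mk strL)) qs hqs q' hq' (𝟙 _)
        (IsHomLift.id (rfl : (FibCat.fp y y).p.obj (autPt h𝒴 y a f) = Over.mk strL))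
      simpa using h3
    · intro h
      rw [h, hbot]
      exact ⟨qs, hqs⟩
  refine ⟨AlgSpc.pre l, ⟨(yon S).map_injective ?_, (hsl _).2 ?_⟩, fun l' hl' => ?_⟩
  · rw [Functor.map_comp, AlgSpc.map_pre]; exact hl₁
  · rw [AlgSpc.map_pre]; exact hl₂
  · apply (yon S).map_injective
    rw [AlgSpc.map_pre]
    refine hu _ ⟨?_, (hsl l').1 hl'.2⟩
    rw [← Functor.map_comp]
    exact congrArg _ hl'.1

variable {A : Type u} [CommRing A] {str : Spec (CommRingCat.of A) ⟶ S}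

/-- The pinching of `L` along the retract. -/
def pinch (eA : A →+* A) (c : A →+* L) (eL : L →+* L) (hc : ∀ a ∈ RingHom.ker eA, c a ∈ RingHom.ker eL) :
    Subring (L × (A ⧸ RingHom.ker eA)) :=
  RingHom.eqLocus ((Ideal.Quotient.mk (RingHom.ker eL)).comp (RingHom.fst _ _))
    ((Ideal.quotientMap (RingHom.ker eL) c hc).comp (RingHom.snd _ _))

theorem pinch_square (eA : A →+* A) (c : A →+* L) (eL : L →+* L)
    (hc : ∀ a ∈ RingHom.ker eA, c a ∈ RingHom.ker eL) :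
    Ferrand.Square (Ideal.Quotient.mk (RingHom.ker eL)) (Ideal.quotientMap (RingHom.ker eL) c hc)
      ((RingHom.fst L (A ⧸ RingHom.ker eA)).comp (pinch eA c eL hc).subtype)
      ((RingHom.snd L (A ⧸ RingHom.ker eA)).comp (pinch eA c eL hc).subtype) where
  surj := Ideal.Quotient.mk_surjective
  comm z := z.2
  inj h₁ h₂ := Subtype.ext (Prod.ext h₁ h₂)
  exists_lift a b h := ⟨⟨(a, b), h⟩, rfl, rfl⟩

end

end Groth.Agent.IsoNatSm
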