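import Groth.Agent.IsoNatSm.Sep
import Groth.Agent.AlgStB.InertiaDiag
import Groth.Agent.AlgStB.DiagSep

/-!
# The space of automorphisms of an object
-/

set_option autoImplicit false
set_option backward.isDefEq.respectTransparency false
set_option backward.isDefEq.respectTransparency.types false

universe u

open CategoryTheory CategoryTheory.Limits AlgebraicGeometry Opposite

namespace Groth.Agent.IsoNatSm

open Groth.Agent.AlgStB
open _root_.AlgSp (Sp LocP RepWith yon IsAlgSpace IsSeparatedMor)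

noncomputable section

variable {S : Scheme.{u}} {𝒴 : AlgSt.Cat S} {U : Over S}

section pts

variable (h𝒴 : FibCat.IsFibGrpd 𝒴.p) (y : FibCat.overCat U ⥤ᵇ 𝒴)

/-- The inertia object of an automorphism. -/
def autObj {T : Over S} {r : T ⟶ U} (θ : ob y r ⟶ ob y r) :
    (FibCat.inertia (FibCat.toSelf 𝒴)).obj :=
  ⟨y.obj (Over.mk r), fibIso h𝒴 θ, by
    haveI := θ.2
    exact (IsHomLift.fac' 𝒴.p (𝟙 T) θ.1).trans (by simp; rfl)⟩

/-- The point of an automorphism. -/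
def autIPt {T : Over S} {r : T ⟶ U} (θ : ob y r ⟶ ob y r) : (FibCat.fp y (FibCat.inertiaToBase (FibCat.toSelf 𝒴))).obj :=
  Fib.fpMk (Over.mk r) (autObj h𝒴 y θ) (Iso.refl _) (IsHomLift.id (y.w_obj _))

variable {h𝒴} {y}

theorem exists_autIHom {T' T : Over S} (g : T' ⟶ T) {r : T ⟶ U} {r' : T' ⟶ U} (hr : g ≫ r = r')
    (θ : ob y r ⟶ ob y r) (θ' : ob y r' ⟶ ob y r') (h : pullM h𝒴 y y g hr hr θ = θ') :
    ∃ χ : autIPt h𝒴 y θ' ⟶ autIPt h𝒴 y θ, (FibCat.fp y (FibCat.inertiaToBase (FibCat.toSelf 𝒴))).p.IsHomLift g χ := by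
  subst h
  refine ⟨Fib.fpHomMk (a := autIPt h𝒴 y (pullM h𝒴 y y g hr hr θ)) (b := autIPt h𝒴 y θ) (ovHom g hr)
    (⟨y.map (ovHom g hr), pullM_spec h𝒴 g hr hr θ⟩ :
      autObj h𝒴 y (pullM h𝒴 y y g hr hr θ) ⟶ autObj h𝒴 y θ) ?_,
    (Fib.fp_isHomLift_iff _ _).2 (ovHom_isHomLift g hr)⟩
  exact (Category.comp_id _).trans (Category.id_comp _).symm

theorem of_autIHom {T' T : Over S} (g : T' ⟶ T) {r : T ⟶ U} {r' : T' ⟶ U} (θ : ob y r ⟶ ob y r)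
    (θ' : ob y r' ⟶ ob y r') (χ : autIPt h𝒴 y θ' ⟶ autIPt h𝒴 y θ)
    (hχ : (FibCat.fp y (FibCat.inertiaToBase (FibCat.toSelf 𝒴))).p.IsHomLift g χ) :
    ∃ hr : g ≫ r = r', pullM h𝒴 y y g hr hr θ = θ' := by
  have hf := (Fib.fp_isHomLift_iff _ _).1 hχ
  have hr : g ≫ r = r' := left_eq_of_isHomLift g χ.hom.fst hf
  refine ⟨hr, pullM_eq h𝒴 _ _ _ _ _ ?_⟩
  have h1 : χ.hom.fst = ovHom g hr := Over.OverMorphism.ext
    ((@IsHomLift.fac' _ _ _ _ (FibCat.overCat U).p _ _ _ _ g χ.hom.fst hf).trans (by simp; rfl))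
  have hw : y.map χ.hom.fst = χ.hom.snd.hom :=
    (Category.comp_id _).symm.trans (χ.hom.w.trans (Category.id_comp _))
  have hc := χ.hom.snd.comm
  rw [← hw, h1] at hc
  exact hc

/-- Every object over `T` is the point of an automorphism. -/
theorem exists_iso_autIPt (h𝒴 : FibCat.IsFibGrpd 𝒴.p) {T : Over S} (ξ : (FibCat.fp y (FibCat.inertiaToBase (FibCat.toSelf 𝒴))).obj)
    (hT : (FibCat.fp y (FibCat.inertiaToBase (FibCat.toSelf 𝒴))).p.obj ξ = T) :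
    ∃ (r : T ⟶ U) (θ : ob y r ⟶ ob y r) (q : ξ ≅ autIPt h𝒴 y θ),
      (FibCat.fp y (FibCat.inertiaToBase (FibCat.toSelf 𝒴))).p.IsHomLift (𝟙 T) q.hom := by
  have h₁ : ξ.obj.fst.left = T := hT
  let e₁ : ξ.obj.fst ≅ Over.mk (eqToHom h₁.symm ≫ ξ.obj.fst.hom) :=
    Over.isoMk (eqToIso h₁) (by simp)
  have he₁ : (FibCat.overCat U).p.IsHomLift (𝟙 T) e₁.hom :=
    IsHomLift.of_fac' _ _ _ h₁ rfl (by simp [e₁]; rfl)
  have hy : 𝒴.p.IsHomLift (𝟙 T) (y.toFunctor.mapIso e₁).hom :=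
    BasedFunctor.preserves_isHomLift y (𝟙 T) e₁.hom
  have hξ : 𝒴.p.IsHomLift (𝟙 T) ξ.obj.iso.hom := by
    have h := ξ.property
    subst hT
    exact h
  let a := (y.toFunctor.mapIso e₁).symm ≪≫ ξ.obj.iso
  have ha : 𝒴.p.IsHomLift (𝟙 T) a.hom := by
    have : 𝒴.p.IsHomLift (𝟙 T) (y.toFunctor.mapIso e₁).inv := inferInstance
    have : 𝒴.p.IsHomLift (𝟙 T ≫ 𝟙 T)
        ((y.toFunctor.mapIso e₁).inv ≫ ξ.obj.iso.hom) := inferInstance
    simpa [a] using this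
  let α := ξ.obj.snd.aut
  have hpt : 𝒴.p.obj ξ.obj.snd.pt = T := (Fib.fp_snd_obj ξ).trans hT
  have hα : 𝒴.p.IsHomLift (𝟙 T) α.hom := by
    refine IsHomLift.of_fac' _ _ _ hpt hpt ?_
    rw [show 𝒴.p.map α.hom = 𝟙 _ from ξ.obj.snd.map_aut]
    simp
  have hθ : 𝒴.p.IsHomLift (𝟙 T ≫ 𝟙 T ≫ 𝟙 T) (a.hom ≫ α.hom ≫ a.inv) := by
    have : 𝒴.p.IsHomLift (𝟙 T) a.inv := inferInstance
    infer_instance
  rw [Category.id_comp, Category.id_comp] at hθ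
  let θ : ob y (eqToHom h₁.symm ≫ ξ.obj.fst.hom) ⟶ ob y (eqToHom h₁.symm ≫ ξ.obj.fst.hom) :=
    ⟨a.hom ≫ α.hom ≫ a.inv, hθ⟩
  let e₂ : ξ.obj.snd ≅ autObj h𝒴 y θ :=
    { hom := ⟨a.inv, show α.hom ≫ a.inv = a.inv ≫ a.hom ≫ α.hom ≫ a.inv by simp⟩
      inv := ⟨a.hom, show (a.hom ≫ α.hom ≫ a.inv) ≫ a.hom = a.hom ≫ α.hom by simp⟩
      hom_inv_id := FibCat.InertiaObj.hom_ext a.inv_hom_id
      inv_hom_id := FibCat.InertiaObj.hom_ext a.hom_inv_id }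
  refine ⟨_, θ, Fib.fpIsoMk (a := ξ) (b := autIPt h𝒴 y θ) e₁ e₂ ?_,
    (Fib.fp_isHomLift_iff _ _).2 he₁⟩
  change y.map e₁.hom ≫ 𝟙 _ = ξ.obj.iso.hom ≫ a.inv
  simp [a]

variable {F : Sp S} {e : AlgSt.ofSp F ⥤ᵇ FibCat.fp y (FibCat.inertiaToBase (FibCat.toSelf 𝒴))}

theorem section_eqI (he : FibCat.IsEquivOver e) {T' T : Over S} (g : T' ⟶ T) {s' : F.obj.obj (op T')}
    {s : F.obj.obj (op T)} {P' P : (FibCat.fp y (FibCat.inertiaToBase (FibCat.toSelf 𝒴))).obj}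
    (q' : e.obj (⟨T', s'⟩ : (AlgSt.ofSp F).obj) ≅ P')
    (hq' : (FibCat.fp y (FibCat.inertiaToBase (FibCat.toSelf 𝒴))).p.IsHomLift (𝟙 T') q'.hom)
    (q : e.obj (⟨T, s⟩ : (AlgSt.ofSp F).obj) ≅ P) (hq : (FibCat.fp y (FibCat.inertiaToBase (FibCat.toSelf 𝒴))).p.IsHomLift (𝟙 T) q.hom)
    (χ : P' ⟶ P) (hχ : (FibCat.fp y (FibCat.inertiaToBase (FibCat.toSelf 𝒴))).p.IsHomLift g χ) : F.obj.map g.op s = s' := by
  have := Fib.full_of_isEquivOver he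
  have h₁ : (FibCat.fp y (FibCat.inertiaToBase (FibCat.toSelf 𝒴))).p.IsHomLift (𝟙 T) q.inv := inferInstance
  have h₂ : (FibCat.fp y (FibCat.inertiaToBase (FibCat.toSelf 𝒴))).p.IsHomLift (𝟙 T' ≫ g ≫ 𝟙 T) (q'.hom ≫ χ ≫ q.inv) := inferInstance
  rw [Category.id_comp, Category.comp_id] at h₂
  let χ₀ : (⟨T', s'⟩ : (AlgSt.ofSp F).obj) ⟶ ⟨T, s⟩ := e.toFunctor.preimage (q'.hom ≫ χ ≫ q.inv)
  have h' : (FibCat.fp y (FibCat.inertiaToBase (FibCat.toSelf 𝒴))).p.IsHomLift g (e.map χ₀) := by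
    rwa [Functor.map_preimage]
  have := (BasedFunctor.isHomLift_iff e g χ₀).1 h'
  have hg : χ₀.hom = g := (IsHomLift.fac' (AlgSt.ofSp F).p g χ₀).trans (by simp)
  rw [← hg]
  exact χ₀.map_sec

end pts

/-- The space of automorphisms of an object. -/
structure AutSp (h𝒴 : FibCat.IsFibGrpd 𝒴.p) (y : FibCat.overCat U ⥤ᵇ 𝒴) where
  /-- the space -/
  G : Sp S
  isAlgSpace : IsAlgSpace G
  /-- the projection -/
  π : G ⟶ (yon S).obj U
  lft : LocP @LocallyOfFiniteType π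
  separated : IsSeparatedMor π
  /-- the section of an automorphism -/
  sec : ∀ {T : Over S} (r : T ⟶ U), (ob y r ⟶ ob y r) → ((yon S).obj T ⟶ G)
  sec_π : ∀ {T : Over S} (r : T ⟶ U) (θ : ob y r ⟶ ob y r), sec r θ ≫ π = (yon S).map r
  sec_pull : ∀ {T' T : Over S} (g : T' ⟶ T) {r : T ⟶ U} {r' : T' ⟶ U} (hr : g ≫ r = r')
    (θ : ob y r ⟶ ob y r), (yon S).map g ≫ sec r θ = sec r' (pullM h𝒴 y y g hr hr θ)
  sec_inj : ∀ {T : Over S} (r : T ⟶ U) (θ θ' : ob y r ⟶ ob y r), sec r θ = sec r θ' → θ = θ'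
  exists_sec : ∀ {T : Over S} (l : (yon S).obj T ⟶ G) (r : T ⟶ U), l ≫ π = (yon S).map r →
    ∃ θ, sec r θ = l

/-- The space of automorphisms, from a representative of the base change of the inertia. -/
theorem exists_autSp_local (h𝒴 : AlgSt.IsAlgStack Scheme.fppfPrecoverage 𝒴)
    (y : FibCat.overCat U ⥤ᵇ 𝒴) (F : _root_.AlgSp.Space S)
    (e : AlgSt.ofSp F.obj ⥤ᵇ FibCat.fp y (FibCat.inertiaToBase (FibCat.toSelf 𝒴)))
    (he : FibCat.IsEquivOver e)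
    (hlft : LocP @LocallyOfFiniteType (AlgSt.spMapOfOver
      (BasedFunctor.comp e (FibCat.fpFst y (FibCat.inertiaToBase (FibCat.toSelf 𝒴))))))
    (hs : IsSeparatedMor (AlgSt.spMapOfOver
      (BasedFunctor.comp e (FibCat.fpFst y (FibCat.inertiaToBase (FibCat.toSelf 𝒴)))))) :
    ∃ A : AutSp h𝒴.isStack.1 y, ∀ Q : MorphismProperty (Sp S),
      Q (AlgSt.spMapOfOver
        (BasedFunctor.comp e (FibCat.fpFst y (FibCat.inertiaToBase (FibCat.toSelf 𝒴))))) → Q A.π := by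
  have hY := h𝒴.isStack.1
  let Φ := BasedFunctor.comp e (FibCat.fpFst y (FibCat.inertiaToBase (FibCat.toSelf 𝒴)))
  have hex : ∀ {T : Over S} (r : T ⟶ U) (θ : ob y r ⟶ ob y r),
      ∃ (l : (yon S).obj T ⟶ F.obj)
        (q : e.obj (⟨T, (_root_.AlgSp.J S).uliftYonedaEquiv.{u + 1} l⟩ : (AlgSt.ofSp F.obj).obj) ≅
          autIPt hY y θ), (FibCat.fp y _).p.IsHomLift (𝟙 T) q.hom := by
    intro T r θ
    obtain ⟨G, -, -, ⟨i⟩⟩ := Fib.exists_quasiInverse he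
    obtain ⟨el, q₀, hq₀, hel⟩ : ∃ (el : (AlgSt.ofSp F.obj).obj) (q : e.obj el ≅ autIPt hY y θ),
        (FibCat.fp y _).p.IsHomLift (𝟙 T) q.hom ∧ el.base = T :=
      ⟨G.obj (autIPt hY y θ), Fib.appIso i (autIPt hY y θ), Fib.appIso_isHomLift i (autIPt hY y θ),
        G.w_obj (autIPt hY y θ)⟩
    obtain ⟨T₀, s⟩ := el
    obtain rfl : T₀ = T := hel
    obtain ⟨l, rfl⟩ := ((_root_.AlgSp.J S).uliftYonedaEquiv.{u + 1}).surjective s
    exact ⟨l, q₀, hq₀⟩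
  choose sec q hq using @hex
  have hfst : ∀ {T : Over S} {r : T ⟶ U} (θ : ob y r ⟶ ob y r) (l : (yon S).obj T ⟶ F.obj)
      (p : e.obj (⟨T, (_root_.AlgSp.J S).uliftYonedaEquiv.{u + 1} l⟩ : (AlgSt.ofSp F.obj).obj) ≅
        autIPt hY y θ), (FibCat.fp y _).p.IsHomLift (𝟙 T) p.hom →
      l ≫ AlgSt.spMapOfOver Φ = (yon S).map r := fun {T r} θ l p hp =>
    IsoNatQC.equiv_spMap _ l r (IsoNatQC.secHom_eq Φ (⟨T, _⟩ : (AlgSt.ofSp F.obj).obj) (g := r)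
      p.hom.hom.fst ((Fib.fp_isHomLift_iff _ _).1 hp))
  refine ⟨{ G := F.obj, isAlgSpace := F.property, π := AlgSt.spMapOfOver Φ
            lft := hlft
            separated := hs, sec := @sec, sec_π := fun r θ => hfst θ _ (q r θ) (hq r θ)
            sec_pull := ?_, sec_inj := ?_, exists_sec := ?_ }, fun _ h => h⟩
  · intro T' T g r r' hr θ
    obtain ⟨χ, hχ⟩ := exists_autIHom g hr θ _ rfl
    apply ((_root_.AlgSp.J S).uliftYonedaEquiv.{u + 1}).injective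
    rw [AlgSpLimit.equiv_map]
    exact section_eqI he g (q r' _) (hq r' _) (q r θ) (hq r θ) χ hχ
  · intro T r θ θ' h
    suffices aux : ∀ (l : (yon S).obj T ⟶ F.obj), l = sec r θ' →
        ∀ p : e.obj (⟨T, (_root_.AlgSp.J S).uliftYonedaEquiv.{u + 1} l⟩ : (AlgSt.ofSp F.obj).obj) ≅
          autIPt hY y θ, (FibCat.fp y _).p.IsHomLift (𝟙 T) p.hom → θ = θ' from
      aux _ h (q r θ) (hq r θ)
    intro l hl' p hp
    subst hl'
    have : (FibCat.fp y _).p.IsHomLift (𝟙 T) p.inv := inferInstance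
    have := hq r θ'
    have hχ : (FibCat.fp y _).p.IsHomLift (𝟙 T ≫ 𝟙 T) (p.inv ≫ (q r θ').hom) := inferInstance
    rw [Category.id_comp] at hχ
    obtain ⟨_, h'⟩ := of_autIHom (𝟙 T) θ' θ (p.inv ≫ (q r θ').hom) hχ
    rw [pullM_self] at h'
    exact h'.symm
  · intro T l r hl'
    obtain ⟨r', θ, p, hp⟩ := exists_iso_autIPt hY
      (e.obj (⟨T, (_root_.AlgSp.J S).uliftYonedaEquiv.{u + 1} l⟩ : (AlgSt.ofSp F.obj).obj)) (T := T)
      (e.w_obj _)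
    obtain rfl : r' = r := (yon S).map_injective ((hfst θ l p hp).symm.trans hl')
    refine ⟨θ, ?_⟩
    apply ((_root_.AlgSp.J S).uliftYonedaEquiv.{u + 1}).injective
    have h := section_eqI he (𝟙 T) (q r' θ) (hq r' θ) p hp (𝟙 _)
      (IsHomLift.id (rfl : (FibCat.fp y _).p.obj (autIPt hY y θ) = T))
    simpa using h.symm

/-- The space of automorphisms, for an inertia with a property. -/
theorem exists_autSp_prop {P : MorphismProperty Scheme.{u}} (hP : P ≤ @LocallyOfFiniteType) (h𝒴 : AlgSt.IsAlgStack Scheme.fppfPrecoverage 𝒴)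
    (hlfp : AlgSt.RepByAlgSpWith (LocP P)
      (FibCat.inertiaToBase (FibCat.toSelf 𝒴)))
    (hsep : AlgSt.RepByAlgSpWith IsSeparatedMor (FibCat.inertiaToBase (FibCat.toSelf 𝒴)))
    (y : FibCat.overCat U ⥤ᵇ 𝒴) : ∃ A : AutSp h𝒴.isStack.1 y, LocP P A.π := by
  have hY := h𝒴.isStack.1
  obtain ⟨F, e, he, hs⟩ := hsep U y
  obtain ⟨F', e', he', hl⟩ := hlfp U y
  let Φ := BasedFunctor.comp e (FibCat.fpFst y (FibCat.inertiaToBase (FibCat.toSelf 𝒴)))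
  have hl₁ : LocP P (AlgSt.spMapOfOver Φ) :=
    (prop_spMap_iff_of_reps (LocP P)
      (FibCat.fpFst y (FibCat.inertiaToBase (FibCat.toSelf 𝒴))) e' e he' he).1 hl
  obtain ⟨A, hA⟩ := exists_autSp_local h𝒴 y F e he (AlgSpc.locP_mono hP hl₁) hs
  exact ⟨A, hA _ hl₁⟩

/-- The space of automorphisms, for an inertia locally of finite type. -/
theorem exists_autSp_lft (h𝒴 : AlgSt.IsAlgStack Scheme.fppfPrecoverage 𝒴)
    (hlft : AlgSt.RepByAlgSpWith (LocP @LocallyOfFiniteType)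
      (FibCat.inertiaToBase (FibCat.toSelf 𝒴)))
    (hsep : AlgSt.RepByAlgSpWith IsSeparatedMor (FibCat.inertiaToBase (FibCat.toSelf 𝒴)))
    (y : FibCat.overCat U ⥤ᵇ 𝒴) : Nonempty (AutSp h𝒴.isStack.1 y) :=
  (exists_autSp_prop le_rfl h𝒴 hlft hsep y).elim fun A _ => ⟨A⟩

/-- The space of automorphisms, for an inertia locally of finite presentation. -/
theorem exists_autSp (h𝒴 : AlgSt.IsAlgStack Scheme.fppfPrecoverage 𝒴)
    (hlfp : AlgSt.RepByAlgSpWith (LocP @LocallyOfFinitePresentation)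
      (FibCat.inertiaToBase (FibCat.toSelf 𝒴)))
    (hsep : AlgSt.RepByAlgSpWith IsSeparatedMor (FibCat.inertiaToBase (FibCat.toSelf 𝒴)))
    (y : FibCat.overCat U ⥤ᵇ 𝒴) : Nonempty (AutSp h𝒴.isStack.1 y) :=
  exists_autSp_lft h𝒴 (repByAlgSpWith_mono (fun _ _ _ hm => AlgSpc.locP_mono
    (fun _ _ h (hh : LocallyOfFinitePresentation h) => (inferInstance : LocallyOfFiniteType h)) hm)
    hlfp) hsep y

end

end Groth.Agent.IsoNatSm
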