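import Groth.Agent.IsoNatSm.Triangle
import Groth.Agent.AlgStB.TrivialStab
import Groth.Agent.S12761
import Groth.Agent.S12972

/-!
# Separated isomorphism classes have only clean objects
-/

set_option autoImplicit false
set_option backward.isDefEq.respectTransparency false
set_option backward.isDefEq.respectTransparency.types false

universe u

open CategoryTheory CategoryTheory.Limits AlgebraicGeometry Opposite

namespace Groth.Agent.IsoNatSm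

noncomputable section

variable {S : Scheme.{u}} {𝒴 : AlgSt.Cat S}

theorem repByAlgSp_of_sepHyp (h𝒴 : AlgSt.IsAlgStack Scheme.fppfPrecoverage 𝒴)
    (hd : AlgSt.RepByAlgSpWith (AlgSp.IsSeparatedMor ⊓ AlgSp.IsQuasiCompactMor)
      (FibCat.diag (FibCat.toSelf 𝒴)))
    (hi : AlgSt.RepByAlgSpWith (AlgSp.LocP @LocallyOfFinitePresentation)
      (FibCat.inertiaToBase (FibCat.toSelf 𝒴)))
    (hsep : SepHyp 𝒴) : AlgSt.RepByAlgSp 𝒴 := by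
  have hY := h𝒴.isStack.1
  have hds : AlgSt.RepByAlgSpWith AlgSp.IsSeparatedMor (FibCat.diag (FibCat.toSelf 𝒴)) :=
    fun T z => by
      obtain ⟨F, e, he, hP⟩ := hd T z
      exact ⟨F, e, he, hP.1⟩
  have hS : AlgSt.IsAlgStack Scheme.fppfPrecoverage (FibCat.selfOver (Over S)) :=
    AlgStB.isAlgStack_of_repByAlgSp Fib.isFibGrpd_selfOver AlgStB.repByAlgSp_selfOver
  have his : AlgSt.RepByAlgSpWith AlgSp.IsSeparatedMor (FibCat.inertiaToBase (FibCat.toSelf 𝒴)) :=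
    ((Groth.Agent.S12972.result S 𝒴 (FibCat.selfOver (Over S)) h𝒴 hS (FibCat.toSelf 𝒴)).out 1 0).1 hds
  refine AlgStB.repByAlgSp_of_trivial_geometric h𝒴 fun k _ _ s x hx ξ m σ hσ => ?_
  haveI := Fib.isFibered_of_isFibGrpd _ hY
  obtain ⟨y, -, ea, hea⟩ := Fib.exists_basedFunctor (⟨x, hx⟩ : 𝒴.p.Fiber (Over.mk s))
  obtain ⟨A⟩ := exists_autSp h𝒴 hi his y
  let r : 𝒴.p.obj ξ ⟶ Over.mk s := 𝒴.p.map m ≫ eqToHom hx
  haveI hm : 𝒴.p.IsHomLift r m := IsHomLift.of_fac' _ _ _ rfl hx (by simp [r])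
  let n := y.map (ovHom (U := Over.mk s) r (Category.comp_id r)) ≫ ea.hom
  haveI : 𝒴.p.IsHomLift r n := by
    have : 𝒴.p.IsHomLift (r ≫ 𝟙 _) n := inferInstance
    rwa [Category.comp_id] at this
  haveI := Fib.isStronglyCartesian_of_isFibGrpd 𝒴.p hY r m
  let α : y.obj (Over.mk r) ⟶ ξ := Functor.IsCartesian.map 𝒴.p r m n
  haveI : IsIso α := Fib.isIso_of_isHomLift 𝒴.p hY (𝟙 (𝒴.p.obj ξ)) α
  haveI hσ' : 𝒴.p.IsHomLift (𝟙 (𝒴.p.obj ξ)) σ :=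
    IsHomLift.of_fac' _ _ _ rfl rfl (by simp [hσ])
  haveI : 𝒴.p.IsHomLift (𝟙 (𝒴.p.obj ξ)) (inv α) := inferInstance
  have hl : 𝒴.p.IsHomLift (𝟙 (𝒴.p.obj ξ) ≫ 𝟙 _ ≫ 𝟙 _) (α ≫ σ ≫ inv α) := inferInstance
  rw [Category.id_comp, Category.id_comp] at hl
  have h := congrArg Subtype.val
    (aut_eq_id_of_separated h𝒴 hsep A r (⟨α ≫ σ ≫ inv α, hl⟩ : ob y r ⟶ ob y r))
  change α ≫ σ ≫ inv α = 𝟙 _ at h
  have h' := congrArg (fun t => inv α ≫ t ≫ α) h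
  simpa using h'

/-- Separated classes have only clean objects. -/
theorem clean_of_separated (h𝒴 : AlgSt.IsAlgStack Scheme.fppfPrecoverage 𝒴)
    (hd : AlgSt.RepByAlgSpWith (AlgSp.IsSeparatedMor ⊓ AlgSp.IsQuasiCompactMor)
      (FibCat.diag (FibCat.toSelf 𝒴)))
    (hi : AlgSt.RepByAlgSpWith (AlgSp.LocP @LocallyOfFinitePresentation)
      (FibCat.inertiaToBase (FibCat.toSelf 𝒴)))
    (hsep : ∀ (T T' : Over S) (π : T' ⟶ T) [Flat π.left] [Surjective π.left]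
      [LocallyOfFinitePresentation π.left] (x₁ x₂ : 𝒴.p.Fiber T) (x₁' x₂' : 𝒴.p.Fiber T')
      (a₁ : x₁'.1 ⟶ x₁.1) (a₂ : x₂'.1 ⟶ x₂.1), 𝒴.p.IsHomLift π a₁ → 𝒴.p.IsHomLift π a₂ →
        Nonempty (x₁' ≅ x₂') → Nonempty (x₁ ≅ x₂)) (η : 𝒴.obj) : IsoNat.IsClean η := by
  have hset := (Groth.Agent.S12761.result h𝒴).2
    (repByAlgSp_of_sepHyp h𝒴 hd hi (sepHyp_of_separated h𝒴 hsep))
  intro ξ _ σ hσ
  haveI := hset.2 (𝒴.p.obj ξ)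
  haveI h₁ : 𝒴.p.IsHomLift (𝟙 (𝒴.p.obj ξ)) σ :=
    IsHomLift.of_fac' _ _ _ rfl rfl (by simp [hσ])
  let a : 𝒴.p.Fiber (𝒴.p.obj ξ) := ⟨ξ, rfl⟩
  exact congrArg Subtype.val (Subsingleton.elim (⟨σ, h₁⟩ : a ⟶ a) (⟨𝟙 ξ, IsHomLift.id rfl⟩ : a ⟶ a))

/-- Separatedness of classes transfers. -/
theorem separated_of_fIso {𝒳 : AlgSt.Cat S} (h𝒳 : AlgSt.IsAlgStack Scheme.fppfPrecoverage 𝒳)
    (h𝒴 : AlgSt.IsAlgStack Scheme.fppfPrecoverage 𝒴) (φ : IsoNat.FIso 𝒳 𝒴)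
    (hc : ∀ η : 𝒳.obj, IsoNat.IsClean η) (T T' : Over S) (π : T' ⟶ T) [Flat π.left]
    [Surjective π.left] [LocallyOfFinitePresentation π.left] (x₁ x₂ : 𝒴.p.Fiber T)
    (x₁' x₂' : 𝒴.p.Fiber T') (a₁ : x₁'.1 ⟶ x₁.1) (a₂ : x₂'.1 ⟶ x₂.1) (h₁ : 𝒴.p.IsHomLift π a₁)
    (h₂ : 𝒴.p.IsHomLift π a₂) (hiso : Nonempty (x₁' ≅ x₂')) : Nonempty (x₁ ≅ x₂) := by
  have hX := h𝒳.isStack.1
  have hY := h𝒴.isStack.1
  let ψ := IsoNatQC.symmFIso hX hY φ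
  obtain ⟨X₁, hX₁⟩ := Quotient.exists_rep (ψ.toEquiv T (IsoNat.cls x₁))
  obtain ⟨X₂, hX₂⟩ := Quotient.exists_rep (ψ.toEquiv T (IsoNat.cls x₂))
  obtain ⟨X₁', hX₁'⟩ := Quotient.exists_rep (ψ.toEquiv T' (IsoNat.cls x₁'))
  obtain ⟨X₂', hX₂'⟩ := Quotient.exists_rep (ψ.toEquiv T' (IsoNat.cls x₂'))
  obtain ⟨b₁, hb₁⟩ := IsoNatQC.exists_hom_of_natural hX ψ π (x' := x₁') (x := x₁) a₁ h₁
    (z' := X₁') (z := X₁) hX₁'.symm hX₁.symm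
  obtain ⟨b₂, hb₂⟩ := IsoNatQC.exists_hom_of_natural hX ψ π (x' := x₂') (x := x₂) a₂ h₂
    (z' := X₂') (z := X₂) hX₂'.symm hX₂.symm
  have h' : IsoNat.cls X₁' = IsoNat.cls X₂' :=
    hX₁'.trans ((congrArg (ψ.toEquiv T') (Quotient.sound hiso)).trans hX₂'.symm)
  obtain ⟨i⟩ := separated_of_clean h𝒳 hc T T' π X₁ X₂ X₁' X₂' b₁ b₂ hb₁ hb₂ (Quotient.exact h')
  exact Quotient.exact ((ψ.toEquiv T).injective (hX₁.symm.trans ((Quotient.sound (⟨i⟩ : Nonempty (X₁ ≅ X₂)) : IsoNat.cls X₁ = IsoNat.cls X₂).trans hX₂)))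

end

end Groth.Agent.IsoNatSm
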