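import Groth.Agent.IsoNatSm.SectionLocus
import Groth.Agent.IsoNatSm.AutSp
import Groth.Agent.AlgStB.OpenSubstack
import Groth.Prelude.Def_W4c2isonaturalstkIso

/-!
# The clean locus of a stack with proper inertia
-/

set_option autoImplicit false
set_option linter.style.haveILetI false
set_option backward.isDefEq.respectTransparency false
set_option backward.isDefEq.respectTransparency.types false

universe u

open CategoryTheory CategoryTheory.Limits CategoryTheory.Functor AlgebraicGeometry Opposite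

namespace Groth.Agent.IsoNatSm

open Groth.Agent.AlgStB

variable {S : Scheme.{u}} {𝒳 : AlgSt.Cat S}

theorem repByAlgSpWith_qc_subIncl (Q : 𝒳.obj → Prop) (hpull : ∀ {a b : 𝒳.obj} (_ : a ⟶ b), Q b → Q a)
    (hopen : ∀ b : 𝒳.obj, ∃ V : (𝒳.p.obj b).left.Opens, QuasiCompact V.ι ∧ ∀ (a : 𝒳.obj) (φ : a ⟶ b),
      Q a ↔ Set.range (𝒳.p.map φ).left ⊆ (V : Set (𝒳.p.obj b).left)) :
    AlgSt.RepByAlgSpWith AlgSp.IsQuasiCompactMor (AlgSt.subIncl 𝒳 Q) := by
  intro U y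
  let b := y.obj (Over.mk (𝟙 U))
  obtain ⟨V₀, hq₀, hV₀⟩ := hopen b
  have hb : 𝒳.p.obj b = U := y.w_obj _
  let eU : U ⟶ 𝒳.p.obj b := eqToHom hb.symm
  let V : U.left.Opens := eU.left ⁻¹ᵁ V₀
  have hV : ∀ g : Over U, Q (y.obj g) ↔ Set.range g.hom.left ⊆ (V : Set U.left) := by
    intro g
    let m : g ⟶ Over.mk (𝟙 U) := Over.homMk g.hom (Category.comp_id _)
    have hm : 𝒳.p.map (y.map m) = eqToHom (y.w_obj g) ≫ g.hom ≫ eU :=
      Fib.w_map y m
    rw [hV₀ _ (y.map m), hm, Over.comp_left, Over.comp_left]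
    have hs : Function.Surjective (eqToHom (y.w_obj g)).left :=
      (inferInstance : Surjective (eqToHom (y.w_obj g)).left).surj
    simp only [Scheme.Hom.comp_base, TopCat.coe_comp]
    rw [Set.range_comp, hs.range_eq, Set.image_univ, Set.range_comp, Set.image_subset_iff]
    rfl
  let U' : Over S := Over.mk (V.ι ≫ U.hom)
  let j : U' ⟶ U := Over.homMk V.ι rfl
  have : IsOpenImmersion j.left := inferInstanceAs (IsOpenImmersion V.ι)
  have : Mono j := Over.mono_of_mono_left j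
  have hz : ∀ g : Over U', Q (y.obj ((AlgSt.overMap j).obj g)) := fun g => by
    refine (hV _).2 ?_
    change Set.range (g.hom ≫ j).left ⊆ _
    rintro _ ⟨p, rfl⟩
    exact (Scheme.Opens.range_ι V).le ⟨g.hom.left p, rfl⟩
  let z : FibCat.overCat U' ⥤ᵇ AlgSt.fullSub 𝒳 Q :=
    { toFunctor := ObjectProperty.lift Q ((AlgSt.overMap j).toFunctor ⋙ y.toFunctor) hz
      w := (BasedFunctor.comp (AlgSt.overMap j) y).w }
  let Φ : FibCat.overCat U' ⥤ᵇ FibCat.fp y (AlgSt.subIncl 𝒳 Q) :=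
    FibCat.fpLift (AlgSt.overMap j) z (Iso.refl (BasedFunctor.comp (AlgSt.overMap j) y))
  have hfaith : Φ.toFunctor.Faithful := ⟨fun {a b} f g h => by
    have h1 : (AlgSt.overMap j).map f = (AlgSt.overMap j).map g :=
      congrArg (fun m : Φ.obj a ⟶ Φ.obj b => m.hom.fst) h
    exact Over.OverMorphism.ext (congrArg CommaMorphism.left h1 :)⟩
  have hfull : Φ.toFunctor.Full := ⟨fun {a b} m => by
    let k : (AlgSt.overMap j).obj a ⟶ (AlgSt.overMap j).obj b := m.hom.fst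
    have hk : k.left ≫ b.hom = a.hom := by
      rw [← cancel_mono j, Category.assoc]
      exact Over.w k
    refine ⟨Over.homMk k.left hk, Fib.fp_hom_ext rfl (ObjectProperty.hom_ext _ ?_)⟩
    have hw : y.map k ≫ 𝟙 _ = 𝟙 _ ≫ m.hom.snd.hom := m.hom.w
    rw [Category.comp_id, Category.id_comp] at hw
    exact hw⟩
  have hΦ : FibCat.IsEquivOver Φ := by
    refine Fib.isEquivOver_of_exists_iso_over Φ fun w => ?_
    obtain ⟨⟨g, x, α⟩, hα⟩ := w
    have hg : Q (y.obj g) := hpull α.hom x.property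
    have hr := ((hV g).1 hg).trans (Scheme.Opens.range_ι V).ge
    let l : g.left.left ⟶ U'.left := IsOpenImmersion.lift V.ι g.hom.left hr
    let lg : g.left ⟶ U' := Over.homMk l (by
      change l ≫ V.ι ≫ U.hom = g.left.hom
      rw [IsOpenImmersion.lift_fac_assoc, Over.w g.hom])
    let e₁ : (AlgSt.overMap j).obj (Over.mk lg) ≅ g :=
      Over.isoMk (Iso.refl _) (by
        change 𝟙 _ ≫ g.hom = lg ≫ j
        rw [Category.id_comp]
        exact Over.OverMorphism.ext (IsOpenImmersion.lift_fac _ _ _).symm)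
    let e₂ : z.obj (Over.mk lg) ≅ x :=
      ObjectProperty.isoMk _ (y.toFunctor.mapIso e₁ ≪≫ α)
    let i : Φ.obj (Over.mk lg) ≅ (⟨⟨g, x, α⟩, hα⟩ : (FibCat.fp y (AlgSt.subIncl 𝒳 Q)).obj) :=
      Fib.fpIsoMk e₁ e₂ (by
        change y.map e₁.hom ≫ α.hom = 𝟙 _ ≫ y.map e₁.hom ≫ α.hom
        rw [Category.id_comp])
    refine ⟨_, i, Fib.fp_iso_isHomLift_id i ?_⟩
    exact IsHomLift.of_fac' _ _ _ rfl rfl (by simp [i, e₁]; rfl)
  refine ⟨⟨(AlgSp.yon S).obj U', AlgSp.IsAlgSpace.yon_obj U'⟩,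
    BasedFunctor.comp (AlgSt.toOverCat U') Φ,
    Fib.isEquivOver_comp (isEquivOver_toOverCat U') hΦ, ?_⟩
  have e : AlgSt.spMapOfOver (BasedFunctor.comp (BasedFunctor.comp (AlgSt.toOverCat U') Φ)
      (FibCat.fpFst y (AlgSt.subIncl 𝒳 Q))) = (AlgSp.yon S).map j := by
    apply ObjectProperty.hom_ext
    apply NatTrans.ext
    funext T
    ext x
    exact congrArg ULift.up (Category.id_comp _)
  rw [e]
  haveI := hq₀
  haveI : QuasiCompact V.ι := MorphismProperty.of_isPullback (P := @QuasiCompact)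
    (isPullback_morphismRestrict eU.left V₀) hq₀
  exact AlgSpc.isQuasiCompactMor_of_repWith
    ((_root_.AlgSp.repWith_yon_map_iff _ j).2 ‹QuasiCompact V.ι›)

theorem exists_clean_open (h𝒳 : AlgSt.IsAlgStack Scheme.fppfPrecoverage 𝒳)
    (h𝒳i : AlgSt.RepByAlgSpWith (AlgSp.LocP @LocallyOfFinitePresentation)
      (FibCat.inertiaToBase (FibCat.toSelf 𝒳)))
    (hpr : AlgSt.RepByAlgSpWith AlgSp.IsProperMor (FibCat.inertiaToBase (FibCat.toSelf 𝒳)))
    (b : 𝒳.obj) :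
    ∃ V : (𝒳.p.obj b).left.Opens, QuasiCompact V.ι ∧ ∀ (a : 𝒳.obj) (φ : a ⟶ b),
      IsoNat.IsClean a ↔ Set.range (𝒳.p.map φ).left ⊆ (V : Set (𝒳.p.obj b).left) := by
  have hY := h𝒳.isStack.1
  haveI := Fib.isFibered_of_isFibGrpd _ hY
  let T := 𝒳.p.obj b
  obtain ⟨y, -, ea, hea⟩ := Fib.exists_basedFunctor (⟨b, rfl⟩ : 𝒳.p.Fiber T)
  obtain ⟨F, e, he, hp⟩ := hpr T y
  obtain ⟨F', e', he', hl⟩ := h𝒳i T y
  have hlfp := (prop_spMap_iff_of_reps (AlgSp.LocP @LocallyOfFinitePresentation)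
    (FibCat.fpFst y (FibCat.inertiaToBase (FibCat.toSelf 𝒳))) e' e he' he).1 hl
  obtain ⟨A, hA⟩ := exists_autSp_local h𝒳 y F e he hp.2.1.1 hp.1
  have hpA : AlgSp.IsProperMor A.π := hA _ hp
  have hlA := hA _ hlfp
  let e₀ := A.sec (𝟙 T) (𝟙 _)
  have he₀ : e₀ ≫ A.π = 𝟙 _ := (A.sec_π _ _).trans ((_root_.AlgSp.yon S).map_id T)
  have hsec : ∀ {Z : Over S} (r : Z ⟶ T), (_root_.AlgSp.yon S).map r ≫ e₀ = A.sec r (𝟙 _) :=
    fun r => by rw [A.sec_pull r (Category.comp_id r), pullM_id]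
  let V : T.left.Opens :=
    ⟨(SecLocus.bad A.π e₀)ᶜ, (SecLocus.isClosed_bad A.isAlgSpace A.lft hpA.2.2 he₀).isOpen_compl⟩
  refine ⟨V, ?_, fun a φ => ?_⟩
  · rw [quasiCompact_iff_forall_isAffineOpen]
    intro O hO
    have hc := SecLocus.isCompact_compl_bad A.isAlgSpace hlA hpA.1 hpA.2.1.2 he₀ O hO
    rw [V.ι.isOpenEmbedding.isInducing.isCompact_iff]
    convert hc using 1
    change V.ι '' (V.ι ⁻¹' (O : Set T.left)) = _
    rw [Set.image_preimage_eq_inter_range, Scheme.Opens.range_ι, Set.inter_comm]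
    rfl
  let g : 𝒳.p.obj a ⟶ T := 𝒳.p.map φ
  haveI hφ : 𝒳.p.IsHomLift g φ := IsHomLift.of_fac' _ _ _ rfl rfl (by simp [g, T])
  haveI := hea
  constructor
  · intro hc
    rintro _ ⟨z, rfl⟩
    refine SecLocus.not_bad_of_eq_section A.isAlgSpace A.lft he₀ g (fun Z k l hl => ?_) z
    obtain ⟨θ, rfl⟩ := A.exists_sec l (k ≫ g) hl
    rw [hsec]
    congr 1
    let n := y.map (ovHom (U := T) (k ≫ g) (Category.comp_id (k ≫ g))) ≫ ea.hom
    haveI : 𝒳.p.IsHomLift (k ≫ g) n := by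
      haveI := map_ovHom_isHomLift y (k ≫ g) (Category.comp_id (k ≫ g))
      have : 𝒳.p.IsHomLift ((k ≫ g) ≫ 𝟙 _) n := inferInstance
      rwa [Category.comp_id] at this
    haveI := Fib.isStronglyCartesian_of_isFibGrpd 𝒳.p hY g φ
    let m : y.obj (Over.mk (k ≫ g)) ⟶ a :=
      Functor.IsStronglyCartesian.map 𝒳.p g φ (g := k) (f' := k ≫ g) rfl n
    refine Subtype.ext ?_
    refine hc _ m θ.1 ?_
    haveI := θ.2
    exact (IsHomLift.fac' 𝒳.p (𝟙 Z) θ.1).trans (by simp)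
  · intro hV ξ m σ hσ
    let r : 𝒳.p.obj ξ ⟶ T := 𝒳.p.map m ≫ g
    haveI hm : 𝒳.p.IsHomLift r (m ≫ φ) := IsHomLift.of_fac' _ _ _ rfl rfl (by simp [r, g, T])
    let n := y.map (ovHom (U := T) r (Category.comp_id r)) ≫ ea.hom
    haveI : 𝒳.p.IsHomLift r n := by
      haveI := map_ovHom_isHomLift y r (Category.comp_id r)
      have : 𝒳.p.IsHomLift (r ≫ 𝟙 _) n := inferInstance
      rwa [Category.comp_id] at this
    haveI := Fib.isStronglyCartesian_of_isFibGrpd 𝒳.p hY r (m ≫ φ)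
    let α : y.obj (Over.mk r) ⟶ ξ := Functor.IsCartesian.map 𝒳.p r (m ≫ φ) n
    haveI : IsIso α := Fib.isIso_of_isHomLift 𝒳.p hY (𝟙 (𝒳.p.obj ξ)) α
    haveI hσ' : 𝒳.p.IsHomLift (𝟙 (𝒳.p.obj ξ)) σ :=
      IsHomLift.of_fac' _ _ _ rfl rfl (by simp [hσ])
    haveI : 𝒳.p.IsHomLift (𝟙 (𝒳.p.obj ξ)) (inv α) := inferInstance
    have hl : 𝒳.p.IsHomLift (𝟙 (𝒳.p.obj ξ) ≫ 𝟙 _ ≫ 𝟙 _) (α ≫ σ ≫ inv α) := inferInstance
    rw [Category.id_comp, Category.id_comp] at hl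
    let θ : ob y r ⟶ ob y r := ⟨α ≫ σ ≫ inv α, hl⟩
    have hθ : θ = 𝟙 _ := A.sec_inj r _ _ ((SecLocus.eq_section_of_not_bad A.isAlgSpace A.lft he₀ r
      (fun z => hV ⟨(𝒳.p.map m).left z, rfl⟩) _ (A.sec_π r θ)).trans (hsec r))
    have h := congrArg Subtype.val hθ
    change α ≫ σ ≫ inv α = 𝟙 _ at h
    have h' := congrArg (fun t => inv α ≫ t ≫ α) h
    simpa using h'

end Groth.Agent.IsoNatSm
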