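import Groth.Agent.IsoNatSm.Trivial
import Groth.Agent.AlgStB.GeomAut
import Groth.Agent.AlgStB.Mono
import Groth.Agent.AlgStB.PointsMono
import Groth.Agent.AlgStB.SpaceStack
import Groth.Agent.S12787
import Groth.Agent.S12972
import Groth.Agent.S12974
import Groth.Agent.AlgSpLoc.Cover

/-!
# Endomorphisms of a functor trivial on a dense open space
-/

set_option autoImplicit false
set_option backward.isDefEq.respectTransparency false
set_option backward.isDefEq.respectTransparency.types false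

universe u

open CategoryTheory CategoryTheory.Limits AlgebraicGeometry Opposite

namespace Groth.Agent.IsoNatSm

open Groth.Agent.AlgStB
open _root_.AlgSp (Sp LocP RepWith yon IsAlgSpace)
open _root_.AlgSt (Points FPt)

noncomputable section

variable {S : Scheme.{u}} {𝒳 𝒴 𝒰 𝒱 : AlgSt.Cat S}

/-- Maps to a separated target with open diagonal agreeing at a dense set of points are equal. -/
theorem eq_of_dense {F G : Sp S} (f : F ⟶ G) (hsep : _root_.AlgSp.IsSeparatedMor f)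
    (hΔ : RepWith @IsOpenImmersion (pullback.diagonal f)) {T : Over S} (l l' : (yon S).obj T ⟶ F)
    (w : l ≫ f = l' ≫ f) {D : Set T.left} (hD : Dense D)
    (h : ∀ t ∈ D, ∃ (P : Over S) (g : P ⟶ T) (p : P.left), g.left p = t ∧
      (yon S).map g ≫ l = (yon S).map g ≫ l') : l = l' := by
  obtain ⟨Z, fst, snd, sq⟩ := AlgSpc.exists_sq hΔ.1 (pullback.lift l l' w)
  haveI : IsOpenImmersion snd.left := hΔ.2 _ fst snd sq
  haveI : IsClosedImmersion snd.left := hsep.2 _ fst snd sq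
  haveI : Surjective snd.left := ⟨Set.range_eq_univ.1 (by
    rw [← snd.left.isClosedEmbedding.isClosed_range.closure_eq]
    refine (hD.mono fun t ht => ?_).closure_eq
    obtain ⟨P, g, p, hp, hg⟩ := h t ht
    have hw : ((yon S).map g ≫ l) ≫ pullback.diagonal f = (yon S).map g ≫ pullback.lift l l' w := by
      apply pullback.hom_ext <;>
        simp only [Category.assoc, pullback.diagonal_fst, pullback.diagonal_snd, pullback.lift_fst,
          pullback.lift_snd, Category.comp_id]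
      exact hg
    obtain ⟨u, hu⟩ := (yon S).map_surjective (sq.lift _ _ hw)
    refine ⟨u.left p, ?_⟩
    have h2 : u ≫ snd = g := (yon S).map_injective (by rw [Functor.map_comp, hu]; exact sq.lift_snd _ _ _)
    rw [← hp, ← h2]
    rfl)⟩
  haveI : IsIso snd.left := (isIso_iff_isOpenImmersion_and_surjective _).2 ⟨inferInstance, inferInstance⟩
  haveI : IsIso ((Over.forget S).map snd) := ‹IsIso snd.left›
  haveI : IsIso snd := isIso_of_reflects_iso snd (Over.forget S)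
  have h₁ := congrArg (· ≫ pullback.fst f f) sq.w
  have h₂ := congrArg (· ≫ pullback.snd f f) sq.w
  simp only [Category.assoc, pullback.diagonal_fst, pullback.diagonal_snd, pullback.lift_fst,
    pullback.lift_snd, Category.comp_id] at h₁ h₂
  rw [← cancel_epi ((yon S).map snd)]
  exact h₁.symm.trans h₂

/-- Automorphisms of images of objects without automorphisms under monomorphisms are trivial. -/
theorem hom_eq_id_of_isMono (h𝒱 : FibCat.IsFibGrpd 𝒱.p) (h𝒱' : FibCat.IsFibSetoid 𝒱.p)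
    (h𝒴 : FibCat.IsFibGrpd 𝒴.p) (j : 𝒱 ⥤ᵇ 𝒴) (hj : AlgSt.IsMono j) (v : 𝒱.obj)
    (g : j.obj v ⟶ j.obj v) (hg : 𝒴.p.IsHomLift (𝟙 (𝒱.p.obj v)) g) : g = 𝟙 _ := by
  haveI := (full_faithful_of_isMono h𝒱 h𝒴 j hj).1
  obtain ⟨σ, rfl⟩ := j.toFunctor.map_surjective g
  haveI hσ : 𝒱.p.IsHomLift (𝟙 (𝒱.p.obj v)) σ := (BasedFunctor.isHomLift_iff j _ σ).1 hg
  let a : 𝒱.p.Fiber (𝒱.p.obj v) := ⟨v, rfl⟩
  haveI := h𝒱'.2 (𝒱.p.obj v)
  rw [show σ = 𝟙 v from congrArg Subtype.val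
    (Subsingleton.elim (⟨σ, hσ⟩ : a ⟶ a) (⟨𝟙 v, IsHomLift.id rfl⟩ : a ⟶ a))]
  exact j.toFunctor.map_id v

/-- An endomorphism trivial on a dense open space is trivial. -/
theorem endTrans_eq_id (h𝒳 : AlgSt.IsDM Scheme.fppfPrecoverage 𝒳)
    (h𝒴 : AlgSt.IsDM Scheme.fppfPrecoverage 𝒴)
    (hΔ : AlgSt.RepByAlgSpWith AlgSp.IsSeparatedMor (FibCat.diag (FibCat.toSelf 𝒴)))
    (F : 𝒳 ⥤ᵇ 𝒴) (i : 𝒰 ⥤ᵇ 𝒳) (hdense : Dense (Set.range (Points.map i)))
    (j : 𝒱 ⥤ᵇ 𝒴) (hj : AlgSt.IsOpenImm j) (h𝒱g : FibCat.IsFibGrpd 𝒱.p) (h𝒱 : AlgSt.RepByAlgSp 𝒱)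
    (h𝒰g : FibCat.IsFibGrpd 𝒰.p)
    (G : 𝒰 ⥤ᵇ 𝒱) (e : BasedFunctor.comp G j ≅ BasedFunctor.comp i F) (α : F ⟶ F) : α = 𝟙 F := by
  have hX := h𝒳.1.isStack.1
  have hY := h𝒴.1.isStack.1
  have hjm : AlgSt.IsMono j := isMono_of_repWith (fun _ _ f (_ : IsOpenImmersion f) => inferInstance) hj
  have hset := Groth.Agent.S12787.result h𝒱g h𝒱
  haveI hlift : ∀ ξ : 𝒳.obj, 𝒴.p.IsHomLift (𝟙 (𝒳.p.obj ξ)) (α.toNatTrans.app ξ) := α.isHomLift'
  -- on the open space
  have h₀ : ∀ p : 𝒰.obj, α.toNatTrans.app (i.obj p) = 𝟙 _ := by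
    intro p
    let c := Fib.appIso e p
    have hbase : 𝒳.p.obj (i.obj p) = 𝒱.p.obj (G.obj p) := (i.w_obj p).trans (G.w_obj p).symm
    have hc₁ : 𝒴.p.IsHomLift (𝟙 (𝒱.p.obj (G.obj p))) c.hom := by
      rw [G.w_obj]; exact Fib.appIso_isHomLift e p
    have hα : 𝒴.p.IsHomLift (𝟙 (𝒱.p.obj (G.obj p))) (α.toNatTrans.app (i.obj p)) := by
      rw [← hbase]; exact hlift (i.obj p)
    haveI := hc₁
    haveI := hα
    haveI : 𝒴.p.IsHomLift (𝟙 (𝒱.p.obj (G.obj p))) c.inv := inferInstance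
    have hl : 𝒴.p.IsHomLift (𝟙 (𝒱.p.obj (G.obj p)) ≫ 𝟙 _ ≫ 𝟙 _)
        (c.hom ≫ α.toNatTrans.app (i.obj p) ≫ c.inv) := inferInstance
    rw [Category.id_comp, Category.id_comp] at hl
    have h := hom_eq_id_of_isMono h𝒱g hset hY j hjm (G.obj p) _ hl
    rw [← cancel_epi c.hom, ← cancel_mono c.inv, Category.assoc, h]
    exact c.hom_inv_id.symm.trans (congrArg (· ≫ c.inv) (Category.comp_id c.hom).symm)
  -- objects with a morphism to an object where it is trivial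
  have hnat : ∀ {a b : 𝒳.obj} (m : a ⟶ b),
      α.toNatTrans.app b = 𝟙 _ → α.toNatTrans.app a = 𝟙 _ := by
    intro a b m hb
    have h := α.toNatTrans.naturality m
    rw [hb] at h
    haveI := hlift a
    haveI : 𝒴.p.IsHomLift (𝟙 (𝒳.p.obj a)) (𝟙 (F.obj a)) := IsHomLift.id (F.w_obj a)
    haveI := Fib.isStronglyCartesian_of_isFibGrpd 𝒴.p hY (𝒳.p.map m) (F.map m)
    exact Functor.IsStronglyCartesian.ext 𝒴.p (𝒳.p.map m) (F.map m) (𝟙 (𝒳.p.obj a))
      (h.symm.trans ((Category.comp_id _).trans (Category.id_comp _).symm))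
  -- on the atlas
  obtain ⟨U, x, hx, hxs⟩ := hasAtlas_etale_iff.1 h𝒳.2
  have hopen : IsOpenMap (Points.map x) := isOpenMap_map (Fib.isFibGrpd_overCat U)
    (isAlgStack_overCat U).atlas hX x
    (repByAlgSpWith_mono (fun _ _ _ hm => AlgSpc.locP_mono (fun _ _ f (_ : Etale f) => (inferInstance : Flat f)) hm) hx)
    (repByAlgSpWith_mono (fun _ _ _ hm => AlgSpc.locP_mono (fun _ _ f (_ : Etale f) => (inferInstance : LocallyOfFinitePresentation f)) hm) hx)
  have hS : AlgSt.IsAlgStack Scheme.fppfPrecoverage (FibCat.selfOver (Over S)) :=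
    isAlgStack_of_repByAlgSp Fib.isFibGrpd_selfOver repByAlgSp_selfOver
  have hun : AlgSt.RepByAlgSpWith (LocP (@LocallyOfFiniteType ⊓ @FormallyUnramified))
      (FibCat.inertiaToBase (FibCat.toSelf 𝒴)) :=
    (Groth.Agent.S12974.result S 𝒴 (FibCat.selfOver (Over S)) h𝒴.1 hS (FibCat.toSelf 𝒴)).2
      (unramified_diag_of_isDM h𝒴)
  have his : AlgSt.RepByAlgSpWith AlgSp.IsSeparatedMor (FibCat.inertiaToBase (FibCat.toSelf 𝒴)) :=
    ((Groth.Agent.S12972.result S 𝒴 (FibCat.selfOver (Over S)) h𝒴.1 hS (FibCat.toSelf 𝒴)).out 1 0).1 hΔ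
  let y := BasedFunctor.comp x F
  obtain ⟨A, hA⟩ := exists_autSp_prop (P := @LocallyOfFiniteType ⊓ @FormallyUnramified) inf_le_left
    h𝒴.1 hun his y
  have hu : _root_.AlgSp.IsFormallyUnramifiedMor A.π :=
    (AlgSpFormal.unramified_iff_locP A.isAlgSpace (IsAlgSpace.yon_obj U)).2 (AlgSpc.locP_inf.1 hA).2
  have hΔA := AlgSpFormal.openImm_diagonal A.isAlgSpace (IsAlgSpace.yon_obj U) A.lft hu
  haveI hθ0 : 𝒴.p.IsHomLift (𝟙 U) (α.toNatTrans.app (x.obj (Over.mk (𝟙 U)))) := by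
    have h := hlift (x.obj (Over.mk (𝟙 U)))
    rwa [x.w_obj] at h
  let θ : ob y (𝟙 U) ⟶ ob y (𝟙 U) := ⟨α.toNatTrans.app (x.obj (Over.mk (𝟙 U))), hθ0⟩
  have hD : Dense (Points.ofChart x ⁻¹' Set.range (Points.map i)) :=
    hdense.preimage (isOpenMap_ofChart hX x
      (repByAlgSpWith_mono (fun _ _ _ hm => AlgSpc.locP_mono (fun _ _ f (_ : Etale f) => (inferInstance : Flat f)) hm) hx)
      (repByAlgSpWith_mono (fun _ _ _ hm => AlgSpc.locP_mono (fun _ _ f (_ : Etale f) => (inferInstance : LocallyOfFinitePresentation f)) hm) hx))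
  have hsec : A.sec (𝟙 U) θ = A.sec (𝟙 U) (𝟙 _) := by
    refine eq_of_dense A.π A.separated hΔA _ _ (by rw [A.sec_π, A.sec_π]) hD fun t ht => ?_
    obtain ⟨w, hw⟩ := ht
    obtain ⟨q, rfl⟩ := Points.mk_surjective w
    obtain ⟨r, a, b, -⟩ := rel_of_mk_eq hX (q := q.map i)
      (p := ⟨U.left.residueField t, U.left.fromSpecResidueField t ≫ U.hom,
        x.obj (Over.mk (Over.homMk (U.left.fromSpecResidueField t) rfl :
          Over.mk (U.left.fromSpecResidueField t ≫ U.hom) ⟶ U)), x.w_obj _⟩) hw.symm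
    let g : (Over.mk r.str : Over S) ⟶ U := fptBase a ≫ Over.homMk (U.left.fromSpecResidueField t) rfl
    refine ⟨Over.mk r.str, g, IsLocalRing.closedPoint r.K, ?_, ?_⟩
    · show (U.left.fromSpecResidueField t) ((fptBase a).left (IsLocalRing.closedPoint r.K)) = t
      exact Scheme.fromSpecResidueField_apply _ _
    have hr : α.toNatTrans.app r.obj = 𝟙 _ := hnat b (h₀ q.obj)
    haveI := map_ovHom_isHomLift x (fptBase a) (rfl : fptBase a ≫ _ = g)
    haveI := Fib.isStronglyCartesian_of_isFibGrpd 𝒳.p hX (fptBase a) a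
    have hg : α.toNatTrans.app (x.obj (Over.mk g)) = 𝟙 _ :=
      hnat (Functor.IsCartesian.map 𝒳.p (fptBase a) a (x.map (ovHom (fptBase a) rfl))) hr
    have hp : pullM hY y y g (Category.comp_id g) (Category.comp_id g) θ = 𝟙 _ := by
      refine pullM_eq hY _ _ _ _ _ ?_
      show 𝟙 _ ≫ F.map (x.map (ovHom g _)) =
        F.map (x.map (ovHom g _)) ≫ α.toNatTrans.app (x.obj (Over.mk (𝟙 U)))
      rw [Category.id_comp, α.toNatTrans.naturality, hg]
      exact (Category.id_comp _).symm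
    rw [A.sec_pull g (Category.comp_id g), A.sec_pull g (Category.comp_id g), hp, pullM_id]
  have hθ : α.toNatTrans.app (x.obj (Over.mk (𝟙 U))) = 𝟙 _ :=
    congrArg Subtype.val (A.sec_inj _ _ _ hsec)
  have hxo : ∀ o : Over U, α.toNatTrans.app (x.obj o) = 𝟙 _ := fun o =>
    hnat (x.map (Over.homMk o.hom : o ⟶ Over.mk (𝟙 U))) hθ
  apply Fib.hom_ext'
  intro ξ
  show α.toNatTrans.app ξ = 𝟙 _
  haveI := Fib.isFibered_of_isFibGrpd _ hX
  obtain ⟨Y', -, c, hc⟩ := Fib.exists_basedFunctor (𝒳 := 𝒳) (U := 𝒳.p.obj ξ) ⟨ξ, rfl⟩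
  obtain ⟨T, k, τ, ⟨κ⟩, -, hk, hks⟩ :=
    exists_cover_point (Fib.isFibGrpd_overCat U) hX x (repByAlgSp1_of_with hx) Y'
  have : Etale k.left := hk _ hx
  have : Surjective k.left := ⟨hks hxs⟩
  refine StkGlue.hom_ext hY (R := Sieve.generate (Presieve.singleton k))
    (show Stk.IsPrestackFor (Sieve.generate (Presieve.singleton k)) 𝒴 from
      haveI : (Stk.resSieve (Sieve.generate (Presieve.singleton k)) 𝒴).IsEquivalence :=
        h𝒴.1.isStack.2 _ (AlgSpLoc.generate_singleton_mem_J k)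
      ⟨inferInstance, inferInstance⟩) _ _ (hlift ξ) (IsHomLift.id (F.w_obj ξ)) fun V h hh => ?_
  obtain ⟨_, g, _, ⟨⟩, rfl⟩ := hh
  haveI := map_ovHom_isHomLift Y' (g ≫ k) (rfl : (g ≫ k) ≫ 𝟙 _ = (g ≫ k) ≫ 𝟙 _)
  let m : Y'.obj (Over.mk (g ≫ k)) ⟶ ξ :=
    Y'.map (ovHom (g ≫ k) (Category.comp_id (g ≫ k))) ≫ c.hom
  haveI hm : 𝒳.p.IsHomLift (g ≫ k) m := by
    have := hc
    have := map_ovHom_isHomLift Y' (g ≫ k) (Category.comp_id (g ≫ k))
    exact IsHomLift.comp_lift_id_right 𝒳.p (g ≫ k) (Y'.map (ovHom (g ≫ k) _)) c.hom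
  refine ⟨_, F.map m, inferInstance, ?_⟩
  have hg : α.toNatTrans.app (Y'.obj (Over.mk (g ≫ k))) = 𝟙 _ :=
    hnat (a := Y'.obj ((AlgSt.overMap k).obj (Over.mk g))) (Fib.appIso κ (Over.mk g)).inv
      (hxo (τ.obj (Over.mk g)))
  rw [α.toNatTrans.naturality, hg]
  exact (Category.id_comp _).trans (Category.comp_id _).symm

end

end Groth.Agent.IsoNatSm
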