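import Groth.Agent.IsoNatSm.Pull
import Groth.Agent.IsoNatSm.Charts

/-!
# Twisted forms glued from automorphisms are detected by isomorphism classes
-/

set_option autoImplicit false
set_option backward.isDefEq.respectTransparency false
set_option backward.isDefEq.respectTransparency.types false

universe u

open CategoryTheory CategoryTheory.Limits AlgebraicGeometry Opposite

namespace Groth.Agent.IsoNatSm

noncomputable section

variable {S : Scheme.{u}} {𝒳 𝒴 : AlgSt.Cat S}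

theorem pullM_inv' (h𝒳 : FibCat.IsFibGrpd 𝒳.p) {Z Z' : Over S} {G : FibCat.overCat Z ⥤ᵇ 𝒳}
    {H : FibCat.overCat Z' ⥤ᵇ 𝒳} {V' V : Over S} (h : V' ⟶ V) {a : V ⟶ Z} {b : V ⟶ Z'}
    {a' : V' ⟶ Z} {b' : V' ⟶ Z'} (ha : h ≫ a = a') (hb : h ≫ b = b') (e : ob G a ⟶ ob H b) :
    pullM h𝒳 H G h hb ha (haveI := isIso_fiber h𝒳 e; inv e) =
      (haveI := isIso_fiber h𝒳 (pullM h𝒳 G H h ha hb e); inv (pullM h𝒳 G H h ha hb e)) := by
  haveI := isIso_fiber h𝒳 e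
  haveI := isIso_fiber h𝒳 (pullM h𝒳 G H h ha hb e)
  exact (IsIso.inv_eq_of_hom_inv_id (pullM_inv h𝒳 h ha hb e _ (IsIso.hom_inv_id e))).symm

theorem cls_eq_of_hom (h𝒳 : FibCat.IsFibGrpd 𝒳.p) {T : Over S} {a b : 𝒳.p.Fiber T} (f : a ⟶ b) :
    IsoNat.cls a = IsoNat.cls b :=
  haveI := isIso_fiber h𝒳 f
  Quotient.sound ⟨asIso f⟩

theorem exists_hom_of_cls {T : Over S} {a b : 𝒳.p.Fiber T} (h : IsoNat.cls a = IsoNat.cls b) :
    Nonempty (a ⟶ b) :=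
  (Quotient.exact h : IsIsomorphic a b).elim fun i => ⟨i.hom⟩

variable {U Y : Over S} {ι : Type} (O : ι → Over S) (inc : ∀ i, O i ⟶ Y)

/-- A point of `Y` lies in a member of the cover. -/
def Fac (i : ι) {V : Over S} (g : V ⟶ Y) : Prop := ∃ u : V ⟶ O i, u ≫ inc i = g

/-- The sieve of the cover. -/
def coverSieve : Sieve Y where
  arrows V := fun g => ∃ i, Fac O inc i g
  downward_closed := by
    rintro V V' g ⟨i, u, hu⟩ k
    exact ⟨i, k ≫ u, by rw [Category.assoc, hu]⟩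

theorem Fac.comp {i : ι} {V V' : Over S} {g : V ⟶ Y} (h : Fac O inc i g) (k : V' ⟶ V)
    {g' : V' ⟶ Y} (hg : k ≫ g = g') : Fac O inc i g' :=
  h.elim fun u hu => ⟨k ≫ u, by rw [Category.assoc, hu, hg]⟩

/-- Objects locally isomorphic to a pullback are isomorphic to it, when detected by a chart without
infinitesimal automorphisms. -/
theorem glue_of_fIso (h𝒳 : AlgSt.IsAlgStack Scheme.fppfPrecoverage 𝒳)
    (h𝒴 : AlgSt.IsAlgStack Scheme.fppfPrecoverage 𝒴) (φ : IsoNat.FIso 𝒳 𝒴)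
    (x : FibCat.overCat U ⥤ᵇ 𝒳) (y : FibCat.overCat U ⥤ᵇ 𝒴)
    (hxy : φ.toEquiv U (IsoNat.objCls x) = IsoNat.objCls y)
    [∀ i, Mono (inc i)] (hR : coverSieve O inc ∈ QuotSh.J Scheme.fppfPrecoverage S Y)
    (ρ : Y ⟶ U) (ε : Y ⟶ Y) (hερ : ε ≫ ρ = ρ) (hεε : ε ≫ ε = ε)
    (hεF : ∀ i ⦃V : Over S⦄ (g : V ⟶ Y), Fac O inc i g → Fac O inc i (g ≫ ε))
    (hinf : ∀ i j (t : ∀ ⦃V : Over S⦄ (g : V ⟶ Y), Fac O inc i g → Fac O inc j g →
        ∀ (b : V ⟶ U), g ≫ ρ = b → (ob x b ⟶ ob x b)),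
      (∀ ⦃W V : Over S⦄ (k : W ⟶ V) (g : V ⟶ Y) (g' : W ⟶ Y) (hg : k ≫ g = g')
        (hi : Fac O inc i g) (hj : Fac O inc j g) (b : V ⟶ U) (hb : g ≫ ρ = b) (b' : W ⟶ U)
        (hkb : k ≫ b = b'),
        pullM h𝒳.isStack.1 x x k hkb hkb (t g hi hj b hb) =
          t g' (hi.comp O inc k hg) (hj.comp O inc k hg) b'
            (by rw [← hg, Category.assoc, hb, hkb])) →
      (∀ ⦃V : Over S⦄ (g : V ⟶ Y) (hi : Fac O inc i g) (hj : Fac O inc j g) (b : V ⟶ U)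
        (hb : (g ≫ ε) ≫ ρ = b), t (g ≫ ε) (hεF i g hi) (hεF j g hj) b hb = 𝟙 _) →
      ∀ ⦃V : Over S⦄ (g : V ⟶ Y) (hi : Fac O inc i g) (hj : Fac O inc j g) (b : V ⟶ U)
        (hb : g ≫ ρ = b), t g hi hj b hb = 𝟙 _)
    (Θ : FibCat.overCat Y ⥤ᵇ 𝒴) (hl : ∀ i, Nonempty (ob Θ (inc i) ⟶ ob y (inc i ≫ ρ)))
    (hε : Nonempty (ob Θ ε ⟶ ob y ρ)) : Nonempty (ob y ρ ⟶ ob Θ (𝟙 Y)) := by
  have hX := h𝒳.isStack.1
  have hY := h𝒴.isStack.1
  let R := coverSieve O inc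
  obtain ⟨Θ', hΘ'⟩ := exists_chart_of_fIso h𝒳 (IsoNatQC.symmFIso hX hY φ) Θ
  have hΘ : φ.toEquiv Y (IsoNat.objCls Θ') = IsoNat.objCls Θ := by
    rw [← hΘ']; exact (φ.toEquiv Y).apply_symm_apply _
  have hex : ∀ {V : Over S} (a : V ⟶ Y) (b : V ⟶ U), Nonempty (ob Θ a ⟶ ob y b) →
      Nonempty (ob Θ' a ⟶ ob x b) := by
    rintro V a b ⟨m⟩
    refine exists_hom_of_cls ((φ.toEquiv V).injective ?_)
    rw [cls_ob_of_objCls hY φ Θ' Θ hΘ a, cls_ob_of_objCls hY φ x y hxy b, cls_eq_of_hom hY m]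
  let e : ∀ i, ob Θ' (inc i) ⟶ ob x (inc i ≫ ρ) := fun i =>
    (hex _ _ (hl i)).some
  let eε : ob Θ' ε ⟶ ob x ρ := (hex _ _ hε).some
  let E : ∀ i ⦃V : Over S⦄ (g : V ⟶ Y), Fac O inc i g → ∀ b : V ⟶ U, g ≫ ρ = b →
      (ob Θ' g ⟶ ob x b) := fun i V g hi b hb =>
    pullM hX Θ' x hi.choose hi.choose_spec
      (by rw [← Category.assoc, hi.choose_spec, hb]) (e i)
  have hEn : ∀ i ⦃W V : Over S⦄ (k : W ⟶ V) (g : V ⟶ Y) (g' : W ⟶ Y) (hg : k ≫ g = g')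
      (hi : Fac O inc i g) (b : V ⟶ U) (hb : g ≫ ρ = b) (b' : W ⟶ U) (hkb : k ≫ b = b'),
      pullM hX Θ' x k hg hkb (E i g hi b hb) =
        E i g' (hi.comp O inc k hg) b' (by rw [← hg, Category.assoc, hb, hkb]) := by
    intro i W V k g g' hg hi b hb b' hkb
    refine pullM_pullM hX k hi.choose _ _ _ _ _ ?_ (e i)
    rw [← cancel_mono (inc i), Category.assoc, hi.choose_spec, hg,
      (hi.comp O inc k hg).choose_spec]
  let E' : ∀ i ⦃V : Over S⦄ (g : V ⟶ Y), Fac O inc i g → ∀ b : V ⟶ U, g ≫ ρ = b →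
      (ob Θ' g ⟶ ob x b) := fun i V g hi b hb =>
    E i g hi b hb ≫
      (haveI := isIso_fiber hX (E i (g ≫ ε) (hεF i g hi) b (by rw [Category.assoc, hερ, hb]))
       inv (E i (g ≫ ε) (hεF i g hi) b (by rw [Category.assoc, hερ, hb]))) ≫
      pullM hX Θ' x g rfl hb eε
  have hE'n : ∀ i ⦃W V : Over S⦄ (k : W ⟶ V) (g : V ⟶ Y) (g' : W ⟶ Y) (hg : k ≫ g = g')
      (hi : Fac O inc i g) (b : V ⟶ U) (hb : g ≫ ρ = b) (b' : W ⟶ U) (hkb : k ≫ b = b'),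
      pullM hX Θ' x k hg hkb (E' i g hi b hb) =
        E' i g' (hi.comp O inc k hg) b' (by rw [← hg, Category.assoc, hb, hkb]) := by
    intro i W V k g g' hg hi b hb b' hkb
    simp only [E']
    rw [pullM_comp hX k hg hkb hkb, pullM_comp hX k hkb
      (show k ≫ (g ≫ ε) = g' ≫ ε by rw [← Category.assoc, hg]) hkb, pullM_inv', hEn i k g g' hg hi b hb b' hkb]
    congr 2
    · congr 1
      exact hEn i k (g ≫ ε) (g' ≫ ε) (by rw [← Category.assoc, hg]) (hεF i g hi) b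
        (by rw [Category.assoc, hερ, hb]) b' hkb
    · exact pullM_pullM hX k g _ _ _ _ g' hg eε
  have hE'ε : ∀ i ⦃V : Over S⦄ (g : V ⟶ Y) (hi : Fac O inc i g) (b : V ⟶ U)
      (hb : (g ≫ ε) ≫ ρ = b), E' i (g ≫ ε) (hεF i g hi) b hb =
        pullM hX Θ' x (g ≫ ε) (by rw [Category.assoc, hεε]) hb eε := by
    intro i V g hi b hb
    have key : ∀ (g₀ g₁ : V ⟶ Y) (h₁ : g₁ = g₀) (hi₀ : Fac O inc i g₀) (hi₁ : Fac O inc i g₁)
        (hb₀ : g₀ ≫ ρ = b) (hb₁ : g₁ ≫ ρ = b) (hε₁ : g₀ ≫ ε = g₁) (hε₀ : g₀ ≫ ε = g₀),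
        E i g₀ hi₀ b hb₀ ≫
          (haveI := isIso_fiber hX (E i g₁ hi₁ b hb₁); inv (E i g₁ hi₁ b hb₁)) ≫
            pullM hX Θ' x g₀ hε₁ hb₀ eε =
          pullM hX Θ' x g₀ hε₀ hb₀ eε := by
      intro g₀ g₁ h₁ hi₀ hi₁ hb₀ hb₁ hε₁ hε₀
      subst h₁
      simp
    exact key (g ≫ ε) ((g ≫ ε) ≫ ε) (by rw [Category.assoc, hεε]) (hεF i g hi) (hεF i _ (hεF i g hi)) hb
      (by simp only [Category.assoc, hερ] at hb ⊢; exact hb) rfl (by rw [Category.assoc, hεε])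
  have hE'eq : ∀ i j ⦃V : Over S⦄ (g : V ⟶ Y) (hi : Fac O inc i g) (hj : Fac O inc j g) (b : V ⟶ U)
      (hb : g ≫ ρ = b), E' i g hi b hb = E' j g hj b hb := by
    intro i j V g hi hj b hb
    let t : ∀ ⦃V : Over S⦄ (g : V ⟶ Y), Fac O inc i g → Fac O inc j g →
        ∀ (b : V ⟶ U), g ≫ ρ = b → (ob x b ⟶ ob x b) := fun V g hi hj b hb =>
      (haveI := isIso_fiber hX (E' i g hi b hb); inv (E' i g hi b hb)) ≫ E' j g hj b hb
    have ht := hinf i j t (fun W V k g g' hg hi hj b hb b' hkb => by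
        simp only [t]
        rw [pullM_comp hX k hkb hg hkb, pullM_inv']
        congr 1
        · congr 1; exact hE'n i k g g' hg hi b hb b' hkb
        · exact hE'n j k g g' hg hj b hb b' hkb)
      (fun V g hi hj b hb => by
        simp only [t]
        rw [IsIso.inv_comp_eq, Category.comp_id, hE'ε i g hi b hb, hE'ε j g hj b hb]) g hi hj b hb
    simp only [t] at ht
    rw [IsIso.inv_comp_eq, Category.comp_id] at ht
    exact ht.symm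
  obtain ⟨eX, -⟩ := exists_glue_pullM (G := Θ') (H := x) hX
    (show Stk.IsPrestackFor R 𝒳 from
      haveI : (Stk.resSieve R 𝒳).IsEquivalence := h𝒳.isStack.2 R hR
      ⟨inferInstance, inferInstance⟩) (a₀ := 𝟙 Y) (b₀ := ρ)
    (fun V g hg => E' hg.choose (g ≫ 𝟙 Y) (hg.choose_spec.comp O inc (𝟙 V) (by simp)) (g ≫ ρ)
      (by rw [Category.comp_id]))
    (fun W V k g hg hkg => by
      rw [hE'n hg.choose k (g ≫ 𝟙 Y) ((k ≫ g) ≫ 𝟙 Y) (Category.assoc _ _ _).symm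
        (hg.choose_spec.comp O inc (𝟙 V) (by simp)) _ _ ((k ≫ g) ≫ ρ) (Category.assoc _ _ _).symm]
      exact hE'eq _ _ _ _ _ _ _)
  have hYiso : IsoNat.cls (ob y ρ) = IsoNat.cls (ob Θ (𝟙 Y)) := by
    rw [← cls_ob_of_objCls hY φ Θ' Θ hΘ (𝟙 Y), ← cls_ob_of_objCls hY φ x y hxy ρ,
      cls_eq_of_hom hX eX]
  exact exists_hom_of_cls hYiso

/-- A twist by automorphisms is a coboundary, if objects locally isomorphic to pullbacks are pullbacks. -/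
theorem exists_coboundary (h𝒴 : AlgSt.IsAlgStack Scheme.fppfPrecoverage 𝒴) (y : FibCat.overCat U ⥤ᵇ 𝒴)
    [∀ i, Mono (inc i)] (hR : coverSieve O inc ∈ QuotSh.J Scheme.fppfPrecoverage S Y)
    (ρ : Y ⟶ U) (ε : Y ⟶ Y) (hερ : ε ≫ ρ = ρ) (hεε : ε ≫ ε = ε)
    (hεF : ∀ i ⦃V : Over S⦄ (g : V ⟶ Y), Fac O inc i g → Fac O inc i (g ≫ ε))
    (T : ∀ i j ⦃V : Over S⦄ (g : V ⟶ Y), Fac O inc i g → Fac O inc j g →
      ∀ (b : V ⟶ U), g ≫ ρ = b → (ob y b ⟶ ob y b))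
    (hTi : ∀ i ⦃V : Over S⦄ (g : V ⟶ Y) (hi : Fac O inc i g) (b : V ⟶ U) (hb : g ≫ ρ = b),
      T i i g hi hi b hb = 𝟙 _)
    (hTc : ∀ i j k ⦃V : Over S⦄ (g : V ⟶ Y) (hi : Fac O inc i g) (hj : Fac O inc j g)
      (hk : Fac O inc k g) (b : V ⟶ U) (hb : g ≫ ρ = b),
      T i j g hi hj b hb ≫ T j k g hj hk b hb = T i k g hi hk b hb)
    (hTn : ∀ i j ⦃W V : Over S⦄ (k : W ⟶ V) (g : V ⟶ Y) (g' : W ⟶ Y) (hg : k ≫ g = g')
      (hi : Fac O inc i g) (hj : Fac O inc j g) (b : V ⟶ U) (hb : g ≫ ρ = b) (b' : W ⟶ U)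
      (hkb : k ≫ b = b'),
      pullM h𝒴.isStack.1 y y k hkb hkb (T i j g hi hj b hb) =
        T i j g' (hi.comp O inc k hg) (hj.comp O inc k hg) b'
          (by rw [← hg, Category.assoc, hb, hkb]))
    (hTε : ∀ i j ⦃V : Over S⦄ (g : V ⟶ Y) (hi : Fac O inc i g) (hj : Fac O inc j g) (b : V ⟶ U)
      (hb : (g ≫ ε) ≫ ρ = b), T i j (g ≫ ε) (hεF i g hi) (hεF j g hj) b hb = 𝟙 _)
    (hglue : ∀ Θ : FibCat.overCat Y ⥤ᵇ 𝒴, (∀ i, Nonempty (ob Θ (inc i) ⟶ ob y (inc i ≫ ρ))) →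
      Nonempty (ob Θ ε ⟶ ob y ρ) → Nonempty (ob y ρ ⟶ ob Θ (𝟙 Y))) :
    ∃ F : ∀ i ⦃V : Over S⦄ (g : V ⟶ Y), Fac O inc i g → ∀ (b : V ⟶ U), g ≫ ρ = b →
        (ob y b ⟶ ob y b),
      (∀ i ⦃W V : Over S⦄ (k : W ⟶ V) (g : V ⟶ Y) (g' : W ⟶ Y) (hg : k ≫ g = g')
        (hi : Fac O inc i g) (b : V ⟶ U) (hb : g ≫ ρ = b) (b' : W ⟶ U) (hkb : k ≫ b = b'),
        pullM h𝒴.isStack.1 y y k hkb hkb (F i g hi b hb) =
          F i g' (hi.comp O inc k hg) b' (by rw [← hg, Category.assoc, hb, hkb])) ∧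
      (∀ i ⦃V : Over S⦄ (g : V ⟶ Y) (hi : Fac O inc i g) (b : V ⟶ U) (hb : (g ≫ ε) ≫ ρ = b),
        F i (g ≫ ε) (hεF i g hi) b hb = 𝟙 _) ∧
      ∀ i j ⦃V : Over S⦄ (g : V ⟶ Y) (hi : Fac O inc i g) (hj : Fac O inc j g) (b : V ⟶ U)
        (hb : g ≫ ρ = b), F i g hi b hb ≫ T i j g hi hj b hb = F j g hj b hb := by
  have hY := h𝒴.isStack.1
  let R := coverSieve O inc
  let c : ∀ s : (Stk.sieveCat R).obj, ι := fun s => s.property.choose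
  have hc : ∀ s : (Stk.sieveCat R).obj, Fac O inc (c s) s.obj.hom := fun s => s.property.choose_spec
  let D : Stk.sieveCat R ⥤ᵇ 𝒴 :=
    { toFunctor :=
        { obj := fun s => y.obj (Over.mk (s.obj.hom ≫ ρ))
          map := fun {s s'} k =>
            (T (c s) (c s') s.obj.hom (hc s) ((hc s').comp O inc k.hom.left (Over.w k.hom)) _ rfl).1 ≫
              y.map (ovHom k.hom.left
                (show k.hom.left ≫ s'.obj.hom ≫ ρ = s.obj.hom ≫ ρ by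
                  rw [← Category.assoc, Over.w k.hom]))
          map_id := fun s => by
            have h1 := hTi (c s) s.obj.hom (hc s) (s.obj.hom ≫ ρ) rfl
            refine (congrArg (fun m => m.1 ≫ _) h1).trans ?_
            refine (Category.id_comp _).trans ?_
            rw [← y.toFunctor.map_id]
            exact congrArg y.map (Over.OverMorphism.ext rfl)
          map_comp := fun {s s' s''} k l => by
            have hkl : k.hom.left ≫ s'.obj.hom ≫ ρ = s.obj.hom ≫ ρ := by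
              rw [← Category.assoc, Over.w k.hom]
            have h2 := hTn (c s') (c s'') k.hom.left s'.obj.hom s.obj.hom (Over.w k.hom) (hc s')
              ((hc s'').comp O inc l.hom.left (Over.w l.hom)) (s'.obj.hom ≫ ρ) rfl _ hkl
            have h3 := pullM_spec hY k.hom.left hkl hkl (T (c s') (c s'') s'.obj.hom (hc s')
              ((hc s'').comp O inc l.hom.left (Over.w l.hom)) (s'.obj.hom ≫ ρ) rfl)
            rw [h2] at h3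
            have hc' := congrArg Subtype.val (hTc (c s) (c s') (c s'') s.obj.hom (hc s)
              ((hc s').comp O inc k.hom.left (Over.w k.hom))
              (((hc s'').comp O inc l.hom.left (Over.w l.hom)).comp O inc k.hom.left (Over.w k.hom))
              (s.obj.hom ≫ ρ) rfl)
            have hkl' : l.hom.left ≫ s''.obj.hom ≫ ρ = s'.obj.hom ≫ ρ := by
              rw [← Category.assoc, Over.w l.hom]
            refine Eq.trans ?_ (Category.assoc _ _ _).symm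
            refine Eq.trans ?_ (congrArg (_ ≫ ·) ((reassoc_of% h3) (y.map (ovHom l.hom.left hkl'))))
            refine Eq.trans ?_ (Category.assoc _ _ _)
            refine congrArg₂ (· ≫ ·) hc'.symm ?_
            refine Eq.trans ?_ (y.toFunctor.map_comp _ _)
            exact congrArg y.map (Over.OverMorphism.ext rfl) }
      w := CategoryTheory.Functor.ext (fun s => y.w_obj _) (fun s s' k => by
        have h1 := (T (c s) (c s') s.obj.hom (hc s)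
          ((hc s').comp O inc k.hom.left (Over.w k.hom)) _ rfl).2
        have hkl : k.hom.left ≫ s'.obj.hom ≫ ρ = s.obj.hom ≫ ρ := by
          rw [← Category.assoc, Over.w k.hom]
        have h2 := map_ovHom_isHomLift y k.hom.left hkl
        have h3 : 𝒴.p.IsHomLift (𝟙 _ ≫ k.hom.left) ((T (c s) (c s') s.obj.hom (hc s)
          ((hc s').comp O inc k.hom.left (Over.w k.hom)) _ rfl).1 ≫ y.map (ovHom k.hom.left hkl)) :=
          inferInstance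
        rw [Category.id_comp] at h3
        exact IsHomLift.fac' 𝒴.p k.hom.left _) }
  haveI : (Stk.resSieve R 𝒴).IsEquivalence := h𝒴.isStack.2 R hR
  let Θ : FibCat.overCat Y ⥤ᵇ 𝒴 := (Stk.resSieve R 𝒴).objPreimage D
  let iD := (Stk.resSieve R 𝒴).objObjPreimageIso D
  let γ : ∀ ⦃V : Over S⦄ (g : V ⟶ Y) (_ : R g), ob Θ g ⟶ ob y (g ≫ ρ) := fun V g hg =>
    ⟨iD.hom.toNatTrans.app (⟨Over.mk g, hg⟩ : (Stk.sieveCat R).obj),
      iD.hom.isHomLift' (⟨Over.mk g, hg⟩ : (Stk.sieveCat R).obj)⟩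
  let δ : ∀ i ⦃V : Over S⦄ (g : V ⟶ Y), Fac O inc i g → ∀ b : V ⟶ U, g ≫ ρ = b →
      (ob Θ g ⟶ ob y b) := fun i V g hi b hb =>
    pullM hY Θ y (𝟙 V) (Category.id_comp g) (show 𝟙 V ≫ g ≫ ρ = b by rw [Category.id_comp, hb])
      (γ g ⟨i, hi⟩ ≫ T (c ⟨Over.mk g, ⟨i, hi⟩⟩) i g (hc ⟨Over.mk g, ⟨i, hi⟩⟩) hi (g ≫ ρ) rfl)
  have hδn : ∀ i ⦃W V : Over S⦄ (k : W ⟶ V) (g : V ⟶ Y) (g' : W ⟶ Y) (hg : k ≫ g = g')
      (hi : Fac O inc i g) (b : V ⟶ U) (hb : g ≫ ρ = b) (b' : W ⟶ U) (hkb : k ≫ b = b'),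
      pullM hY Θ y k hg hkb (δ i g hi b hb) =
        δ i g' (hi.comp O inc k hg) b' (by rw [← hg, Category.assoc, hb, hkb]) := by
    intro i W V k g g' hg hi b hb b' hkb
    subst hg hb hkb
    let s : (Stk.sieveCat R).obj := ⟨Over.mk g, ⟨i, hi⟩⟩
    let s' : (Stk.sieveCat R).obj := ⟨Over.mk (k ≫ g), ⟨i, hi.comp O inc k rfl⟩⟩
    let km : s' ⟶ s := ObjectProperty.homMk (Over.homMk k rfl)
    have hn := iD.hom.toNatTrans.naturality km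
    change Θ.map (Over.homMk k rfl) ≫ (γ g ⟨i, hi⟩).1 =
      (γ (k ≫ g) ⟨i, hi.comp O inc k rfl⟩).1 ≫ D.map km at hn
    have hT : pullM hY y y k (rfl : k ≫ (g ≫ ρ) = _) rfl
        (T (c s) i g (hc s) hi (g ≫ ρ) rfl) =
          T (c s) i (k ≫ g) ((hc s).comp O inc k rfl) (hi.comp O inc k rfl) _ (Category.assoc k g ρ) :=
      hTn (c s) i k g (k ≫ g) rfl (hc s) hi _ rfl _ rfl
    have hγ : pullM hY Θ y k (rfl : k ≫ g = _) (Category.assoc k g ρ).symm (γ g ⟨i, hi⟩) =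
        γ (k ≫ g) ⟨i, hi.comp O inc k rfl⟩ ≫
          T (c s') (c s) (k ≫ g) (hc s') ((hc s).comp O inc k rfl) _ rfl := by
      refine pullM_eq hY _ _ _ _ _ ?_
      change ((γ (k ≫ g) _).1 ≫ (T (c s') (c s) (k ≫ g) _ _ _ rfl).1) ≫
        y.map (ovHom k (Category.assoc k g ρ).symm) = Θ.map (ovHom k rfl) ≫ (γ g _).1
      rw [Category.assoc]
      exact hn.symm
    change pullM hY Θ y k _ _ (pullM hY Θ y (𝟙 V) _ _ _) = pullM hY Θ y (𝟙 W) _ _ _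
    rw [pullM_pullM hY k (𝟙 V) _ _ _ _ k (Category.comp_id k)]
    rw [pullM_comp hY k (rfl : k ≫ g = _) (rfl : k ≫ (g ≫ ρ) = _) rfl (γ g _) _, hT]
    have hTc' := hTc (c s') (c s) i (k ≫ g) (hc s') ((hc s).comp O inc k rfl) (hi.comp O inc k rfl)
      ((k ≫ g) ≫ ρ) rfl
    rw [← hTc', ← Category.assoc (γ (k ≫ g) _), ← hγ]
    rw [pullM_comp hY (𝟙 W) (Category.id_comp _)
      (show 𝟙 W ≫ (k ≫ g) ≫ ρ = k ≫ g ≫ ρ by simp) (show 𝟙 W ≫ (k ≫ g) ≫ ρ = k ≫ g ≫ ρ by simp),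
      pullM_pullM hY (𝟙 W) k _ _ _ _ k (Category.id_comp k),
      hTn (c s) i (𝟙 W) (k ≫ g) (k ≫ g) (Category.id_comp _) ((hc s).comp O inc k rfl)
        (hi.comp O inc k rfl) _ rfl (k ≫ g ≫ ρ) (by simp)]
  have hδT : ∀ i j ⦃V : Over S⦄ (g : V ⟶ Y) (hi : Fac O inc i g) (hj : Fac O inc j g) (b : V ⟶ U)
      (hb : g ≫ ρ = b), δ i g hi b hb ≫ T i j g hi hj b hb = δ j g hj b hb := by
    intro i j V g hi hj b hb
    subst hb
    change pullM hY Θ y (𝟙 V) _ _ _ ≫ _ = pullM hY Θ y (𝟙 V) _ _ _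
    rw [pullM_self, pullM_self, Category.assoc, hTc]
  -- the corresponding objects of `𝒳`
  have hεR : ∀ ⦃V : Over S⦄ (g : V ⟶ Y), R g → R (g ≫ ε) :=
    fun V g hg => hg.elim fun i hi => ⟨i, hεF i g hi⟩
  have hδε : ∀ i j ⦃V : Over S⦄ (g : V ⟶ Y) (hi : Fac O inc i g) (hj : Fac O inc j g) (b : V ⟶ U)
      (hb : (g ≫ ε) ≫ ρ = b), δ i (g ≫ ε) (hεF i g hi) b hb = δ j (g ≫ ε) (hεF j g hj) b hb := by
    intro i j V g hi hj b hb
    rw [← hδT i j (g ≫ ε) (hεF i g hi) (hεF j g hj) b hb, hTε i j g hi hj b hb, Category.comp_id]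
  obtain ⟨eεY, -⟩ := exists_glue_pullM (G := Θ) (H := y) hY
    ⟨inferInstance, inferInstance⟩ (R := R) (a₀ := ε) (b₀ := ρ)
    (fun V g hg => δ hg.choose (g ≫ ε) (hεF _ g hg.choose_spec) (g ≫ ρ)
      (by rw [Category.assoc, hερ]))
    (fun W V k g hg hkg => by
      rw [hδn hg.choose k (g ≫ ε) ((k ≫ g) ≫ ε) (Category.assoc _ _ _).symm (hεF _ g hg.choose_spec)
        (g ≫ ρ) (by rw [Category.assoc, hερ]) ((k ≫ g) ≫ ρ) (Category.assoc _ _ _).symm]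
      exact hδε _ _ (k ≫ g) (hg.choose_spec.comp O inc k rfl) hkg.choose_spec _ (by simp only [Category.assoc, hερ]))
  obtain ⟨eY⟩ := hglue Θ (fun i => ⟨δ i (inc i) ⟨𝟙 _, Category.id_comp _⟩ _ rfl⟩) ⟨eεY⟩
  let f : ∀ i ⦃V : Over S⦄ (g : V ⟶ Y), Fac O inc i g → ∀ (b : V ⟶ U), g ≫ ρ = b →
      (ob y b ⟶ ob y b) := fun i V g hi b hb =>
    pullM hY y Θ g hb (Category.comp_id g) eY ≫ δ i g hi b hb
  have hfn : ∀ i ⦃W V : Over S⦄ (k : W ⟶ V) (g : V ⟶ Y) (g' : W ⟶ Y) (hg : k ≫ g = g')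
      (hi : Fac O inc i g) (b : V ⟶ U) (hb : g ≫ ρ = b) (b' : W ⟶ U) (hkb : k ≫ b = b'),
      pullM hY y y k hkb hkb (f i g hi b hb) =
        f i g' (hi.comp O inc k hg) b' (by rw [← hg, Category.assoc, hb, hkb]) := by
    intro i W V k g g' hg hi b hb b' hkb
    simp only [f]
    rw [pullM_comp hY k hkb hg hkb, hδn i k g g' hg hi b hb b' hkb,
      pullM_pullM hY k g _ _ _ _ g' hg eY]
  refine ⟨fun i V g hi b hb =>
    (haveI := isIso_fiber hY (f i (g ≫ ε) (hεF i g hi) b ((Category.assoc g ε ρ).trans ((congrArg (g ≫ ·) hερ).trans hb)))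
     inv (f i (g ≫ ε) (hεF i g hi) b ((Category.assoc g ε ρ).trans ((congrArg (g ≫ ·) hερ).trans hb)))) ≫ f i g hi b hb,
    fun i W V k g g' hg hi b hb b' hkb => ?_, fun i V g hi b hb => ?_,
    fun i j V g hi hj b hb => ?_⟩
  · rw [pullM_comp hY k hkb hkb hkb, pullM_inv', hfn i k g g' hg hi b hb b' hkb]
    congr 2
    first | exact hfn i k (g ≫ ε) (g' ≫ ε) (by rw [← Category.assoc, hg]) _ _ _ _ hkb
  · have key : ∀ (g₁ : V ⟶ Y) (_ : g₁ = g ≫ ε) (hi₁ : Fac O inc i g₁) (hb₁ : g₁ ≫ ρ = b),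
        (haveI := isIso_fiber hY (f i g₁ hi₁ b hb₁); inv (f i g₁ hi₁ b hb₁)) ≫
          f i (g ≫ ε) (hεF i g hi) b hb = 𝟙 _ := by
      intro g₁ h₁ hi₁ hb₁
      subst h₁
      simp
    exact key _ (by rw [Category.assoc, hεε]) _ _
  · have h₁ : f i g hi b hb ≫ T i j g hi hj b hb = f j g hj b hb := by
      simp only [f]
      rw [Category.assoc, hδT]
    have h₂ : ∀ hb', f i (g ≫ ε) (hεF i g hi) b hb' = f j (g ≫ ε) (hεF j g hj) b hb' := by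
      intro hb'
      simp only [f]
      rw [hδε i j g hi hj b hb']
    rw [Category.assoc, h₁]
    congr 2
    exact h₂ _


/-- A twist by automorphisms, trivial after applying `ε`, is a coboundary. -/
theorem exists_trivialization (h𝒳 : AlgSt.IsAlgStack Scheme.fppfPrecoverage 𝒳)
    (h𝒴 : AlgSt.IsAlgStack Scheme.fppfPrecoverage 𝒴) (φ : IsoNat.FIso 𝒳 𝒴)
    (x : FibCat.overCat U ⥤ᵇ 𝒳) (y : FibCat.overCat U ⥤ᵇ 𝒴)
    (hxy : φ.toEquiv U (IsoNat.objCls x) = IsoNat.objCls y)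
    [∀ i, Mono (inc i)] (hR : coverSieve O inc ∈ QuotSh.J Scheme.fppfPrecoverage S Y)
    (ρ : Y ⟶ U) (ε : Y ⟶ Y) (hερ : ε ≫ ρ = ρ) (hεε : ε ≫ ε = ε)
    (hεF : ∀ i ⦃V : Over S⦄ (g : V ⟶ Y), Fac O inc i g → Fac O inc i (g ≫ ε))
    (T : ∀ i j ⦃V : Over S⦄ (g : V ⟶ Y), Fac O inc i g → Fac O inc j g →
      ∀ (b : V ⟶ U), g ≫ ρ = b → (ob y b ⟶ ob y b))
    (hTi : ∀ i ⦃V : Over S⦄ (g : V ⟶ Y) (hi : Fac O inc i g) (b : V ⟶ U) (hb : g ≫ ρ = b),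
      T i i g hi hi b hb = 𝟙 _)
    (hTc : ∀ i j k ⦃V : Over S⦄ (g : V ⟶ Y) (hi : Fac O inc i g) (hj : Fac O inc j g)
      (hk : Fac O inc k g) (b : V ⟶ U) (hb : g ≫ ρ = b),
      T i j g hi hj b hb ≫ T j k g hj hk b hb = T i k g hi hk b hb)
    (hTn : ∀ i j ⦃W V : Over S⦄ (k : W ⟶ V) (g : V ⟶ Y) (g' : W ⟶ Y) (hg : k ≫ g = g')
      (hi : Fac O inc i g) (hj : Fac O inc j g) (b : V ⟶ U) (hb : g ≫ ρ = b) (b' : W ⟶ U)
      (hkb : k ≫ b = b'),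
      pullM h𝒴.isStack.1 y y k hkb hkb (T i j g hi hj b hb) =
        T i j g' (hi.comp O inc k hg) (hj.comp O inc k hg) b'
          (by rw [← hg, Category.assoc, hb, hkb]))
    (hTε : ∀ i j ⦃V : Over S⦄ (g : V ⟶ Y) (hi : Fac O inc i g) (hj : Fac O inc j g) (b : V ⟶ U)
      (hb : (g ≫ ε) ≫ ρ = b), T i j (g ≫ ε) (hεF i g hi) (hεF j g hj) b hb = 𝟙 _)
    (hinf : ∀ i j (t : ∀ ⦃V : Over S⦄ (g : V ⟶ Y), Fac O inc i g → Fac O inc j g →
        ∀ (b : V ⟶ U), g ≫ ρ = b → (ob x b ⟶ ob x b)),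
      (∀ ⦃W V : Over S⦄ (k : W ⟶ V) (g : V ⟶ Y) (g' : W ⟶ Y) (hg : k ≫ g = g')
        (hi : Fac O inc i g) (hj : Fac O inc j g) (b : V ⟶ U) (hb : g ≫ ρ = b) (b' : W ⟶ U)
        (hkb : k ≫ b = b'),
        pullM h𝒳.isStack.1 x x k hkb hkb (t g hi hj b hb) =
          t g' (hi.comp O inc k hg) (hj.comp O inc k hg) b'
            (by rw [← hg, Category.assoc, hb, hkb])) →
      (∀ ⦃V : Over S⦄ (g : V ⟶ Y) (hi : Fac O inc i g) (hj : Fac O inc j g) (b : V ⟶ U)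
        (hb : (g ≫ ε) ≫ ρ = b), t (g ≫ ε) (hεF i g hi) (hεF j g hj) b hb = 𝟙 _) →
      ∀ ⦃V : Over S⦄ (g : V ⟶ Y) (hi : Fac O inc i g) (hj : Fac O inc j g) (b : V ⟶ U)
        (hb : g ≫ ρ = b), t g hi hj b hb = 𝟙 _) :
    ∃ F : ∀ i ⦃V : Over S⦄ (g : V ⟶ Y), Fac O inc i g → ∀ (b : V ⟶ U), g ≫ ρ = b →
        (ob y b ⟶ ob y b),
      (∀ i ⦃W V : Over S⦄ (k : W ⟶ V) (g : V ⟶ Y) (g' : W ⟶ Y) (hg : k ≫ g = g')
        (hi : Fac O inc i g) (b : V ⟶ U) (hb : g ≫ ρ = b) (b' : W ⟶ U) (hkb : k ≫ b = b'),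
        pullM h𝒴.isStack.1 y y k hkb hkb (F i g hi b hb) =
          F i g' (hi.comp O inc k hg) b' (by rw [← hg, Category.assoc, hb, hkb])) ∧
      (∀ i ⦃V : Over S⦄ (g : V ⟶ Y) (hi : Fac O inc i g) (b : V ⟶ U) (hb : (g ≫ ε) ≫ ρ = b),
        F i (g ≫ ε) (hεF i g hi) b hb = 𝟙 _) ∧
      ∀ i j ⦃V : Over S⦄ (g : V ⟶ Y) (hi : Fac O inc i g) (hj : Fac O inc j g) (b : V ⟶ U)
        (hb : g ≫ ρ = b), F i g hi b hb ≫ T i j g hi hj b hb = F j g hj b hb :=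
  exists_coboundary O inc h𝒴 y hR ρ ε hερ hεε hεF T hTi hTc hTn hTε fun Θ hl hε =>
    glue_of_fIso O inc h𝒳 h𝒴 φ x y hxy hR ρ ε hερ hεε hεF hinf Θ hl hε

/-- Objects Zariski locally isomorphic are isomorphic, for finite covers by open subschemes. -/
def SepHyp (𝒴 : AlgSt.Cat S) : Prop :=
  ∀ ⦃U Y : Over S⦄ ⦃ι : Type⦄ [Finite ι] (O : ι → Over S) (inc : ∀ i, O i ⟶ Y),
    (∀ i, IsOpenImmersion (inc i).left) → (∀ t, ∃ i p, (inc i).left p = t) →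
      ∀ (y : FibCat.overCat U ⥤ᵇ 𝒴) (ρ : Y ⟶ U) (Θ : FibCat.overCat Y ⥤ᵇ 𝒴),
        (∀ i, Nonempty (ob Θ (inc i) ⟶ ob y (inc i ≫ ρ))) → Nonempty (ob y ρ ⟶ ob Θ (𝟙 Y))

/-- The reasons for which twists are coboundaries: classes are separated, or correspond to those of a
chart without infinitesimal automorphisms. -/
def InfSrc (y : FibCat.overCat U ⥤ᵇ 𝒴) : Prop :=
  SepHyp 𝒴 ∨ ∃ (𝒳 : AlgSt.Cat S) (h𝒳 : AlgSt.IsAlgStack Scheme.fppfPrecoverage 𝒳)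
      (φ : IsoNat.FIso 𝒳 𝒴) (x : FibCat.overCat U ⥤ᵇ 𝒳),
    φ.toEquiv U (IsoNat.objCls x) = IsoNat.objCls y ∧
    ∀ (B : Type u) [CommRing B] (str : Spec (CommRingCat.of B) ⟶ S) (e : B →+* B),
      e.comp e = e → (RingHom.ker e) ^ 2 = ⊥ →
      ∀ (ε : Over.mk str ⟶ Over.mk str), ε.left = Spec.map (CommRingCat.ofHom e) →
      ∀ (r : Over.mk str ⟶ U) (hr : ε ≫ r = r) (t : ob x r ⟶ ob x r),
        pullM h𝒳.isStack.1 x x ε hr hr t = 𝟙 _ → t = 𝟙 _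

end

end Groth.Agent.IsoNatSm
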