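import Groth.Agent.IsoNatQC.Lfp

/-!
# Elements of a representing sheaf of a fibre product of two charts
-/

set_option autoImplicit false
set_option backward.isDefEq.respectTransparency false
set_option backward.isDefEq.respectTransparency.types false

universe u

open CategoryTheory CategoryTheory.Limits AlgebraicGeometry Opposite

namespace Groth.Agent.IsoNatSm

open _root_.AlgSp (Sp yon)

noncomputable section

variable {S : Scheme.{u}} {𝒴 : AlgSt.Cat S} {U W : Over S}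

/-- The object of a point. -/
abbrev ob (y : FibCat.overCat U ⥤ᵇ 𝒴) {T : Over S} (a : T ⟶ U) : 𝒴.p.Fiber T :=
  ⟨y.obj (Over.mk a), y.w_obj (Over.mk a)⟩

/-- The morphism of points over a morphism of schemes. -/
def ovHom {T' T : Over S} (g : T' ⟶ T) {a' : T' ⟶ U} {a : T ⟶ U} (h : g ≫ a = a') :
    (Over.mk a' : (FibCat.overCat U).obj) ⟶ Over.mk a :=
  Over.homMk g h

instance ovHom_isHomLift {T' T : Over S} (g : T' ⟶ T) {a' : T' ⟶ U} {a : T ⟶ U} (h : g ≫ a = a') :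
    (FibCat.overCat U).p.IsHomLift g (ovHom g h) :=
  IsHomLift.of_fac' _ _ _ rfl rfl (by simp [ovHom]; rfl)

variable (y : FibCat.overCat U ⥤ᵇ 𝒴) (w : FibCat.overCat W ⥤ᵇ 𝒴)

instance map_ovHom_isHomLift {T' T : Over S} (g : T' ⟶ T) {a' : T' ⟶ U} {a : T ⟶ U}
    (h : g ≫ a = a') : 𝒴.p.IsHomLift g (y.map (ovHom g h)) :=
  BasedFunctor.preserves_isHomLift y g _

/-- A point of the fibre product. -/
def stdPt {T : Over S} (a : T ⟶ U) (b : T ⟶ W) (δ : y.obj (Over.mk a) ≅ w.obj (Over.mk b))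
    (hδ : 𝒴.p.IsHomLift (𝟙 T) δ.hom) : (FibCat.fp y w).obj :=
  Fib.fpMk (Over.mk a) (Over.mk b) δ hδ

/-- A morphism of points of the fibre product. -/
theorem exists_stdHom {T' T : Over S} (g : T' ⟶ T) {a' : T' ⟶ U} {b' : T' ⟶ W}
    {δ' : y.obj (Over.mk a') ≅ w.obj (Over.mk b')} {hδ' : 𝒴.p.IsHomLift (𝟙 T') δ'.hom}
    {a : T ⟶ U} {b : T ⟶ W} {δ : y.obj (Over.mk a) ≅ w.obj (Over.mk b)}
    {hδ : 𝒴.p.IsHomLift (𝟙 T) δ.hom} (ha : g ≫ a = a') (hb : g ≫ b = b')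
    (hw : y.map (ovHom g ha) ≫ δ.hom = δ'.hom ≫ w.map (ovHom g hb)) :
    ∃ χ : stdPt y w a' b' δ' hδ' ⟶ stdPt y w a b δ hδ, (FibCat.fp y w).p.IsHomLift g χ :=
  ⟨Fib.fpHomMk (a := stdPt y w a' b' δ' hδ') (b := stdPt y w a b δ hδ) (ovHom g ha) (ovHom g hb) hw,
    (Fib.fp_isHomLift_iff _ _).2 (ovHom_isHomLift g ha)⟩

theorem left_eq_of_isHomLift {T' T : Over S} {a' : T' ⟶ U} {a : T ⟶ U} (g : T' ⟶ T)
    (φ : (Over.mk a' : (FibCat.overCat U).obj) ⟶ Over.mk a)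
    (hφ : (FibCat.overCat U).p.IsHomLift g φ) : g ≫ a = a' := by
  have h : φ.left = g := by
    refine (IsHomLift.fac' (FibCat.overCat U).p g φ).trans ?_
    simp
  rw [← h]
  exact Over.w φ

/-- The components of a morphism of points. -/
theorem of_stdHom {T' T : Over S} (g : T' ⟶ T) {a' : T' ⟶ U} {b' : T' ⟶ W}
    {δ' : y.obj (Over.mk a') ≅ w.obj (Over.mk b')} {hδ' : 𝒴.p.IsHomLift (𝟙 T') δ'.hom}
    {a : T ⟶ U} {b : T ⟶ W} {δ : y.obj (Over.mk a) ≅ w.obj (Over.mk b)}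
    {hδ : 𝒴.p.IsHomLift (𝟙 T) δ.hom}
    (χ : stdPt y w a' b' δ' hδ' ⟶ stdPt y w a b δ hδ) (hχ : (FibCat.fp y w).p.IsHomLift g χ) :
    g ≫ a = a' ∧ g ≫ b = b' :=
  ⟨left_eq_of_isHomLift g χ.hom.fst ((Fib.fp_isHomLift_iff _ _).1 hχ),
    left_eq_of_isHomLift g χ.hom.snd (Fib.fp_isHomLift_snd _ χ)⟩

/-- Every object of the fibre product over `T` is a point. -/
theorem exists_iso_stdPt {T : Over S} (ξ : (FibCat.fp y w).obj)
    (hT : (FibCat.fp y w).p.obj ξ = T) :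
    ∃ (a : T ⟶ U) (b : T ⟶ W) (δ : y.obj (Over.mk a) ≅ w.obj (Over.mk b))
      (hδ : 𝒴.p.IsHomLift (𝟙 T) δ.hom) (q : ξ ≅ stdPt y w a b δ hδ),
      (FibCat.fp y w).p.IsHomLift (𝟙 T) q.hom := by
  have h₁ : ξ.obj.fst.left = T := hT
  have h₂ : ξ.obj.snd.left = T := (Fib.fp_snd_obj ξ).trans hT
  let e₁ : ξ.obj.fst ≅ Over.mk (eqToHom h₁.symm ≫ ξ.obj.fst.hom) :=
    Over.isoMk (eqToIso h₁) (by simp)
  let e₂ : ξ.obj.snd ≅ Over.mk (eqToHom h₂.symm ≫ ξ.obj.snd.hom) :=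
    Over.isoMk (eqToIso h₂) (by simp)
  have he₁ : (FibCat.overCat U).p.IsHomLift (𝟙 T) e₁.hom :=
    IsHomLift.of_fac' _ _ _ h₁ rfl (by simp [e₁]; rfl)
  have he₂ : (FibCat.overCat W).p.IsHomLift (𝟙 T) e₂.hom :=
    IsHomLift.of_fac' _ _ _ h₂ rfl (by simp [e₂]; rfl)
  have hy : 𝒴.p.IsHomLift (𝟙 T) (y.toFunctor.mapIso e₁).hom :=
    BasedFunctor.preserves_isHomLift y (𝟙 T) e₁.hom
  have hw : 𝒴.p.IsHomLift (𝟙 T) (w.toFunctor.mapIso e₂).hom :=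
    BasedFunctor.preserves_isHomLift w (𝟙 T) e₂.hom
  have hξ : 𝒴.p.IsHomLift (𝟙 T) ξ.obj.iso.hom := by
    have h := ξ.property
    subst hT
    exact h
  let δ := (y.toFunctor.mapIso e₁).symm ≪≫ ξ.obj.iso ≪≫ w.toFunctor.mapIso e₂
  have hδ : 𝒴.p.IsHomLift (𝟙 T) δ.hom := by
    have h : 𝒴.p.IsHomLift (𝟙 T) (y.toFunctor.mapIso e₁).inv := inferInstance
    have : 𝒴.p.IsHomLift (𝟙 T ≫ 𝟙 T ≫ 𝟙 T)
        ((y.toFunctor.mapIso e₁).inv ≫ ξ.obj.iso.hom ≫ (w.toFunctor.mapIso e₂).hom) := inferInstance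
    simpa [δ] using this
  refine ⟨_, _, δ, hδ, Fib.fpIsoMk (a := ξ) (b := stdPt y w _ _ δ hδ) e₁ e₂ ?_,
    (Fib.fp_isHomLift_iff _ _).2 he₁⟩
  change y.map e₁.hom ≫ δ.hom = ξ.obj.iso.hom ≫ w.map e₂.hom
  simp [δ]

section elements

variable {F : Sp S} {y} {w} {e : AlgSt.ofSp F ⥤ᵇ FibCat.fp y w}

/-- Sections are compared by morphisms of their images. -/
theorem section_eq (he : FibCat.IsEquivOver e) {T' T : Over S} (g : T' ⟶ T) {s' : F.obj.obj (op T')}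
    {s : F.obj.obj (op T)} {P' P : (FibCat.fp y w).obj}
    (q' : e.obj (⟨T', s'⟩ : (AlgSt.ofSp F).obj) ≅ P')
    (hq' : (FibCat.fp y w).p.IsHomLift (𝟙 T') q'.hom)
    (q : e.obj (⟨T, s⟩ : (AlgSt.ofSp F).obj) ≅ P) (hq : (FibCat.fp y w).p.IsHomLift (𝟙 T) q.hom)
    (χ : P' ⟶ P) (hχ : (FibCat.fp y w).p.IsHomLift g χ) : F.obj.map g.op s = s' := by
  have := Fib.full_of_isEquivOver he
  have h₁ : (FibCat.fp y w).p.IsHomLift (𝟙 T) q.inv := inferInstance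
  have h₂ : (FibCat.fp y w).p.IsHomLift (𝟙 T' ≫ g ≫ 𝟙 T) (q'.hom ≫ χ ≫ q.inv) := inferInstance
  rw [Category.id_comp, Category.comp_id] at h₂
  let χ₀ : (⟨T', s'⟩ : (AlgSt.ofSp F).obj) ⟶ ⟨T, s⟩ := e.toFunctor.preimage (q'.hom ≫ χ ≫ q.inv)
  have h' : (FibCat.fp y w).p.IsHomLift g (e.map χ₀) := by
    rwa [Functor.map_preimage]
  have := (BasedFunctor.isHomLift_iff e g χ₀).1 h'
  have hg : χ₀.hom = g := (IsHomLift.fac' (AlgSt.ofSp F).p g χ₀).trans (by simp)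
  rw [← hg]
  exact χ₀.map_sec

/-- Restriction of sections gives morphisms of points. -/
theorem exists_hom_of_map {T' T : Over S} (g : T' ⟶ T) {s' : F.obj.obj (op T')}
    {s : F.obj.obj (op T)} (h : F.obj.map g.op s = s') {P' P : (FibCat.fp y w).obj}
    (q' : e.obj (⟨T', s'⟩ : (AlgSt.ofSp F).obj) ≅ P')
    (hq' : (FibCat.fp y w).p.IsHomLift (𝟙 T') q'.hom)
    (q : e.obj (⟨T, s⟩ : (AlgSt.ofSp F).obj) ≅ P)
    (hq : (FibCat.fp y w).p.IsHomLift (𝟙 T) q.hom) :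
    ∃ χ : P' ⟶ P, (FibCat.fp y w).p.IsHomLift g χ := by
  have h₀ : (AlgSt.ofSp F).p.IsHomLift g (IsoNatQC.eltHom g s s' h) :=
    IsHomLift.of_fac' _ _ _ rfl rfl (by simp [IsoNatQC.eltHom])
  have h₁ : (FibCat.fp y w).p.IsHomLift g (e.map (IsoNatQC.eltHom g s s' h)) :=
    BasedFunctor.preserves_isHomLift e g _
  have h₂ : (FibCat.fp y w).p.IsHomLift (𝟙 T' ≫ g ≫ 𝟙 T)
      (q'.inv ≫ e.map (IsoNatQC.eltHom g s s' h) ≫ q.hom) := inferInstance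
  rw [Category.id_comp, Category.comp_id] at h₂
  exact ⟨_, h₂⟩

/-- Every object over `T` comes from a section. -/
theorem exists_section (he : FibCat.IsEquivOver e) {T : Over S} (ξ : (FibCat.fp y w).obj)
    (hT : (FibCat.fp y w).p.obj ξ = T) :
    ∃ (s : F.obj.obj (op T)) (q : e.obj (⟨T, s⟩ : (AlgSt.ofSp F).obj) ≅ ξ),
      (FibCat.fp y w).p.IsHomLift (𝟙 T) q.hom := by
  obtain ⟨G, -, -, ⟨i⟩⟩ := Fib.exists_quasiInverse he
  obtain ⟨el, q₀, hq₀, hel⟩ : ∃ (el : (AlgSt.ofSp F).obj) (q : e.obj el ≅ ξ),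
      (FibCat.fp y w).p.IsHomLift (𝟙 T) q.hom ∧ el.base = T := by
    subst hT
    exact ⟨G.obj ξ, Fib.appIso i ξ, Fib.appIso_isHomLift i ξ, G.w_obj ξ⟩
  obtain ⟨T₀, s⟩ := el
  obtain rfl : T₀ = T := hel
  exact ⟨s, q₀, hq₀⟩

/-- The two projections of a section. -/
theorem exists_pt_of_section {T : Over S} (s : F.obj.obj (op T)) :
    ∃ (a : T ⟶ U) (b : T ⟶ W) (δ : y.obj (Over.mk a) ≅ w.obj (Over.mk b))
      (hδ : 𝒴.p.IsHomLift (𝟙 T) δ.hom)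
      (q : e.obj (⟨T, s⟩ : (AlgSt.ofSp F).obj) ≅ stdPt y w a b δ hδ),
      (FibCat.fp y w).p.IsHomLift (𝟙 T) q.hom :=
  exists_iso_stdPt y w _ (e.w_obj _)

/-- The first projection of a section, on maps of sheaves. -/
theorem comp_spMap_fst {T : Over S} (x : (yon S).obj T ⟶ F) {a : T ⟶ U} {b : T ⟶ W}
    {δ : y.obj (Over.mk a) ≅ w.obj (Over.mk b)} {hδ : 𝒴.p.IsHomLift (𝟙 T) δ.hom}
    (q : e.obj (⟨T, (_root_.AlgSp.J S).uliftYonedaEquiv.{u + 1} x⟩ : (AlgSt.ofSp F).obj) ≅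
      stdPt y w a b δ hδ)
    (hq : (FibCat.fp y w).p.IsHomLift (𝟙 T) q.hom) :
    x ≫ AlgSt.spMapOfOver (BasedFunctor.comp e (FibCat.fpFst y w)) = (yon S).map a :=
  IsoNatQC.equiv_spMap _ x a
    (IsoNatQC.secHom_eq (BasedFunctor.comp e (FibCat.fpFst y w))
      (⟨T, _⟩ : (AlgSt.ofSp F).obj) (g := a) q.hom.hom.fst ((Fib.fp_isHomLift_iff _ _).1 hq))

end elements

end

end Groth.Agent.IsoNatSm
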