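import Groth.Agent.IsoNatSm.Unramified
import Groth.Agent.AlgStB.FpAlgebraic
import Groth.Agent.AlgStB.TargetDescent

/-!
# Etaleness of charts is determined by isomorphism classes
-/

set_option autoImplicit false
set_option backward.isDefEq.respectTransparency false

universe u

open CategoryTheory CategoryTheory.Limits AlgebraicGeometry Opposite

namespace Groth.Agent.IsoNatSm

open Groth.Agent.AlgStB
open _root_.AlgSp (Sp LocP yon IsFormallyUnramifiedMor IsEtaleMor IsAlgSpace)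

noncomputable section

variable {S : Scheme.{u}} {𝒳 𝒴 : AlgSt.Cat S} {U : Over S}

/-- A point of a stack corresponding to an etale one is etale. -/
theorem repByAlgSpWith_etale_transfer (h𝒳 : AlgSt.IsAlgStack Scheme.fppfPrecoverage 𝒳)
    (h𝒴 : AlgSt.IsAlgStack Scheme.fppfPrecoverage 𝒴) (φ : IsoNat.FIso 𝒳 𝒴)
    (h𝒴i : AlgSt.RepByAlgSpWith (LocP @LocallyOfFinitePresentation)
      (FibCat.inertiaToBase (FibCat.toSelf 𝒴)))
    (x : FibCat.overCat U ⥤ᵇ 𝒳) (y : FibCat.overCat U ⥤ᵇ 𝒴)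
    (hxy : φ.toEquiv U (IsoNat.objCls x) = IsoNat.objCls y)
    (hx : AlgSt.RepByAlgSpWith IsEtaleMor x) : AlgSt.RepByAlgSpWith IsEtaleMor y := by
  have hsm : AlgSt.RepByAlgSpWith (LocP @Smooth) x := fun T z => by
    obtain ⟨F, e, he, h⟩ := hx T z
    exact ⟨F, e, he, AlgSpc.locP_mono (fun _ _ k (hk : Etale k) => inferInstanceAs (Smooth k))
      ((AlgSpc.isEtaleMor_iff_locP F.property (IsAlgSpace.yon_obj T)).1 h)⟩
  have hun : AlgSt.RepByAlgSpWith IsFormallyUnramifiedMor x := fun T z => by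
    obtain ⟨F, e, he, h⟩ := hx T z
    exact ⟨F, e, he, AlgSpFormal.unramified_of_etale
      (AlgSpFormal.etale_of_isEtaleMor F.property (IsAlgSpace.yon_obj T) h)⟩
  have hys := repByAlgSpWith_smooth_transfer h𝒳 h𝒴 φ h𝒴i x y hxy hsm
  have hyu := repByAlgSpWith_unramified_of_fIso h𝒳 h𝒴 φ x y hxy hun (isLfp_of_smooth hys)
  intro T z
  obtain ⟨F, e, he, h₁⟩ := hys T z
  obtain ⟨F', e', he', h₂⟩ := hyu T z
  have hu : IsFormallyUnramifiedMor (AlgSt.spMapOfOver (BasedFunctor.comp e (FibCat.fpFst z y))) :=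
    (AlgSpFormal.unramified_iff_locP F.property (IsAlgSpace.yon_obj T)).2 (AlgSpc.locP_inf.1
      ((prop_spMap_iff_of_reps (LocP (@LocallyOfFiniteType ⊓ @FormallyUnramified))
        (FibCat.fpFst z y) e' e he' he).1 h₂)).2
  obtain ⟨hlfp, hs⟩ := (AlgSpFormal.locP_smooth_iff F.property (IsAlgSpace.yon_obj T)).1 h₁
  refine ⟨F, e, he, (AlgSpc.isEtaleMor_iff_locP F.property (IsAlgSpace.yon_obj T)).2
    ((AlgSpFormal.locP_etale_iff F.property (IsAlgSpace.yon_obj T)).2 ⟨hlfp, fun sq => ?_⟩)⟩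
  obtain ⟨l, hl⟩ := hs sq
  exact ⟨l, hl, fun l' hl' => hu sq l' l hl'.1 hl'.2 hl.1 hl.2⟩

end

end Groth.Agent.IsoNatSm
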