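import Groth.Agent.IsoNatSm.Descent
import Groth.Agent.AlgSpLoc.Glue
import Mathlib.RingTheory.MvPolynomial.Basic

/-!
# Twisting along the punctured plane
-/

set_option autoImplicit false
set_option backward.isDefEq.respectTransparency false
set_option backward.isDefEq.respectTransparency.types false

universe u

open CategoryTheory CategoryTheory.Limits AlgebraicGeometry Opposite

namespace Groth.Agent.IsoNatSm

noncomputable section

variable {A : Type u} [CommRing A]

/-- The twist `a ↦ f (e a) + w f (a - e a)`. -/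
def twistHom {C : Type u} [CommRing C] (f : A →+* C) (e : A →+* A)
    (hsq : ∀ a b : A, (a - e a) * (b - e b) = 0) (w : C) : A →+* C where
  toFun a := f (e a) + w * f (a - e a)
  map_one' := by simp
  map_zero' := by simp
  map_add' a b := by simp only [map_add, map_sub]; ring
  map_mul' a b := by
    have h : f (a - e a) * f (b - e b) = 0 := by rw [← map_mul, hsq, map_zero]
    have h' : f (a * b - e (a * b)) = f (e a) * f (b - e b) + f (a - e a) * f (e b) := by
      rw [← map_mul, ← map_mul, ← map_add]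
      congr 1
      rw [map_mul]
      linear_combination hsq a b
    rw [h', map_mul e, map_mul f]
    linear_combination (-w * w) * h

variable {S : Scheme.{u}} {U : Over S}

/-- A scheme over the base with the same base change under an endomorphism. -/
abbrev algOver (str : Spec (CommRingCat.of A) ⟶ S) {C : Type u} [CommRing C] (f : A →+* C) : Over S :=
  Over.mk (Spec.map (CommRingCat.ofHom f) ≫ str)

/-- The morphism over the base of a ring map. -/
abbrev algHom (str : Spec (CommRingCat.of A) ⟶ S) {C C' : Type u} [CommRing C] [CommRing C']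
    {f : A →+* C} {f' : A →+* C'} (g : C →+* C')
    (h : Spec.map (CommRingCat.ofHom (g.comp f)) ≫ str = Spec.map (CommRingCat.ofHom f') ≫ str) :
    algOver str f' ⟶ algOver str f :=
  Over.homMk (Spec.map (CommRingCat.ofHom g)) (by
    show Spec.map (CommRingCat.ofHom g) ≫ Spec.map (CommRingCat.ofHom f) ≫ str = _
    rw [← Spec.map_comp_assoc, ← CommRingCat.ofHom_comp]
    exact h)

/-- The point on a thickening after a ring map. -/
abbrev algPt (str : Spec (CommRingCat.of A) ⟶ S) (r : Over.mk str ⟶ U) {C : Type u} [CommRing C]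
    (f : A →+* C) : algOver str f ⟶ U :=
  (Over.homMk (Spec.map (CommRingCat.ofHom f)) rfl : algOver str f ⟶ Over.mk str) ≫ r

section Geometry

open MvPolynomial

variable (m : (MvPolynomial Bool A))

theorem range_away :
    Set.range (Spec.map (CommRingCat.ofHom (algebraMap (MvPolynomial Bool A) (Localization.Away m)))) =
      ((PrimeSpectrum.basicOpen m : TopologicalSpace.Opens (PrimeSpectrum (MvPolynomial Bool A))) :
        Set (PrimeSpectrum (MvPolynomial Bool A))) :=
  PrimeSpectrum.localization_away_comap_range (Localization.Away m) m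

theorem isOpenImmersion_away :
    IsOpenImmersion (Spec.map (CommRingCat.ofHom (algebraMap (MvPolynomial Bool A) (Localization.Away m)))) :=
  IsOpenImmersion.of_isLocalization m

variable (e : A →+* A) (hm : MvPolynomial.map e m = m)

/-- The endomorphism of a localization. -/
def awayMap : Localization.Away m →+* Localization.Away m :=
  IsLocalization.Away.lift m (g := (algebraMap (MvPolynomial Bool A) (Localization.Away m)).comp (MvPolynomial.map e))
    (by rw [RingHom.comp_apply, hm]; exact IsLocalization.Away.algebraMap_isUnit m)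

theorem awayMap_algebraMap (p : (MvPolynomial Bool A)) :
    awayMap m e hm (algebraMap (MvPolynomial Bool A) (Localization.Away m) p) =
      algebraMap (MvPolynomial Bool A) (Localization.Away m) (MvPolynomial.map e p) :=
  IsLocalization.Away.lift_eq m _ p

theorem awayMap_idem (hee : e.comp e = e) :
    (awayMap m e hm).comp (awayMap m e hm) = awayMap m e hm := by
  refine IsLocalization.ringHom_ext (Submonoid.powers m) (RingHom.ext fun p => ?_)
  simp only [RingHom.comp_apply, awayMap_algebraMap, MvPolynomial.map_map, hee]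

theorem ker_awayMap_sq (hee : e.comp e = e) (hker : (RingHom.ker e) ^ 2 = ⊥) :
    (RingHom.ker (awayMap m e hm)) ^ 2 = ⊥ := by
  let c : A →+* Localization.Away m := (algebraMap (MvPolynomial Bool A) (Localization.Away m)).comp MvPolynomial.C
  have hle : RingHom.ker (awayMap m e hm) ≤ (RingHom.ker e).map c := by
    intro z hz
    rw [RingHom.mem_ker] at hz
    obtain ⟨⟨p, s⟩, hs⟩ := IsLocalization.surj (Submonoid.powers m) z
    have hu : IsUnit (algebraMap (MvPolynomial Bool A) (Localization.Away m) s) := IsLocalization.map_units _ s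
    refine (Ideal.mul_unit_mem_iff_mem _ hu).1 ?_
    have h₁ : algebraMap (MvPolynomial Bool A) (Localization.Away m) (MvPolynomial.map e p) = 0 := by
      rw [← awayMap_algebraMap m e hm, ← hs, map_mul, hz, zero_mul]
    have h₂ : p - MvPolynomial.map e p ∈ (RingHom.ker e).map (MvPolynomial.C (σ := Bool)) := by
      rw [MvPolynomial.mem_map_C_iff]
      intro d
      rw [RingHom.mem_ker, MvPolynomial.coeff_sub, MvPolynomial.coeff_map, map_sub,
        ← RingHom.comp_apply, hee, sub_self]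
    have h₃ := Ideal.mem_map_of_mem (algebraMap (MvPolynomial Bool A) (Localization.Away m)) h₂
    rw [map_sub, h₁, sub_zero, Ideal.map_map] at h₃
    rwa [hs]
  refine le_antisymm (le_trans (Ideal.pow_right_mono hle 2) ?_) bot_le
  rw [← Ideal.map_pow, hker, Ideal.map_bot]

end Geometry

open MvPolynomial in
/-- An automorphism trivial on a square-zero retract becomes, after twisting, a coboundary on the
punctured plane. -/
theorem exists_twist_trivialization {𝒴 : AlgSt.Cat S}
    (h𝒴 : AlgSt.IsAlgStack Scheme.fppfPrecoverage 𝒴) (y : FibCat.overCat U ⥤ᵇ 𝒴)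
    (hsrc : InfSrc y)
    (str : Spec (CommRingCat.of A) ⟶ S) (e : A →+* A) (hee : e.comp e = e)
    (hker : (RingHom.ker e) ^ 2 = ⊥) (hsq : ∀ a b : A, (a - e a) * (b - e b) = 0)
    (εA : Over.mk str ⟶ Over.mk str) (hεA : εA.left = Spec.map (CommRingCat.ofHom e))
    (r : Over.mk str ⟶ U) (hr : εA ≫ r = r) (ψ : ob y r ⟶ ob y r)
    (hψ : pullM h𝒴.isStack.1 y y εA hr hr ψ = 𝟙 _)
    {L₀ L₁ L : Type u} [CommRing L₀] [CommRing L₁] [CommRing L]
    (g₀ : MvPolynomial Bool A →+* L₀) (g₁ : MvPolynomial Bool A →+* L₁)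
    (q₀ : L₀ →+* L) (q₁ : L₁ →+* L) (hu₀ : IsUnit (g₀ (X false))) (hu₁ : IsUnit (g₁ (X true)))
    (hq : q₀.comp g₀ = q₁.comp g₁) (e₀ : L₀ →+* L₀) (e₁ : L₁ →+* L₁)
    (he₀ : e₀.comp g₀ = g₀.comp (MvPolynomial.map e))
    (he₁ : e₁.comp g₁ = g₁.comp (MvPolynomial.map e))
    (w : L) (hw : q₀ (g₀ (X false * X true)) * w = 1)
    (E₀ : algOver str (g₀.comp C) ⟶ algOver str (g₀.comp C))
    (hE₀ : E₀.left = Spec.map (CommRingCat.ofHom e₀))
    (E₁ : algOver str (g₁.comp C) ⟶ algOver str (g₁.comp C))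
    (hE₁ : E₁.left = Spec.map (CommRingCat.ofHom e₁))
    (Q₀ : algOver str ((q₀.comp g₀).comp C) ⟶ algOver str (g₀.comp C))
    (hQ₀ : Q₀.left = Spec.map (CommRingCat.ofHom q₀))
    (Q₁ : algOver str ((q₀.comp g₀).comp C) ⟶ algOver str (g₁.comp C))
    (hQ₁ : Q₁.left = Spec.map (CommRingCat.ofHom q₁))
    (Qw : algOver str ((q₀.comp g₀).comp C) ⟶ Over.mk str)
    (hQw : Qw.left = Spec.map (CommRingCat.ofHom (twistHom ((q₀.comp g₀).comp C) e hsq w))) :
    ∃ (hp₀ : Q₀ ≫ algPt str r (g₀.comp C) = algPt str r ((q₀.comp g₀).comp C))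
      (hp₁ : Q₁ ≫ algPt str r (g₁.comp C) = algPt str r ((q₀.comp g₀).comp C))
      (hpw : Qw ≫ r = algPt str r ((q₀.comp g₀).comp C))
      (hs₀ : E₀ ≫ algPt str r (g₀.comp C) = algPt str r (g₀.comp C))
      (hs₁ : E₁ ≫ algPt str r (g₁.comp C) = algPt str r (g₁.comp C))
      (f₀ : ob y (algPt str r (g₀.comp C)) ⟶ ob y (algPt str r (g₀.comp C)))
      (f₁ : ob y (algPt str r (g₁.comp C)) ⟶ ob y (algPt str r (g₁.comp C))),
      pullM h𝒴.isStack.1 y y E₀ hs₀ hs₀ f₀ = 𝟙 _ ∧ pullM h𝒴.isStack.1 y y E₁ hs₁ hs₁ f₁ = 𝟙 _ ∧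
      pullM h𝒴.isStack.1 y y Q₀ hp₀ hp₀ f₀ ≫ pullM h𝒴.isStack.1 y y Qw hpw hpw ψ =
        pullM h𝒴.isStack.1 y y Q₁ hp₁ hp₁ f₁ := by
  classical
  have hY := h𝒴.isStack.1
  have hstr : Spec.map (CommRingCat.ofHom e) ≫ str = str := by rw [← hεA]; exact Over.w εA
  have hre : Spec.map (CommRingCat.ofHom e) ≫ r.left = r.left := by
    rw [← hεA]; exact congrArg CommaMorphism.left hr
  let R := MvPolynomial Bool A
  let eR : R →+* R := MvPolynomial.map e
  let cR : A →+* R := MvPolynomial.C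
  have heRc : eR.comp cR = cR.comp e := RingHom.ext fun a => MvPolynomial.map_C e a
  let SR : Over S := algOver str cR
  have hεR : Spec.map (CommRingCat.ofHom (eR.comp cR)) ≫ str =
      Spec.map (CommRingCat.ofHom cR) ≫ str := by
    rw [heRc, CommRingCat.ofHom_comp, Spec.map_comp, Category.assoc, hstr]
  let εR : SR ⟶ SR := algHom str eR hεR
  -- the punctured plane
  let W₀ : (Spec (CommRingCat.of R)).Opens :=
    (PrimeSpectrum.basicOpen (X false : R) ⊔ PrimeSpectrum.basicOpen (X true : R) :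
      TopologicalSpace.Opens (PrimeSpectrum R))
  have hmemW : ∀ p : Spec (CommRingCat.of R), p ∈ (W₀ : Set (Spec (CommRingCat.of R))) ↔
      ∃ i : Bool, (X i : R) ∉ (p : PrimeSpectrum R).asIdeal := fun p => by
    constructor
    · rintro (h | h)
      · exact ⟨false, h⟩
      · exact ⟨true, h⟩
    · rintro ⟨i, h⟩
      cases i
      · exact Or.inl h
      · exact Or.inr h
  have hrange : Set.range (W₀.ι ≫ Spec.map (CommRingCat.ofHom eR)) ⊆ Set.range W₀.ι := by
    rintro _ ⟨p, rfl⟩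
    rw [Scheme.Opens.range_ι]
    obtain ⟨i, hi⟩ := (hmemW (W₀.ι p)).1 p.2
    refine (hmemW _).2 ⟨i, fun h => hi ?_⟩
    change MvPolynomial.map e (X i : R) ∈ ((W₀.ι p : Spec (CommRingCat.of R)) : PrimeSpectrum R).asIdeal at h
    rwa [MvPolynomial.map_X] at h
  let Y : Over S := Over.mk (W₀.ι ≫ SR.hom)
  let j : Y ⟶ SR := Over.homMk W₀.ι rfl
  let εY : Y ⟶ Y := Over.homMk (IsOpenImmersion.lift W₀.ι _ hrange) (by
    change IsOpenImmersion.lift W₀.ι _ hrange ≫ W₀.ι ≫ SR.hom = W₀.ι ≫ SR.hom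
    rw [IsOpenImmersion.lift_fac_assoc, Category.assoc]
    exact congrArg (W₀.ι ≫ ·) (Over.w εR))
  have hεYj : εY ≫ j = j ≫ εR := Over.OverMorphism.ext (IsOpenImmersion.lift_fac _ _ _)
  have : Mono j.left := inferInstanceAs (Mono W₀.ι)
  have : Mono j := Over.mono_of_mono_left j
  let ρ : Y ⟶ U := j ≫ algPt str r cR
  have hεRr : εR ≫ algPt str r cR = algPt str r cR := by
    apply Over.OverMorphism.ext
    show Spec.map (CommRingCat.ofHom eR) ≫ Spec.map (CommRingCat.ofHom cR) ≫ r.left =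
      Spec.map (CommRingCat.ofHom cR) ≫ r.left
    rw [← Spec.map_comp_assoc, ← CommRingCat.ofHom_comp, heRc, CommRingCat.ofHom_comp,
      Spec.map_comp_assoc, hre]
  have hερ : εY ≫ ρ = ρ := by
    simp only [ρ]
    rw [reassoc_of% hεYj, hεRr]
  have heR2 : eR.comp eR = eR := RingHom.ext fun p => by
    show MvPolynomial.map e (MvPolynomial.map e p) = MvPolynomial.map e p
    rw [MvPolynomial.map_map, hee]
  have hεR2 : εR ≫ εR = εR := by
    apply Over.OverMorphism.ext
    show Spec.map (CommRingCat.ofHom eR) ≫ Spec.map (CommRingCat.ofHom eR) =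
      Spec.map (CommRingCat.ofHom eR)
    rw [← Spec.map_comp, ← CommRingCat.ofHom_comp, heR2]
  have hεε : εY ≫ εY = εY := by
    rw [← cancel_mono j, Category.assoc, hεYj, reassoc_of% hεYj, hεR2]
  -- the basic opens
  have hXi : ∀ i : Bool, eR (X i) = X i := fun i => MvPolynomial.map_X e i
  have hXij : ∀ i k : Bool, eR (X i * X k) = X i * X k := fun i k => by
    rw [map_mul, hXi, hXi]
  let O₀ : R → Over S := fun m => algOver str ((algebraMap R (Localization.Away m)).comp cR)
  let ι₀ : ∀ m : R, O₀ m ⟶ SR := fun m => algHom str (algebraMap R (Localization.Away m)) rfl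
  have hoi : ∀ m : R, IsOpenImmersion (ι₀ m).left := fun m => isOpenImmersion_away m
  have hmono : ∀ m : R, Mono (ι₀ m) := fun m =>
    haveI := hoi m
    haveI : Mono (ι₀ m).left := inferInstance
    Over.mono_of_mono_left _
  let ε₀ : ∀ (m : R), eR m = m → (O₀ m ⟶ O₀ m) := fun m hm =>
    algHom str (awayMap m e hm) (by
      rw [← RingHom.comp_assoc, show (awayMap m e hm).comp (algebraMap R (Localization.Away m)) =
        (algebraMap R (Localization.Away m)).comp eR from RingHom.ext (awayMap_algebraMap m e hm),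
        RingHom.comp_assoc, heRc, ← RingHom.comp_assoc, CommRingCat.ofHom_comp e, Spec.map_comp,
        Category.assoc, hstr])
  have hε₀ : ∀ (m : R) (hm : eR m = m), ε₀ m hm ≫ ι₀ m = ι₀ m ≫ εR := fun m hm => by
    apply Over.OverMorphism.ext
    show Spec.map (CommRingCat.ofHom (awayMap m e hm)) ≫
        Spec.map (CommRingCat.ofHom (algebraMap R (Localization.Away m))) =
      Spec.map (CommRingCat.ofHom (algebraMap R (Localization.Away m))) ≫
        Spec.map (CommRingCat.ofHom eR)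
    rw [← Spec.map_comp, ← Spec.map_comp, ← CommRingCat.ofHom_comp, ← CommRingCat.ofHom_comp,
      show (awayMap m e hm).comp (algebraMap R (Localization.Away m)) =
        (algebraMap R (Localization.Away m)).comp eR from RingHom.ext (awayMap_algebraMap m e hm)]
  have hrg : ∀ m : R, Set.range (ι₀ m).left = {p : Spec (CommRingCat.of R) |
      (m : R) ∉ (p : PrimeSpectrum R).asIdeal} := fun m => range_away (A := A) m
  -- the cover of the punctured plane
  have hsub : ∀ i : Bool, Set.range (ι₀ (X i)).left ⊆ Set.range W₀.ι := fun i p hp => by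
    rw [Scheme.Opens.range_ι]
    rw [hrg] at hp
    exact (hmemW p).2 ⟨i, hp⟩
  let inc : ∀ i : Bool, O₀ (X i) ⟶ Y := fun i =>
    Over.homMk (IsOpenImmersion.lift W₀.ι (ι₀ (X i)).left (hsub i)) (by
      change IsOpenImmersion.lift W₀.ι _ _ ≫ W₀.ι ≫ SR.hom = _
      rw [IsOpenImmersion.lift_fac_assoc]
      exact Over.w (ι₀ (X i)))
  have hincj : ∀ i, inc i ≫ j = ι₀ (X i) := fun i =>
    Over.OverMorphism.ext (IsOpenImmersion.lift_fac _ _ _)
  have : ∀ i, Mono (inc i) := fun i => by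
    haveI := hmono (X i)
    have : Mono (inc i ≫ j) := by rw [hincj]; infer_instance
    exact mono_of_mono (inc i) j
  let O : Bool → Over S := fun i => O₀ (X i)
  have hFacR : ∀ i ⦃V : Over S⦄ (g : V ⟶ Y), Fac O inc i g →
      ∀ p, (X i : R) ∉ ((g ≫ j).left p : PrimeSpectrum R).asIdeal := by
    rintro i V g ⟨u, rfl⟩ p
    rw [Category.assoc, hincj]
    have : (ι₀ (X i)).left (u.left p) ∈ Set.range (ι₀ (X i)).left := ⟨_, rfl⟩
    rw [hrg] at this
    exact this
  have hεF : ∀ i ⦃V : Over S⦄ (g : V ⟶ Y), Fac O inc i g → Fac O inc i (g ≫ εY) := by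
    rintro i V g ⟨u, rfl⟩
    refine ⟨u ≫ ε₀ (X i) (hXi i), ?_⟩
    rw [← cancel_mono j]
    simp only [Category.assoc, hincj, hε₀, hεYj]
    rw [reassoc_of% (hincj i)]
  have hlift : ∀ i k ⦃V : Over S⦄ (g : V ⟶ Y), Fac O inc i g → Fac O inc k g →
      ∃ v : V ⟶ O₀ (X i * X k), v ≫ ι₀ (X i * X k) = g ≫ j := by
    intro i k V g hi hk
    haveI := hoi (X i * X k)
    have hr' : Set.range (g ≫ j).left ⊆ Set.range (ι₀ (X i * X k)).left := by
      rintro _ ⟨p, rfl⟩
      rw [hrg]
      intro h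
      exact (Ideal.IsPrime.mem_or_mem ((g ≫ j).left p : PrimeSpectrum R).isPrime h).elim
        (hFacR i g hi p) (hFacR k g hk p)
    refine ⟨Over.homMk (IsOpenImmersion.lift (ι₀ (X i * X k)).left (g ≫ j).left hr') ?_,
      Over.OverMorphism.ext (IsOpenImmersion.lift_fac _ _ _)⟩
    rw [← Over.w (ι₀ (X i * X k)), IsOpenImmersion.lift_fac_assoc, Over.w]
  -- the twist on the overlap
  let m₀ : R := X false * X true
  let c₀ : A →+* Localization.Away m₀ := (algebraMap R (Localization.Away m₀)).comp cR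
  let w₀ : Localization.Away m₀ := IsLocalization.Away.invSelf m₀
  have hc₀ : ∀ a, (awayMap m₀ e (hXij _ _)) (c₀ a) = c₀ (e a) := fun a => by
    show awayMap m₀ e (hXij _ _) (algebraMap R (Localization.Away m₀) (cR a)) = _
    rw [awayMap_algebraMap, MvPolynomial.map_C]
    rfl
  have hee' : ∀ a, e (e a) = e a := fun a => RingHom.congr_fun hee a
  have hσe : (twistHom c₀ e hsq w₀).comp e = c₀.comp e := RingHom.ext fun a => by
    simp [twistHom, hee']
  have hεσ : (awayMap m₀ e (hXij _ _)).comp (twistHom c₀ e hsq w₀) = c₀.comp e :=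
    RingHom.ext fun a => by
      show awayMap m₀ e (hXij _ _) (c₀ (e a) + w₀ * c₀ (a - e a)) = c₀ (e a)
      rw [map_add, map_mul, hc₀, hc₀, map_sub e, hee', sub_self, map_zero, mul_zero, add_zero]
  let σ : O₀ m₀ ⟶ Over.mk str := Over.homMk (Spec.map (CommRingCat.ofHom (twistHom c₀ e hsq w₀))) (by
    show Spec.map (CommRingCat.ofHom (twistHom c₀ e hsq w₀)) ≫ str =
      Spec.map (CommRingCat.ofHom c₀) ≫ str
    conv_lhs => rw [← hstr]
    rw [← Spec.map_comp_assoc, ← CommRingCat.ofHom_comp, hσe, CommRingCat.ofHom_comp,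
      Spec.map_comp_assoc, hstr])
  let ρ₀ : O₀ m₀ ⟶ U := ι₀ m₀ ≫ algPt str r cR
  have hρ₀ : ρ₀ = algPt str r c₀ := by
    apply Over.OverMorphism.ext
    show Spec.map (CommRingCat.ofHom (algebraMap R (Localization.Away m₀))) ≫
      Spec.map (CommRingCat.ofHom cR) ≫ r.left = Spec.map (CommRingCat.ofHom c₀) ≫ r.left
    rw [← Spec.map_comp_assoc, ← CommRingCat.ofHom_comp]
  have hσr : σ ≫ r = ρ₀ := by
    rw [hρ₀]
    apply Over.OverMorphism.ext
    show Spec.map (CommRingCat.ofHom (twistHom c₀ e hsq w₀)) ≫ r.left =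
      Spec.map (CommRingCat.ofHom c₀) ≫ r.left
    conv_lhs => rw [← hre]
    rw [← Spec.map_comp_assoc, ← CommRingCat.ofHom_comp, hσe, CommRingCat.ofHom_comp,
      Spec.map_comp_assoc, hre]
  let τ₀ : ob y ρ₀ ⟶ ob y ρ₀ := pullM hY y y σ hσr hσr ψ
  have hε₀ρ : ε₀ m₀ (hXij _ _) ≫ ρ₀ = ρ₀ := by
    simp only [ρ₀]
    rw [reassoc_of% (hε₀ m₀ (hXij _ _)), hεRr]
  let pr₀ : O₀ m₀ ⟶ Over.mk str := Over.homMk (Spec.map (CommRingCat.ofHom c₀)) rfl
  have hτε : pullM hY y y (ε₀ m₀ (hXij _ _)) hε₀ρ hε₀ρ τ₀ = 𝟙 _ := by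
    have hg : ε₀ m₀ (hXij _ _) ≫ σ = pr₀ ≫ εA := by
      apply Over.OverMorphism.ext
      show Spec.map (CommRingCat.ofHom (awayMap m₀ e (hXij _ _))) ≫
          Spec.map (CommRingCat.ofHom (twistHom c₀ e hsq w₀)) =
        Spec.map (CommRingCat.ofHom c₀) ≫ εA.left
      rw [hεA, ← Spec.map_comp, ← Spec.map_comp, ← CommRingCat.ofHom_comp, ← CommRingCat.ofHom_comp,
        hεσ]
    have hp : pr₀ ≫ r = ρ₀ := hρ₀.symm
    rw [show τ₀ = pullM hY y y σ hσr hσr ψ from rfl, pullM_pullM hY _ σ _ _ _ _ _ hg,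
      ← pullM_pullM hY pr₀ εA hr hr hp hp _ rfl, hψ, pullM_id]
  have hvρ : ∀ i k ⦃V : Over S⦄ (g : V ⟶ Y) (v : V ⟶ O₀ (X i * X k)),
      v ≫ ι₀ (X i * X k) = g ≫ j → ∀ b : V ⟶ U, g ≫ ρ = b →
        v ≫ ι₀ (X i * X k) ≫ algPt str r cR = b := by
    intro i k V g v hv b hb
    rw [reassoc_of% hv]
    exact hb
  let τ : ∀ ⦃V : Over S⦄ (g : V ⟶ Y), Fac O inc false g → Fac O inc true g → ∀ (b : V ⟶ U),
      g ≫ ρ = b → (ob y b ⟶ ob y b) := fun V g hi hk b hb =>
    pullM hY y y (hlift false true g hi hk).choose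
      (hvρ false true g _ (hlift false true g hi hk).choose_spec b hb)
      (hvρ false true g _ (hlift false true g hi hk).choose_spec b hb) τ₀
  have hτn : ∀ ⦃W V : Over S⦄ (k : W ⟶ V) (g : V ⟶ Y) (g' : W ⟶ Y) (hg : k ≫ g = g')
      (hi : Fac O inc false g) (hj : Fac O inc true g) (b : V ⟶ U) (hb : g ≫ ρ = b) (b' : W ⟶ U)
      (hkb : k ≫ b = b'), pullM hY y y k hkb hkb (τ g hi hj b hb) =
        τ g' (hi.comp O inc k hg) (hj.comp O inc k hg) b'
          (by rw [← hg, Category.assoc, hb, hkb]) := by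
    intro W V k g g' hg hi hj b hb b' hkb
    refine pullM_pullM hY k _ _ _ _ _ _ ?_ τ₀
    haveI := hmono m₀
    rw [← cancel_mono (ι₀ m₀), Category.assoc]
    rw [(hlift false true g hi hj).choose_spec,
      (hlift false true g' (hi.comp O inc k hg) (hj.comp O inc k hg)).choose_spec,
      ← Category.assoc, hg]
  have hτεY : ∀ ⦃V : Over S⦄ (g : V ⟶ Y) (hi : Fac O inc false g) (hj : Fac O inc true g)
      (b : V ⟶ U) (hb : (g ≫ εY) ≫ ρ = b),
      τ (g ≫ εY) (hεF false g hi) (hεF true g hj) b hb = 𝟙 _ := by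
    intro V g hi hj b hb
    obtain ⟨v, hv⟩ := hlift false true g hi hj
    have hv' : (hlift false true (g ≫ εY) (hεF false g hi) (hεF true g hj)).choose =
        v ≫ ε₀ m₀ (hXij _ _) := by
      haveI := hmono m₀
      rw [← cancel_mono (ι₀ m₀)]
      refine (hlift false true (g ≫ εY) (hεF false g hi) (hεF true g hj)).choose_spec.trans ?_
      rw [Category.assoc, hεYj, ← reassoc_of% hv]
      exact (congrArg (v ≫ ·) (hε₀ m₀ (hXij _ _)).symm).trans (Category.assoc _ _ _).symm
    have hbv : v ≫ ρ₀ = b := by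
      rw [← hb, Category.assoc, hερ]
      simp only [ρ, ρ₀]
      rw [reassoc_of% hv]
    simp only [τ]
    rw [pullM_congr hY hv', ← pullM_pullM hY v _ hε₀ρ hε₀ρ hbv hbv _ rfl, hτε, pullM_id]
  let T : ∀ (i k : Bool) ⦃V : Over S⦄ (g : V ⟶ Y), Fac O inc i g → Fac O inc k g →
      ∀ (b : V ⟶ U), g ≫ ρ = b → (ob y b ⟶ ob y b) := fun i k => by
    cases i <;> cases k
    · exact fun V g _ _ b _ => 𝟙 _
    · exact fun V g hi hk b hb => τ g hi hk b hb
    · exact fun V g hi hk b hb => haveI := isIso_fiber hY (τ g hk hi b hb); inv (τ g hk hi b hb)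
    · exact fun V g _ _ b _ => 𝟙 _
  have hR : coverSieve O inc ∈ QuotSh.J Scheme.fppfPrecoverage S Y := by
    have h := AlgSpLoc.ofArrows_mem_J O inc (fun i => ?_) (fun i => ?_) (fun t => ?_)
    · refine GrothendieckTopology.superset_covering _ ?_ h
      rintro V g ⟨_, a, _, ⟨i⟩, rfl⟩
      exact ⟨i, a, rfl⟩
    · haveI := hoi (X i)
      haveI : IsOpenImmersion ((inc i).left ≫ W₀.ι) := by
        rw [show (inc i).left ≫ W₀.ι = (ι₀ (X i)).left from IsOpenImmersion.lift_fac _ _ _]
        infer_instance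
      haveI : IsOpenImmersion (inc i).left := IsOpenImmersion.of_comp (inc i).left W₀.ι
      infer_instance
    · haveI := hoi (X i)
      haveI : IsOpenImmersion ((inc i).left ≫ W₀.ι) := by
        rw [show (inc i).left ≫ W₀.ι = (ι₀ (X i)).left from IsOpenImmersion.lift_fac _ _ _]
        infer_instance
      haveI : IsOpenImmersion (inc i).left := IsOpenImmersion.of_comp (inc i).left W₀.ι
      infer_instance
    · obtain ⟨i, hi⟩ := (hmemW (W₀.ι t)).1 t.2
      have hmem : W₀.ι t ∈ Set.range (ι₀ (X i)).left := by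
        rw [hrg]
        exact hi
      obtain ⟨p, hp⟩ := hmem
      refine ⟨i, p, W₀.ι.isOpenEmbedding.injective ?_⟩
      rw [← hp]
      exact congrArg (fun f : O₀ (X i) ⟶ SR => f.left p) (hincj i)
  obtain ⟨F, hFn, hFε, hFT⟩ := exists_coboundary O inc h𝒴 y hR ρ εY hερ hεε hεF T
    (fun i V g hi b hb => by cases i <;> rfl)
    (fun i k l V g hi hk hl b hb => by
      cases i <;> cases k <;> cases l <;> simp [T])
    (fun i k W V h g g' hg hi hk b hb b' hkb => by
      cases i <;> cases k <;> simp only [T]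
      · exact pullM_id hY h hkb
      · exact hτn h g g' hg hi hk b hb b' hkb
      · rw [pullM_inv']
        congr 1
        exact hτn h g g' hg hk hi b hb b' hkb
      · exact pullM_id hY h hkb)
    (fun i k V g hi hk b hb => by
      cases i <;> cases k <;> simp only [T]
      · exact hτεY g hi hk b hb
      · simp only [hτεY g hk hi b hb, IsIso.inv_id])
    (fun Θ hl hε => by
      rcases hsrc with hsep | ⟨𝒳, h𝒳, φ, x, hxy, hinf⟩
      · refine hsep O inc (fun i => ?_) (fun t => ?_) y ρ Θ hl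
        · haveI := hoi (X i)
          haveI : IsOpenImmersion ((inc i).left ≫ W₀.ι) := by
            rw [show (inc i).left ≫ W₀.ι = (ι₀ (X i)).left from IsOpenImmersion.lift_fac _ _ _]
            infer_instance
          exact IsOpenImmersion.of_comp (inc i).left W₀.ι
        · obtain ⟨i, hi⟩ := (hmemW (W₀.ι t)).1 t.2
          have hmem : W₀.ι t ∈ Set.range (ι₀ (X i)).left := by
            rw [hrg]
            exact hi
          obtain ⟨p, hp⟩ := hmem
          refine ⟨i, p, W₀.ι.isOpenEmbedding.injective ?_⟩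
          rw [← hp]
          exact congrArg (fun f : O₀ (X i) ⟶ SR => f.left p) (hincj i)
      · refine glue_of_fIso O inc h𝒳 h𝒴 φ x y hxy hR ρ εY hερ hεε hεF ?_ Θ hl hε
        have hX := h𝒳.isStack.1
        exact
          (fun i k t htn htε V g hi hk b hb => by
            let m : R := X i * X k
            have hsubm : Set.range (ι₀ m).left ⊆ Set.range W₀.ι := by
              rintro p hp
              rw [Scheme.Opens.range_ι]
              rw [hrg] at hp
              exact (hmemW p).2 ⟨i, fun h => hp (Ideal.mul_mem_right _ _ h)⟩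
            let gm : O₀ m ⟶ Y := Over.homMk (IsOpenImmersion.lift W₀.ι (ι₀ m).left hsubm) (by
              change IsOpenImmersion.lift W₀.ι _ _ ≫ W₀.ι ≫ SR.hom = _
              rw [IsOpenImmersion.lift_fac_assoc]
              exact Over.w (ι₀ m))
            have hF : ∀ l : Bool, (X l : R) ∣ m → Fac O inc l gm := by
              rintro l ⟨d, hd⟩
              haveI := hoi (X l)
              have hsub' : Set.range (ι₀ m).left ⊆ Set.range (ι₀ (X l)).left := by
                intro p hp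
                rw [hrg] at hp ⊢
                exact fun h => hp (by rw [hd]; exact Ideal.mul_mem_right _ _ h)
              refine ⟨Over.homMk (IsOpenImmersion.lift (ι₀ (X l)).left (ι₀ m).left hsub') ?_, ?_⟩
              · rw [← Over.w (ι₀ (X l)), IsOpenImmersion.lift_fac_assoc, Over.w]
              · rw [← cancel_mono j, Category.assoc, hincj]
                exact Over.OverMorphism.ext ((IsOpenImmersion.lift_fac _ _ _).trans
                  (IsOpenImmersion.lift_fac _ _ _).symm)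
            have hgj : gm ≫ j = ι₀ m := Over.OverMorphism.ext (IsOpenImmersion.lift_fac _ _ _)
            have hgi := hF i (dvd_mul_right _ _)
            have hgk := hF k (dvd_mul_left _ _)
            have hgε : gm ≫ εY = ε₀ m (hXij i k) ≫ gm := by
              rw [← cancel_mono j, Category.assoc, hεYj, reassoc_of% hgj, Category.assoc, hgj, hε₀]
            have hrm : ε₀ m (hXij i k) ≫ gm ≫ ρ = gm ≫ ρ := by
              rw [← Category.assoc, ← hgε, Category.assoc, hερ]
            have key : t gm hgi hgk (gm ≫ ρ) rfl = 𝟙 _ := by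
              refine hinf (Localization.Away m) _ (awayMap m e (hXij i k))
                (awayMap_idem m e (hXij i k) hee) (ker_awayMap_sq m e (hXij i k) hee hker)
                (ε₀ m (hXij i k)) rfl (gm ≫ ρ) hrm _ ?_
              rw [htn (ε₀ m (hXij i k)) gm (gm ≫ εY) hgε.symm hgi hgk _ rfl _ hrm]
              exact htε gm hgi hgk _ _
            obtain ⟨v, hv⟩ := hlift i k g hi hk
            have hgv : v ≫ gm = g := by rw [← cancel_mono j, Category.assoc, hgj, hv]
            have hvb : v ≫ gm ≫ ρ = b := by rw [reassoc_of% hgv, hb]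
            rw [← htn v gm g hgv hgi hgk _ rfl b hvb, key, pullM_id]))
  -- restriction to the given rings
  have hgen : ∀ {L' : Type u} [CommRing L'] (g' : R →+* L') (i : Bool), IsUnit (g' (X i)) →
      ∃ gi : algOver str (g'.comp cR) ⟶ Y, Fac O inc i gi ∧
        gi ≫ j = algHom str g' rfl ∧ gi ≫ ρ = algPt str r (g'.comp cR) := by
    intro L' _ g' i hu
    let u' : algOver str (g'.comp cR) ⟶ O₀ (X i) :=
      algHom str (IsLocalization.Away.lift (X i : R) (g := g') hu) (by
        rw [← RingHom.comp_assoc, IsLocalization.Away.lift_comp])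
    have hu' : u' ≫ ι₀ (X i) = algHom str g' rfl := by
      apply Over.OverMorphism.ext
      show Spec.map _ ≫ Spec.map _ = Spec.map (CommRingCat.ofHom g')
      rw [← Spec.map_comp, ← CommRingCat.ofHom_comp, IsLocalization.Away.lift_comp]
    refine ⟨u' ≫ inc i, ⟨u', rfl⟩, by rw [Category.assoc, hincj, hu'], ?_⟩
    simp only [ρ]
    rw [Category.assoc, reassoc_of% (hincj i), reassoc_of% hu']
    apply Over.OverMorphism.ext
    show Spec.map (CommRingCat.ofHom g') ≫ Spec.map (CommRingCat.ofHom cR) ≫ r.left =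
      Spec.map (CommRingCat.ofHom (g'.comp cR)) ≫ r.left
    rw [← Spec.map_comp_assoc, ← CommRingCat.ofHom_comp]
  obtain ⟨G₀, hG₀, hG₀j, hG₀ρ⟩ := hgen g₀ false hu₀
  obtain ⟨G₁, hG₁, hG₁j, hG₁ρ⟩ := hgen g₁ true hu₁
  have hE : ∀ {L' : Type u} [CommRing L'] (g' : R →+* L') (e' : L' →+* L'),
      e'.comp g' = g'.comp eR → ∀ (E : algOver str (g'.comp cR) ⟶ algOver str (g'.comp cR)),
      E.left = Spec.map (CommRingCat.ofHom e') → ∀ (G : algOver str (g'.comp cR) ⟶ Y),
      G ≫ j = algHom str g' rfl → E ≫ G = G ≫ εY := by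
    intro L' _ g' e' he' E hE G hG
    rw [← cancel_mono j, Category.assoc, hG, Category.assoc, hεYj, reassoc_of% hG]
    apply Over.OverMorphism.ext
    show E.left ≫ Spec.map (CommRingCat.ofHom g') =
      Spec.map (CommRingCat.ofHom g') ≫ Spec.map (CommRingCat.ofHom eR)
    rw [hE, ← Spec.map_comp, ← Spec.map_comp, ← CommRingCat.ofHom_comp, ← CommRingCat.ofHom_comp,
      he']
  have hs : ∀ {L' : Type u} [CommRing L'] (g' : R →+* L')
      (E : algOver str (g'.comp cR) ⟶ algOver str (g'.comp cR)) (G : algOver str (g'.comp cR) ⟶ Y),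
      G ≫ ρ = algPt str r (g'.comp cR) → E ≫ G = G ≫ εY →
      E ≫ algPt str r (g'.comp cR) = algPt str r (g'.comp cR) := by
    intro L' _ g' E G hG hEG
    rw [← hG, reassoc_of% hEG, hερ]
  have hEG₀ := hE g₀ e₀ he₀ E₀ hE₀ G₀ hG₀j
  have hEG₁ := hE g₁ e₁ he₁ E₁ hE₁ G₁ hG₁j
  let GQ := Q₀ ≫ G₀
  have hGL₁ : Q₁ ≫ G₁ = GQ := by
    rw [← cancel_mono j, Category.assoc, hG₁j, Category.assoc, hG₀j]
    apply Over.OverMorphism.ext
    show Q₁.left ≫ Spec.map (CommRingCat.ofHom g₁) = Q₀.left ≫ Spec.map (CommRingCat.ofHom g₀)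
    rw [hQ₀, hQ₁, ← Spec.map_comp, ← Spec.map_comp, ← CommRingCat.ofHom_comp,
      ← CommRingCat.ofHom_comp, hq]
  have hi₀ : Fac O inc false GQ := hG₀.comp O inc Q₀ rfl
  have hi₁ : Fac O inc true GQ := hG₁.comp O inc Q₁ hGL₁
  obtain ⟨v, hv⟩ := hlift false true GQ hi₀ hi₁
  have hp₀ : Q₀ ≫ algPt str r (g₀.comp C) = algPt str r ((q₀.comp g₀).comp C) := by
    apply Over.OverMorphism.ext
    show Q₀.left ≫ Spec.map (CommRingCat.ofHom (g₀.comp C)) ≫ r.left =
      Spec.map (CommRingCat.ofHom ((q₀.comp g₀).comp C)) ≫ r.left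
    rw [hQ₀, ← Spec.map_comp_assoc, ← CommRingCat.ofHom_comp, RingHom.comp_assoc]
  have hp₁ : Q₁ ≫ algPt str r (g₁.comp C) = algPt str r ((q₀.comp g₀).comp C) := by
    rw [← hp₀, ← hG₁ρ, ← hG₀ρ, ← Category.assoc, hGL₁, Category.assoc]
  have hvσ : v ≫ σ = Qw := by
    apply Over.OverMorphism.ext
    show v.left ≫ Spec.map (CommRingCat.ofHom (twistHom c₀ e hsq w₀)) = Qw.left
    have hm : IsUnit (q₀ (g₀ m₀)) := IsUnit.of_mul_eq_one _ hw
    let vr : Localization.Away m₀ →+* L :=
      IsLocalization.Away.lift m₀ (g := q₀.comp g₀) hm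
    have hvl : v.left = Spec.map (CommRingCat.ofHom vr) := by
      haveI := hoi m₀
      rw [← cancel_mono (ι₀ m₀).left]
      refine Eq.trans (congrArg CommaMorphism.left hv) ?_
      show (Q₀ ≫ G₀).left ≫ W₀.ι =
        Spec.map _ ≫ Spec.map (CommRingCat.ofHom (algebraMap R (Localization.Away m₀)))
      rw [← Spec.map_comp, ← CommRingCat.ofHom_comp, IsLocalization.Away.lift_comp]
      have := congrArg CommaMorphism.left hG₀j
      refine (Category.assoc Q₀.left G₀.left W₀.ι).trans ?_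
      rw [show G₀.left ≫ W₀.ι = Spec.map (CommRingCat.ofHom g₀) from this, hQ₀, ← Spec.map_comp,
        ← CommRingCat.ofHom_comp]
    have hvc : ∀ a, vr (c₀ a) = (q₀.comp g₀) (C a) := fun a =>
      IsLocalization.Away.lift_eq m₀ hm (C a)
    have hvw : vr w₀ = w := by
      refine (hm.mul_right_inj).1 ?_
      rw [hw]
      have : vr (algebraMap R (Localization.Away m₀) m₀) = q₀ (g₀ m₀) :=
        IsLocalization.Away.lift_eq m₀ hm m₀
      rw [← this, ← map_mul, IsLocalization.Away.mul_invSelf, map_one]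
    rw [hvl, hQw, ← Spec.map_comp, ← CommRingCat.ofHom_comp]
    congr 2
    ext a
    show vr (c₀ (e a) + w₀ * c₀ (a - e a)) = _
    rw [map_add, map_mul, hvc, hvc, hvw]
    rfl
  have hpw : Qw ≫ r = algPt str r ((q₀.comp g₀).comp C) := by
    rw [← hp₀, ← hG₀ρ, ← hvσ, Category.assoc, hσr]
    simp only [ρ₀, ρ]
    rw [reassoc_of% hv]
    simp only [GQ, Category.assoc]
  refine ⟨hp₀, hp₁, hpw, hs g₀ E₀ G₀ hG₀ρ hEG₀, hs g₁ E₁ G₁ hG₁ρ hEG₁,
    F false G₀ hG₀ _ hG₀ρ, F true G₁ hG₁ _ hG₁ρ, ?_, ?_, ?_⟩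
  · rw [hFn false E₀ G₀ (G₀ ≫ εY) hEG₀ hG₀ _ hG₀ρ _ (hs g₀ E₀ G₀ hG₀ρ hEG₀)]
    exact hFε false G₀ hG₀ _ _
  · rw [hFn true E₁ G₁ (G₁ ≫ εY) hEG₁ hG₁ _ hG₁ρ _ (hs g₁ E₁ G₁ hG₁ρ hEG₁)]
    exact hFε true G₁ hG₁ _ _
  · have hGρ : GQ ≫ ρ = algPt str r ((q₀.comp g₀).comp C) := by
      rw [show GQ = Q₀ ≫ G₀ from rfl, Category.assoc, hG₀ρ, hp₀]
    rw [hFn false Q₀ G₀ GQ rfl hG₀ _ hG₀ρ _ hp₀, hFn true Q₁ G₁ GQ hGL₁ hG₁ _ hG₁ρ _ hp₁,
      ← hFT false true GQ hi₀ hi₁ _ hGρ]
    congr 1
    show pullM hY y y Qw hpw hpw ψ = τ GQ hi₀ hi₁ _ hGρ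
    simp only [τ]
    refine ((pullM_congr hY (hh := ?_) _ _ _).trans (pullM_pullM hY v σ hσr hσr
      (by rw [← hvρ false true GQ v hv _ hGρ]) (by rw [← hvρ false true GQ v hv _ hGρ]) Qw hvσ
      ψ)).symm
    haveI := hmono m₀
    rw [← cancel_mono (ι₀ m₀), (hlift false true GQ hi₀ hi₁).choose_spec, hv]

end

end Groth.Agent.IsoNatSm
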