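import Groth.Agent.IsoNatSm.Aut
import Groth.Agent.IsoNatSm.Loop

/-!
# Infinitesimal automorphisms are seen by isomorphism classes
-/

set_option autoImplicit false
set_option backward.isDefEq.respectTransparency false
set_option backward.isDefEq.respectTransparency.types false

universe u

open CategoryTheory CategoryTheory.Limits AlgebraicGeometry Opposite

namespace Groth.Agent.IsoNatSm

open _root_.AlgSp (Sp yon IsFormallyEtaleMor InfSq)

noncomputable section

variable {S : Scheme.{u}} {𝒴 : AlgSt.Cat S} {U : Over S}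
  {h𝒴 : FibCat.IsFibGrpd 𝒴.p} {y : FibCat.overCat U ⥤ᵇ 𝒴}

/-- A morphism of automorphism points is a pullback identity. -/
theorem pullM_of_stdHom {T' T : Over S} (k : T' ⟶ T) {a : T ⟶ U} {a' : T' ⟶ U} (ha : k ≫ a = a')
    (δ : y.obj (Over.mk a) ≅ y.obj (Over.mk a)) (hδ : 𝒴.p.IsHomLift (𝟙 T) δ.hom)
    (f' : ob y a' ⟶ ob y a') (χ : autPt h𝒴 y a' f' ⟶ stdPt y y a a δ hδ)
    (hχ : (FibCat.fp y y).p.IsHomLift k χ) : pullM h𝒴 y y k ha ha ⟨δ.hom, hδ⟩ = f' := by
  have aux : ∀ (φ : (Over.mk a' : (FibCat.overCat U).obj) ⟶ Over.mk a),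
      (FibCat.overCat U).p.IsHomLift k φ → φ = ovHom k ha := fun φ hφ =>
    Over.OverMorphism.ext ((IsHomLift.fac' (FibCat.overCat U).p k φ).trans (by simp; rfl))
  refine pullM_eq h𝒴 _ _ _ _ _ ?_
  have h1 := aux χ.hom.fst ((Fib.fp_isHomLift_iff _ _).1 hχ)
  have h2 := aux χ.hom.snd (Fib.fp_isHomLift_snd _ χ)
  have hw : y.map χ.hom.fst ≫ δ.hom = f'.1 ≫ y.map χ.hom.snd := χ.hom.w
  rw [h1, h2] at hw
  exact hw.symm

theorem pullM_of_autHom {T' T : Over S} (k : T' ⟶ T) {a : T ⟶ U} {a' : T' ⟶ U} (ha : k ≫ a = a')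
    (f : ob y a ⟶ ob y a) (f' : ob y a' ⟶ ob y a') (χ : autPt h𝒴 y a' f' ⟶ autPt h𝒴 y a f)
    (hχ : (FibCat.fp y y).p.IsHomLift k χ) : pullM h𝒴 y y k ha ha f = f' :=
  pullM_of_stdHom k ha (fibIso h𝒴 f) (fibIso_isHomLift h𝒴 f) f' χ hχ

variable {A : Type u} [CommRing A] {str : Spec (CommRingCat.of A) ⟶ S} (eA : A →+* A)
  {L : Type u} [CommRing L] (c : A →+* L) (eL : L →+* L)

/-- The structure map of a pinching. -/
def pinchC (hc : ∀ a ∈ RingHom.ker eA, c a ∈ RingHom.ker eL) : A →+* pinch eA c eL hc :=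
  (c.prod (Ideal.Quotient.mk (RingHom.ker eA))).codRestrict _
    fun a => (Ideal.quotientMap_mk (J := RingHom.ker eA) (I := RingHom.ker eL) (f := c) (H := hc) (x := a)).symm

/-- The first projection of a pinching. -/
def pinchFst (hc : ∀ a ∈ RingHom.ker eA, c a ∈ RingHom.ker eL) : pinch eA c eL hc →+* L :=
  (RingHom.fst L (A ⧸ RingHom.ker eA)).comp (pinch eA c eL hc).subtype

/-- The second projection of a pinching. -/
def pinchSnd (hc : ∀ a ∈ RingHom.ker eA, c a ∈ RingHom.ker eL) :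
    pinch eA c eL hc →+* A ⧸ RingHom.ker eA :=
  (RingHom.snd L (A ⧸ RingHom.ker eA)).comp (pinch eA c eL hc).subtype

/-- The section of the quotient by an idempotent. -/
def retr : A ⧸ RingHom.ker eA →+* A :=
  Ideal.Quotient.lift (RingHom.ker eA) eA fun _ ha => ha

variable {eA c eL} {hc : ∀ a ∈ RingHom.ker eA, c a ∈ RingHom.ker eL}

local notation "D₀" => pinch eA c eL hc

theorem mk_retr (hee : eA.comp eA = eA) (b : A ⧸ RingHom.ker eA) :
    Ideal.Quotient.mk (RingHom.ker eA) (retr eA b) = b := by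
  obtain ⟨a, rfl⟩ := Ideal.Quotient.mk_surjective b
  refine (Ideal.Quotient.mk_eq_mk_iff_sub_mem _ _).2 ?_
  rw [RingHom.mem_ker, map_sub]
  show eA (eA a) - eA a = 0
  rw [← RingHom.comp_apply, hee, sub_self]

/-- The idempotent of a pinching. -/
def pinchE (hc : ∀ a ∈ RingHom.ker eA, c a ∈ RingHom.ker eL) :
    pinch eA c eL hc →+* pinch eA c eL hc :=
  (pinchC eA c eL hc).comp ((retr eA).comp (pinchSnd eA c eL hc))

theorem pinchE_idem (hee : eA.comp eA = eA) : (pinchE hc).comp (pinchE hc) = pinchE hc := by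
  refine RingHom.ext fun z => ?_
  show pinchC eA c eL hc (retr eA (Ideal.Quotient.mk (RingHom.ker eA) (retr eA
    (pinchSnd eA c eL hc z)))) = pinchC eA c eL hc (retr eA (pinchSnd eA c eL hc z))
  rw [mk_retr hee]

theorem ker_pinchE (hee : eA.comp eA = eA) (hker : (RingHom.ker eL) ^ 2 = ⊥) :
    (RingHom.ker (pinchE hc)) ^ 2 = ⊥ := by
  have key : ∀ z ∈ RingHom.ker (pinchE hc), z.1.1 ∈ RingHom.ker eL ∧ z.1.2 = 0 := by
    intro z hz
    have h2 : z.1.2 = 0 := by
      rw [← mk_retr hee z.1.2]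
      exact congrArg (fun w : pinch eA c eL hc => w.1.2) (RingHom.mem_ker.1 hz)
    refine ⟨?_, h2⟩
    have h := z.2
    change Ideal.Quotient.mk _ z.1.1 = Ideal.quotientMap _ c hc z.1.2 at h
    rw [h2, map_zero] at h
    exact Ideal.Quotient.eq_zero_iff_mem.1 h
  refine le_antisymm ?_ bot_le
  rw [pow_two, Ideal.mul_le]
  intro z hz w hw
  refine Subtype.ext (Prod.ext ?_ ?_)
  · have := Ideal.mul_mem_mul (key z hz).1 (key w hw).1
    rw [← pow_two, hker] at this
    exact this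
  · show z.1.2 * w.1.2 = 0
    rw [(key z hz).2, zero_mul]

variable (hc)

/-- The first map to the pinching. -/
abbrev pinchI₁ : algOver str c ⟶ algOver str (pinchC eA c eL hc) :=
  algHom str (pinchFst eA c eL hc)
    (by rw [show (pinchFst eA c eL hc).comp (pinchC eA c eL hc) = c from RingHom.ext fun _ => rfl])

/-- The second map to the pinching. -/
abbrev pinchI₂ :
    algOver str (Ideal.Quotient.mk (RingHom.ker eA)) ⟶ algOver str (pinchC eA c eL hc) :=
  algHom str (pinchSnd eA c eL hc) (by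
    rw [show (pinchSnd eA c eL hc).comp (pinchC eA c eL hc) = Ideal.Quotient.mk (RingHom.ker eA) from
      RingHom.ext fun _ => rfl])

theorem pinchI₁_pt (r : Over.mk str ⟶ U) :
    pinchI₁ (str := str) hc ≫ algPt str r (pinchC eA c eL hc) = algPt str r c := by
  apply Over.OverMorphism.ext
  show Spec.map _ ≫ Spec.map _ ≫ r.left = Spec.map (CommRingCat.ofHom c) ≫ r.left
  rw [← Spec.map_comp_assoc, ← CommRingCat.ofHom_comp,
    show (pinchFst eA c eL hc).comp (pinchC eA c eL hc) = c from RingHom.ext fun _ => rfl]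

theorem pinchI₂_pt (r : Over.mk str ⟶ U) :
    pinchI₂ (str := str) hc ≫ algPt str r (pinchC eA c eL hc) =
      algPt str r (Ideal.Quotient.mk (RingHom.ker eA)) := by
  apply Over.OverMorphism.ext
  show Spec.map _ ≫ Spec.map _ ≫ r.left =
    Spec.map (CommRingCat.ofHom (Ideal.Quotient.mk (RingHom.ker eA))) ≫ r.left
  rw [← Spec.map_comp_assoc, ← CommRingCat.ofHom_comp,
    show (pinchSnd eA c eL hc).comp (pinchC eA c eL hc) = Ideal.Quotient.mk (RingHom.ker eA) from
      RingHom.ext fun _ => rfl]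

variable {hc}

theorem pinch_isPushout :
    IsPushout (Spec.map (CommRingCat.ofHom (Ideal.Quotient.mk (RingHom.ker eL))))
      (Spec.map (CommRingCat.ofHom (Ideal.quotientMap (RingHom.ker eL) c hc)))
      (Spec.map (CommRingCat.ofHom (pinchFst eA c eL hc)))
      (Spec.map (CommRingCat.ofHom (pinchSnd eA c eL hc))) :=
  (pinch_square eA c eL hc).isPushout_Spec

/-- Maps out of a pinching are determined by the two restrictions. -/
theorem pinch_hom_ext {Z : Scheme.{u}} {f g : Spec (CommRingCat.of D₀) ⟶ Z}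
    (h₁ : Spec.map (CommRingCat.ofHom (pinchFst eA c eL hc)) ≫ f =
      Spec.map (CommRingCat.ofHom (pinchFst eA c eL hc)) ≫ g)
    (h₂ : Spec.map (CommRingCat.ofHom (pinchSnd eA c eL hc)) ≫ f =
      Spec.map (CommRingCat.ofHom (pinchSnd eA c eL hc)) ≫ g) : f = g :=
  pinch_isPushout.hom_ext h₁ h₂

variable {r : Over.mk str ⟶ U}

/-- Automorphisms over a pinching, trivial on the retract, are determined by their restriction. -/
theorem pinch_ext (Dc : DiagChart h𝒴 y r) (hee : eA.comp eA = eA) (hLee : eL.comp eL = eL)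
    (hker : (RingHom.ker eL) ^ 2 = ⊥) (EL : algOver str c ⟶ algOver str c)
    (hEL : EL.left = Spec.map (CommRingCat.ofHom eL))
    (hELr : EL ≫ algPt str r c = algPt str r c)
    (εA : Over.mk str ⟶ Over.mk str) (hεA : εA.left = Spec.map (CommRingCat.ofHom eA))
    (hr : εA ≫ r = r)
    (f f' : ob y (algPt str r (pinchC eA c eL hc)) ⟶ ob y (algPt str r (pinchC eA c eL hc)))
    (g : ob y (algPt str r c) ⟶ ob y (algPt str r c))
    (hg : pullM h𝒴 y y EL hELr hELr g = 𝟙 _)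
    (h₁ : pullM h𝒴 y y (pinchI₁ hc) (pinchI₁_pt hc r) (pinchI₁_pt hc r) f = g)
    (h₁' : pullM h𝒴 y y (pinchI₁ hc) (pinchI₁_pt hc r) (pinchI₁_pt hc r) f' = g)
    (h₂ : pullM h𝒴 y y (pinchI₂ hc) (pinchI₂_pt hc r) (pinchI₂_pt hc r) f = 𝟙 _)
    (h₂' : pullM h𝒴 y y (pinchI₂ hc) (pinchI₂_pt hc r) (pinchI₂_pt hc r) f' = 𝟙 _) : f = f' := by
  have hstr : Spec.map (CommRingCat.ofHom eA) ≫ str = str := by rw [← hεA]; exact Over.w εA
  let ρD : algOver str (pinchC eA c eL hc) ⟶ algOver str (Ideal.Quotient.mk (RingHom.ker eA)) :=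
    algHom str ((pinchC eA c eL hc).comp (retr eA)) (by
      rw [show ((pinchC eA c eL hc).comp (retr eA)).comp (Ideal.Quotient.mk (RingHom.ker eA)) =
        (pinchC eA c eL hc).comp eA from rfl, CommRingCat.ofHom_comp, Spec.map_comp, Category.assoc,
        hstr])
  let ED : algOver str (pinchC eA c eL hc) ⟶ algOver str (pinchC eA c eL hc) := ρD ≫ pinchI₂ hc
  have hED : ED.left = Spec.map (CommRingCat.ofHom (pinchE hc)) := by
    show Spec.map _ ≫ Spec.map _ = _
    rw [← Spec.map_comp, ← CommRingCat.ofHom_comp, pinchE, RingHom.comp_assoc]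
  have hρr : ρD ≫ algPt str r (Ideal.Quotient.mk (RingHom.ker eA)) =
      algPt str r (pinchC eA c eL hc) := by
    apply Over.OverMorphism.ext
    show Spec.map _ ≫ Spec.map _ ≫ r.left = Spec.map _ ≫ r.left
    rw [← Spec.map_comp_assoc, ← CommRingCat.ofHom_comp,
      show ((pinchC eA c eL hc).comp (retr eA)).comp (Ideal.Quotient.mk (RingHom.ker eA)) =
        (pinchC eA c eL hc).comp eA from rfl, CommRingCat.ofHom_comp, Spec.map_comp_assoc]
    congr 1
    rw [← hεA]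
    exact congrArg CommaMorphism.left hr
  have hEDr : ED ≫ algPt str r (pinchC eA c eL hc) = algPt str r (pinchC eA c eL hc) := by
    simp only [ED, Category.assoc]
    rw [pinchI₂_pt, hρr]
  let prD : algOver str (pinchC eA c eL hc) ⟶ Over.mk str :=
    Over.homMk (Spec.map (CommRingCat.ofHom (pinchC eA c eL hc))) rfl
  let prL : algOver str c ⟶ Over.mk str := Over.homMk (Spec.map (CommRingCat.ofHom c)) rfl
  have hstab : ∀ φ : ob y (algPt str r (pinchC eA c eL hc)) ⟶ ob y (algPt str r (pinchC eA c eL hc)),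
      pullM h𝒴 y y (pinchI₂ hc) (pinchI₂_pt hc r) (pinchI₂_pt hc r) φ = 𝟙 _ →
      pullM h𝒴 y y ED hEDr hEDr φ = 𝟙 _ := fun φ hφ => by
    rw [← pullM_pullM h𝒴 ρD (pinchI₂ hc) (pinchI₂_pt hc r) (pinchI₂_pt hc r) hρr hρr ED rfl, hφ,
      pullM_id]
  have hlift : ∀ φ : ob y (algPt str r (pinchC eA c eL hc)) ⟶ ob y (algPt str r (pinchC eA c eL hc)),
      pullM h𝒴 y y (pinchI₁ hc) (pinchI₁_pt hc r) (pinchI₁_pt hc r) φ = g →
      pullM h𝒴 y y (pinchI₂ hc) (pinchI₂_pt hc r) (pinchI₂_pt hc r) φ = 𝟙 _ →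
      ∃ l : algOver str (pinchC eA c eL hc) ⟶ Dc.G,
        (∃ qq : Dc.e.obj (⟨algOver str (pinchC eA c eL hc),
            (_root_.AlgSp.J S).uliftYonedaEquiv.{u + 1} ((yon S).map l ≫ Dc.c)⟩ :
              (AlgSt.ofSp Dc.F).obj) ≅ autPt h𝒴 y _ φ,
          (FibCat.fp y y).p.IsHomLift (𝟙 (algOver str (pinchC eA c eL hc))) qq.hom) ∧
        pinchI₂ hc ≫ l = pinchI₂ hc ≫ prD ≫ Dc.v ∧
        (thinHom L (RingHom.ker eL) (Spec.map (CommRingCat.ofHom c) ≫ str) ≫ pinchI₁ hc ≫ l =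
          thinHom L (RingHom.ker eL) (Spec.map (CommRingCat.ofHom c) ≫ str) ≫ prL ≫ Dc.v) ∧
        ∃ qq : Dc.e.obj (⟨algOver str c,
            (_root_.AlgSp.J S).uliftYonedaEquiv.{u + 1} ((yon S).map (pinchI₁ hc ≫ l) ≫ Dc.c)⟩ :
              (AlgSt.ofSp Dc.F).obj) ≅ autPt h𝒴 y _ g,
          (FibCat.fp y y).p.IsHomLift (𝟙 (algOver str c)) qq.hom := by
    intro φ hφ₁ hφ₂
    obtain ⟨l, ⟨hl₁, q, hq⟩, -⟩ := exists_chart_lift Dc (pinchE hc) (pinchE_idem hee)
      (ker_pinchE hee hker) ED hED prD (a := algPt str r (pinchC eA c eL hc)) rfl hEDr φ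
      (hstab φ hφ₂)
    have hj : Spec.map (CommRingCat.ofHom (Ideal.Quotient.mk (RingHom.ker (pinchE hc)))) ≫ l.left =
        Spec.map (CommRingCat.ofHom (Ideal.Quotient.mk (RingHom.ker (pinchE hc)))) ≫
          (prD ≫ Dc.v).left := congrArg CommaMorphism.left hl₁
    have hI₂ : pinchI₂ hc ≫ l = pinchI₂ hc ≫ prD ≫ Dc.v := by
      apply Over.OverMorphism.ext
      show Spec.map (CommRingCat.ofHom (pinchSnd eA c eL hc)) ≫ l.left =
        Spec.map (CommRingCat.ofHom (pinchSnd eA c eL hc)) ≫ (prD ≫ Dc.v).left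
      have hfac : pinchSnd eA c eL hc = (Ideal.Quotient.lift (RingHom.ker (pinchE hc))
          (pinchSnd eA c eL hc) (fun z hz => by
            rw [← mk_retr hee (pinchSnd eA c eL hc z)]
            exact congrArg (fun v : pinch eA c eL hc => v.1.2) (RingHom.mem_ker.1 hz))).comp
          (Ideal.Quotient.mk _) := (Ideal.Quotient.lift_comp_mk _ _ _).symm
      rw [hfac, CommRingCat.ofHom_comp, Spec.map_comp, Category.assoc, Category.assoc, hj]
    refine ⟨l, ⟨q, hq⟩, hI₂, ?_, ?_⟩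
    · apply Over.OverMorphism.ext
      show Spec.map _ ≫ Spec.map (CommRingCat.ofHom (pinchFst eA c eL hc)) ≫ l.left =
        Spec.map _ ≫ (prL ≫ Dc.v).left
      have h2 := congrArg CommaMorphism.left hI₂
      change Spec.map (CommRingCat.ofHom (pinchSnd eA c eL hc)) ≫ l.left =
        Spec.map (CommRingCat.ofHom (pinchSnd eA c eL hc)) ≫
          Spec.map (CommRingCat.ofHom (pinchC eA c eL hc)) ≫ Dc.v.left at h2
      rw [(pinch_isPushout (hc := hc)).w_assoc, h2,
        ← (pinch_isPushout (hc := hc)).w_assoc]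
      show _ = Spec.map _ ≫ Spec.map (CommRingCat.ofHom c) ≫ Dc.v.left
      rw [← Spec.map_comp_assoc (CommRingCat.ofHom (pinchC eA c eL hc)), ← CommRingCat.ofHom_comp]
      rfl
    · obtain ⟨sg, qg, hqg⟩ := exists_section Dc.he (autPt h𝒴 y _ g) (T := algOver str c) rfl
      obtain ⟨χ, hχ⟩ := exists_autHom (pinchI₁ hc) (pinchI₁_pt hc r) φ g hφ₁
      have hs := section_eq Dc.he (pinchI₁ hc) qg hqg q hq χ hχ
      rw [← AlgSpLimit.equiv_map, ← Category.assoc, ← Functor.map_comp] at hs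
      rw [hs]
      exact ⟨qg, hqg⟩
  obtain ⟨l, ⟨q, hq⟩, hl₂, hl₁, hlg⟩ := hlift f h₁ h₂
  obtain ⟨l', ⟨q', hq'⟩, hl₂', hl₁', hlg'⟩ := hlift f' h₁' h₂'
  have hu := (exists_chart_lift Dc eL hLee hker EL hEL prL (a := algPt str r c) rfl hELr g hg).unique
    ⟨hl₁, hlg⟩ ⟨hl₁', hlg'⟩
  have hll : l = l' := Over.OverMorphism.ext (pinch_hom_ext (hc := hc)
    (congrArg CommaMorphism.left hu) (congrArg CommaMorphism.left (hl₂.trans hl₂'.symm)))
  subst hll
  obtain ⟨χ, hχ⟩ := exists_hom_of_map (e := Dc.e) (𝟙 _) (by simp) q hq q' hq'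
  exact ((pullM_self h𝒴 f').symm.trans (pullM_of_autHom _ _ f' f χ hχ)).symm

/-- Automorphisms trivial on the retract extend to the pinching. -/
theorem pinch_exists (Dc : DiagChart h𝒴 y r) (hLee : eL.comp eL = eL)
    (hker : (RingHom.ker eL) ^ 2 = ⊥) (EL : algOver str c ⟶ algOver str c)
    (hEL : EL.left = Spec.map (CommRingCat.ofHom eL))
    (hELr : EL ≫ algPt str r c = algPt str r c)
    (f : ob y (algPt str r c) ⟶ ob y (algPt str r c))
    (hf : pullM h𝒴 y y EL hELr hELr f = 𝟙 _) :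
    ∃ fD : ob y (algPt str r (pinchC eA c eL hc)) ⟶ ob y (algPt str r (pinchC eA c eL hc)),
      pullM h𝒴 y y (pinchI₁ hc) (pinchI₁_pt hc r) (pinchI₁_pt hc r) fD = f ∧
      pullM h𝒴 y y (pinchI₂ hc) (pinchI₂_pt hc r) (pinchI₂_pt hc r) fD = 𝟙 _ := by
  let prL : algOver str c ⟶ Over.mk str := Over.homMk (Spec.map (CommRingCat.ofHom c)) rfl
  let iB : algOver str (Ideal.Quotient.mk (RingHom.ker eA)) ⟶ Over.mk str :=
    Over.homMk (Spec.map (CommRingCat.ofHom (Ideal.Quotient.mk (RingHom.ker eA)))) rfl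
  obtain ⟨uL, ⟨huL, qL, hqL⟩, -⟩ :=
    exists_chart_lift Dc eL hLee hker EL hEL prL (a := algPt str r c) rfl hELr f hf
  have huL' : Spec.map (CommRingCat.ofHom (Ideal.Quotient.mk (RingHom.ker eL))) ≫ uL.left =
      Spec.map (CommRingCat.ofHom (Ideal.Quotient.mk (RingHom.ker eL))) ≫
        Spec.map (CommRingCat.ofHom c) ≫ Dc.v.left := congrArg CommaMorphism.left huL
  have hcompat : Spec.map (CommRingCat.ofHom (Ideal.Quotient.mk (RingHom.ker eL))) ≫ uL.left =
      Spec.map (CommRingCat.ofHom (Ideal.quotientMap (RingHom.ker eL) c hc)) ≫ (iB ≫ Dc.v).left := by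
    rw [huL']
    show _ = _ ≫ Spec.map (CommRingCat.ofHom (Ideal.Quotient.mk (RingHom.ker eA))) ≫ Dc.v.left
    rw [← Spec.map_comp_assoc, ← Spec.map_comp_assoc, ← CommRingCat.ofHom_comp,
      ← CommRingCat.ofHom_comp]
    congr 3
  have hP := pinch_isPushout (eA := eA) (c := c) (eL := eL) (hc := hc)
  let uD : algOver str (pinchC eA c eL hc) ⟶ Dc.G := Over.homMk (hP.desc uL.left (iB ≫ Dc.v).left hcompat) (by
    refine pinch_hom_ext (hc := hc) ?_ ?_
    · rw [hP.inl_desc_assoc, Over.w uL]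
      exact (Over.w (pinchI₁ (str := str) hc)).symm
    · rw [hP.inr_desc_assoc, Over.w (iB ≫ Dc.v)]
      exact (Over.w (pinchI₂ (str := str) hc)).symm)
  have hu₁ : pinchI₁ hc ≫ uD = uL := Over.OverMorphism.ext (hP.inl_desc _ _ _)
  have hu₂ : pinchI₂ hc ≫ uD = iB ≫ Dc.v := Over.OverMorphism.ext (hP.inr_desc _ _ _)
  obtain ⟨a₁, b₁, δ, hδ, qD, hqD⟩ := exists_pt_of_section (e := Dc.e)
    (T := algOver str (pinchC eA c eL hc))
    ((_root_.AlgSp.J S).uliftYonedaEquiv.{u + 1} ((yon S).map uD ≫ Dc.c))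
  obtain ⟨χ₁, hχ₁⟩ := exists_hom_of_map (e := Dc.e) (pinchI₁ hc)
    (by rw [← AlgSpLimit.equiv_map, ← Category.assoc, ← Functor.map_comp, hu₁]) qL hqL qD hqD
  obtain ⟨qv, hqv⟩ := Dc.hv
  obtain ⟨sB, qB, hqB⟩ := exists_section Dc.he
    (autPt h𝒴 y (algPt str r (Ideal.Quotient.mk (RingHom.ker eA))) (𝟙 _))
    (T := algOver str (Ideal.Quotient.mk (RingHom.ker eA))) rfl
  obtain ⟨χv, hχv⟩ := exists_autHom_diag (h𝒴 := h𝒴) (y := y) (r := r) iB
    (a := algPt str r (Ideal.Quotient.mk (RingHom.ker eA))) rfl (𝟙 _) rfl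
  have hsB := section_eq Dc.he iB qB hqB qv hqv χv hχv
  obtain ⟨χ₂, hχ₂⟩ := exists_hom_of_map (e := Dc.e) (pinchI₂ hc)
    (by rw [← hsB, ← AlgSpLimit.equiv_map, ← AlgSpLimit.equiv_map, ← Category.assoc,
      ← Category.assoc, ← Functor.map_comp, ← Functor.map_comp, hu₂]) qB hqB qD hqD
  obtain ⟨ha₁, hb₁⟩ := of_stdHom y y _ χ₁ hχ₁
  obtain ⟨ha₂, hb₂⟩ := of_stdHom y y _ χ₂ hχ₂
  obtain rfl : a₁ = algPt str r (pinchC eA c eL hc) :=
    Over.OverMorphism.ext (pinch_hom_ext (hc := hc)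
      (congrArg CommaMorphism.left (ha₁.trans (pinchI₁_pt hc r).symm))
      (congrArg CommaMorphism.left (ha₂.trans (pinchI₂_pt hc r).symm)))
  obtain rfl : b₁ = algPt str r (pinchC eA c eL hc) :=
    Over.OverMorphism.ext (pinch_hom_ext (hc := hc)
      (congrArg CommaMorphism.left (hb₁.trans (pinchI₁_pt hc r).symm))
      (congrArg CommaMorphism.left (hb₂.trans (pinchI₂_pt hc r).symm)))
  exact ⟨⟨δ.hom, hδ⟩, pullM_of_stdHom _ _ δ hδ f χ₁ hχ₁,
    pullM_of_stdHom _ _ δ hδ (𝟙 _) χ₂ hχ₂⟩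

omit h𝒴

/-- The kernel of the induced idempotent of a monoid algebra. -/
theorem ker_mapRingHom_sq {M : Type*} [AddCommMonoid M] {e : A →+* A} (hee : e.comp e = e)
    (hker : (RingHom.ker e) ^ 2 = ⊥) :
    (RingHom.ker (AddMonoidAlgebra.mapRingHom M e)) ^ 2 = ⊥ := by
  have hle : RingHom.ker (AddMonoidAlgebra.mapRingHom M e) ≤
      (RingHom.ker e).map (AddMonoidAlgebra.singleZeroRingHom (R := A) (M := M)) := by
    have key : ∀ z, z - AddMonoidAlgebra.mapRingHom M e z ∈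
        (RingHom.ker e).map (AddMonoidAlgebra.singleZeroRingHom (R := A) (M := M)) := by
      intro z
      induction z using AddMonoidAlgebra.induction_linear with
      | zero => simp
      | add a b ha hb => rw [map_add, add_sub_add_comm]; exact add_mem ha hb
      | single m a =>
        rw [AddMonoidAlgebra.mapRingHom_single, show AddMonoidAlgebra.single m a -
            AddMonoidAlgebra.single m (e a) = AddMonoidAlgebra.singleZeroRingHom (a - e a) *
              AddMonoidAlgebra.single m 1 by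
              simp [AddMonoidAlgebra.single_mul_single, sub_mul, AddMonoidAlgebra.single_sub]]
        refine Ideal.mul_mem_right _ _ (Ideal.mem_map_of_mem _ ?_)
        rw [RingHom.mem_ker, map_sub, ← RingHom.comp_apply, hee, sub_self]
    intro z hz
    have h := key z
    rwa [RingHom.mem_ker.1 hz, sub_zero] at h
  refine le_antisymm (le_trans (Ideal.pow_right_mono hle 2) ?_) bot_le
  rw [← Ideal.map_pow, hker, Ideal.map_bot]

theorem mapRingHom_idem {M : Type*} [AddCommMonoid M] {e : A →+* A} (hee : e.comp e = e) :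
    (AddMonoidAlgebra.mapRingHom M e).comp (AddMonoidAlgebra.mapRingHom M e) =
      AddMonoidAlgebra.mapRingHom M e := by
  refine AddMonoidAlgebra.ringHom_ext (fun a => ?_) (fun m => ?_)
  · simp [← RingHom.comp_apply e e, hee]
  · simp

end

end Groth.Agent.IsoNatSm
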