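import Groth.Agent.IsoNatSm.Inertia

/-!
# Vanishing of infinitesimal automorphisms transfers along isomorphisms of isomorphism classes
-/

set_option autoImplicit false
set_option backward.isDefEq.respectTransparency false
set_option backward.isDefEq.respectTransparency.types false

universe u

open CategoryTheory CategoryTheory.Limits AlgebraicGeometry Opposite

namespace Groth.Agent.IsoNatSm

noncomputable section

variable {A : Type u} [CommRing A]

theorem sz_apply {M : Type} [AddMonoid M] (a : A) :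
    (AddMonoidAlgebra.singleZeroRingHom : A →+* AddMonoidAlgebra A M) a =
      AddMonoidAlgebra.single 0 a := rfl

theorem mdSZ {M N : Type} [AddMonoid M] [AddMonoid N] (f : M →+ N) (a : A) :
    AddMonoidAlgebra.mapDomainRingHom A f (AddMonoidAlgebra.singleZeroRingHom a) =
      AddMonoidAlgebra.singleZeroRingHom a := by
  show AddMonoidAlgebra.mapDomain f (AddMonoidAlgebra.single 0 a) = AddMonoidAlgebra.single 0 a
  simp

theorem mdS {M N : Type} [AddMonoid M] [AddMonoid N] (f : M →+ N) (m : M) (a : A) :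
    AddMonoidAlgebra.mapDomainRingHom A f (AddMonoidAlgebra.single m a) =
      AddMonoidAlgebra.single (f m) a := by
  show AddMonoidAlgebra.mapDomain f (AddMonoidAlgebra.single m a) = AddMonoidAlgebra.single (f m) a
  simp

theorem mrSZ {M : Type} [AddMonoid M] (e : A →+* A) (a : A) :
    AddMonoidAlgebra.mapRingHom M e (AddMonoidAlgebra.singleZeroRingHom a) =
      AddMonoidAlgebra.singleZeroRingHom (e a) := by
  show AddMonoidAlgebra.mapRingHom M e (AddMonoidAlgebra.single 0 a) =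
    AddMonoidAlgebra.single 0 (e a)
  simp

open AddMonoidAlgebra in
/-- The coefficient extraction on a pinching of a monoid algebra. -/
def pinchCoeff {M : Type} [AddCommMonoid M] (eA : A →+* A) (hee : eA.comp eA = eA) (n : M)
    (hn : n ≠ 0) (hker : (RingHom.ker eA) ^ 2 = ⊥)
    (hc : ∀ a ∈ RingHom.ker eA, (singleZeroRingHom : A →+* AddMonoidAlgebra A M) a ∈
      RingHom.ker (mapRingHom M eA)) :
    pinch eA (singleZeroRingHom : A →+* AddMonoidAlgebra A M) (mapRingHom M eA) hc →+* A where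
  toFun z := retr eA z.1.2 + z.1.1.coeff n
  map_one' := by
    show retr eA 1 + (1 : AddMonoidAlgebra A M).coeff n = 1
    classical
    rw [map_one, AddMonoidAlgebra.one_def, AddMonoidAlgebra.coeff_single, Finsupp.single_apply,
      if_neg (Ne.symm hn), add_zero]
  map_zero' := by simp
  map_add' z w := by
    show retr eA (z.1.2 + w.1.2) + (z.1.1 + w.1.1).coeff n = _
    rw [map_add]
    simp only [AddMonoidAlgebra.coeff_add, Finsupp.add_apply]
    abel
  map_mul' z w := by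
    have dec : ∀ v : pinch eA (singleZeroRingHom : A →+* AddMonoidAlgebra A M) (mapRingHom M eA) hc,
        v.1.1 - singleZeroRingHom (retr eA v.1.2) ∈ RingHom.ker (mapRingHom M eA) := fun v => by
      refine Ideal.Quotient.eq.1 ?_
      conv_rhs => rw [← Ideal.quotientMap_mk (H := hc), mk_retr hee]
      exact v.2
    have hmul : ∀ p q, p ∈ RingHom.ker (mapRingHom M eA) → q ∈ RingHom.ker (mapRingHom M eA) →
        p * q = 0 := fun p q hp hq => by
      have := Ideal.mul_mem_mul hp hq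
      rwa [← pow_two, ker_mapRingHom_sq hee hker] at this
    have hscal : ∀ (a : A) (p : AddMonoidAlgebra A M),
        ((singleZeroRingHom : A →+* AddMonoidAlgebra A M) a * p).coeff n = a * p.coeff n := fun a p =>
      AddMonoidAlgebra.coeff_single_zero_mul p a n
    have hc0 : ∀ a : A, ((singleZeroRingHom : A →+* AddMonoidAlgebra A M) a).coeff n = 0 := fun a => by
      classical
      show (AddMonoidAlgebra.single 0 a).coeff n = 0
      rw [AddMonoidAlgebra.coeff_single, Finsupp.single_apply, if_neg (Ne.symm hn)]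
    have hcoef : ∀ v : pinch eA (singleZeroRingHom : A →+* AddMonoidAlgebra A M) (mapRingHom M eA) hc,
        (v.1.1 - singleZeroRingHom (retr eA v.1.2)).coeff n = v.1.1.coeff n := fun v => by
      simp only [AddMonoidAlgebra.coeff_sub, Finsupp.sub_apply, hc0, sub_zero]
    have hab : z.1.1.coeff n * w.1.1.coeff n = 0 := by
      have h1 : ∀ v : pinch eA (singleZeroRingHom : A →+* AddMonoidAlgebra A M) (mapRingHom M eA) hc,
          v.1.1.coeff n ∈ RingHom.ker eA := fun v => by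
        rw [← hcoef v, RingHom.mem_ker, ← AddMonoidAlgebra.coeff_mapRingHom,
          RingHom.mem_ker.1 (dec v)]
        simp
      have := Ideal.mul_mem_mul (h1 z) (h1 w)
      rwa [← pow_two, hker] at this
    show retr eA (z.1.2 * w.1.2) + (z.1.1 * w.1.1).coeff n =
      (retr eA z.1.2 + z.1.1.coeff n) * (retr eA w.1.2 + w.1.1.coeff n)
    have hz : z.1.1 * w.1.1 = singleZeroRingHom (retr eA z.1.2 * retr eA w.1.2) +
        singleZeroRingHom (retr eA z.1.2) * (w.1.1 - singleZeroRingHom (retr eA w.1.2)) +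
        singleZeroRingHom (retr eA w.1.2) * (z.1.1 - singleZeroRingHom (retr eA z.1.2)) := by
      rw [map_mul]
      linear_combination hmul _ _ (dec z) (dec w)
    rw [hz]
    simp only [AddMonoidAlgebra.coeff_add, Finsupp.add_apply, hscal, hcoef, hc0, map_mul]
    linear_combination (-1 : A) * hab

variable {S : Scheme.{u}} {U : Over S} {𝒳 𝒴 : AlgSt.Cat S}

set_option maxHeartbeats 1600000 in
open MvPolynomial AddMonoidAlgebra in
/-- Infinitesimal automorphisms vanish on one side if they vanish on the other. -/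
theorem eq_id_of_trivial_on_retract (h𝒴 : AlgSt.IsAlgStack Scheme.fppfPrecoverage 𝒴)
    (y : FibCat.overCat U ⥤ᵇ 𝒴) (hsrc : InfSrc y)
    {str : Spec (CommRingCat.of A) ⟶ S} (eA : A →+* A) (hee : eA.comp eA = eA)
    (hker : (RingHom.ker eA) ^ 2 = ⊥)
    (εA : Over.mk str ⟶ Over.mk str) (hεA : εA.left = Spec.map (CommRingCat.ofHom eA))
    (r : Over.mk str ⟶ U) (hr : εA ≫ r = r) (Dc : DiagChart h𝒴.isStack.1 y r)
    (ψ : ob y r ⟶ ob y r) (hψ : pullM h𝒴.isStack.1 y y εA hr hr ψ = 𝟙 _) : ψ = 𝟙 _ := by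
  have hY := h𝒴.isStack.1
  have hee' : ∀ a, eA (eA a) = eA a := fun a => RingHom.congr_fun hee a
  have hsq : ∀ a b : A, (a - eA a) * (b - eA b) = 0 := by
    intro a b
    have hm : ∀ a, a - eA a ∈ RingHom.ker eA := fun a => by
      rw [RingHom.mem_ker, map_sub, hee', sub_self]
    have := Ideal.mul_mem_mul (hm a) (hm b)
    rwa [← pow_two, hker] at this
  have hstr : Spec.map (CommRingCat.ofHom eA) ≫ str = str := by rw [← hεA]; exact Over.w εA
  have hre : Spec.map (CommRingCat.ofHom eA) ≫ r.left = r.left := by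
    rw [← hεA]; exact congrArg CommaMorphism.left hr
  -- the three monoid algebras
  let g₀ : MvPolynomial Bool A →+* (AddMonoidAlgebra A (ℤ × ℕ)) := eval₂Hom (singleZeroRingHom : A →+* (AddMonoidAlgebra A (ℤ × ℕ)))
    (fun b => AddMonoidAlgebra.single (if b then ((0 : ℤ), 1) else (1, 0)) 1)
  let g₁ : MvPolynomial Bool A →+* (AddMonoidAlgebra A (ℕ × ℤ)) := eval₂Hom (singleZeroRingHom : A →+* (AddMonoidAlgebra A (ℕ × ℤ)))
    (fun b => AddMonoidAlgebra.single (if b then ((0 : ℕ), 1) else (1, 0)) 1)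
  let i₀ : ℤ × ℕ →+ ℤ × ℤ := (AddMonoidHom.id ℤ).prodMap (Nat.castAddMonoidHom ℤ)
  let i₁ : ℕ × ℤ →+ ℤ × ℤ := (Nat.castAddMonoidHom ℤ).prodMap (AddMonoidHom.id ℤ)
  let q₀ : (AddMonoidAlgebra A (ℤ × ℕ)) →+* (AddMonoidAlgebra A (ℤ × ℤ)) := mapDomainRingHom A i₀
  let q₁ : (AddMonoidAlgebra A (ℕ × ℤ)) →+* (AddMonoidAlgebra A (ℤ × ℤ)) := mapDomainRingHom A i₁
  have hg₀C : g₀.comp MvPolynomial.C = (singleZeroRingHom : A →+* (AddMonoidAlgebra A (ℤ × ℕ))) :=
    RingHom.ext fun a => eval₂Hom_C _ _ a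
  have hg₁C : g₁.comp MvPolynomial.C = (singleZeroRingHom : A →+* (AddMonoidAlgebra A (ℕ × ℤ))) :=
    RingHom.ext fun a => eval₂Hom_C _ _ a
  have hq₀C : (q₀.comp g₀).comp MvPolynomial.C = (singleZeroRingHom : A →+* (AddMonoidAlgebra A (ℤ × ℤ))) := by
    rw [RingHom.comp_assoc, hg₀C]
    exact RingHom.ext fun a => mdSZ i₀ a
  have hunit : ∀ {M : Type} [AddCommMonoid M] (a b : M), a + b = 0 →
      IsUnit (AddMonoidAlgebra.single a (1 : A)) := fun a b h =>
    IsUnit.of_mul_eq_one (AddMonoidAlgebra.single b (1 : A))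
      (by rw [AddMonoidAlgebra.single_mul_single, h, one_mul, AddMonoidAlgebra.one_def])
  have hu₀ : IsUnit (g₀ (X false)) := by
    rw [eval₂Hom_X']
    exact hunit _ (((-1 : ℤ), 0) : ℤ × ℕ) (by ext <;> simp)
  have hu₁ : IsUnit (g₁ (X true)) := by
    rw [eval₂Hom_X']
    exact hunit _ ((0, (-1 : ℤ)) : ℕ × ℤ) (by ext <;> simp)
  have hq : q₀.comp g₀ = q₁.comp g₁ := by
    refine MvPolynomial.ringHom_ext (fun a => ?_) (fun b => ?_)
    · show q₀ (g₀ (C a)) = q₁ (g₁ (C a))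
      simp only [g₀, g₁, eval₂Hom_C]
      exact (mdSZ i₀ a).trans (mdSZ i₁ a).symm
    · show q₀ (g₀ (X b)) = q₁ (g₁ (X b))
      simp only [g₀, g₁, eval₂Hom_X']
      refine (mdS i₀ _ _).trans (Eq.trans ?_ (mdS i₁ _ _).symm)
      cases b <;> simp [i₀, i₁]
  have he₀ : (AddMonoidAlgebra.mapRingHom (ℤ × ℕ) eA).comp g₀ = g₀.comp (MvPolynomial.map eA) := by
    refine MvPolynomial.ringHom_ext (fun a => ?_) (fun b => ?_)
    · show AddMonoidAlgebra.mapRingHom _ eA (g₀ (C a)) = g₀ (MvPolynomial.map eA (C a))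
      simp only [g₀, eval₂Hom_C, MvPolynomial.map_C]
      exact mrSZ eA a
    · show AddMonoidAlgebra.mapRingHom _ eA (g₀ (X b)) = g₀ (MvPolynomial.map eA (X b))
      simp only [g₀, eval₂Hom_X', MvPolynomial.map_X]
      cases b <;> simp
  have he₁ : (AddMonoidAlgebra.mapRingHom (ℕ × ℤ) eA).comp g₁ = g₁.comp (MvPolynomial.map eA) := by
    refine MvPolynomial.ringHom_ext (fun a => ?_) (fun b => ?_)
    · show AddMonoidAlgebra.mapRingHom _ eA (g₁ (C a)) = g₁ (MvPolynomial.map eA (C a))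
      simp only [g₁, eval₂Hom_C, MvPolynomial.map_C]
      exact mrSZ eA a
    · show AddMonoidAlgebra.mapRingHom _ eA (g₁ (X b)) = g₁ (MvPolynomial.map eA (X b))
      simp only [g₁, eval₂Hom_X', MvPolynomial.map_X]
      cases b <;> simp
  let n : ℤ × ℤ := (-1, -1)
  let w : (AddMonoidAlgebra A (ℤ × ℤ)) := AddMonoidAlgebra.single n 1
  have hw : q₀ (g₀ (X false * X true)) * w = 1 := by
    simp only [map_mul, g₀, eval₂Hom_X']
    rw [mdS, mdS, AddMonoidAlgebra.single_mul_single, AddMonoidAlgebra.single_mul_single,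
      AddMonoidAlgebra.one_def]
    congr 1 <;> simp [i₀, n]
  -- the idempotents
  have hcomm : ∀ {M : Type} [AddCommMonoid M],
      (AddMonoidAlgebra.mapRingHom M eA).comp (singleZeroRingHom : A →+* AddMonoidAlgebra A M) =
        (singleZeroRingHom : A →+* AddMonoidAlgebra A M).comp eA := fun {M} _ =>
    RingHom.ext fun a => mrSZ eA a
  have hEw : ∀ {L' : Type u} [CommRing L'] (e' : L' →+* L') (c' : A →+* L'),
      e'.comp c' = c'.comp eA → Spec.map (CommRingCat.ofHom (e'.comp c')) ≫ str =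
        Spec.map (CommRingCat.ofHom c') ≫ str := by
    intro L' _ e' c' h
    rw [h, CommRingCat.ofHom_comp, Spec.map_comp, Category.assoc, hstr]
  let E₀ : algOver str (g₀.comp MvPolynomial.C) ⟶ algOver str (g₀.comp MvPolynomial.C) :=
    algHom str (AddMonoidAlgebra.mapRingHom (ℤ × ℕ) eA) (hEw _ _ (by rw [hg₀C]; exact hcomm))
  let E₁ : algOver str (g₁.comp MvPolynomial.C) ⟶ algOver str (g₁.comp MvPolynomial.C) :=
    algHom str (AddMonoidAlgebra.mapRingHom (ℕ × ℤ) eA) (hEw _ _ (by rw [hg₁C]; exact hcomm))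
  let Q₀ : algOver str ((q₀.comp g₀).comp MvPolynomial.C) ⟶ algOver str (g₀.comp MvPolynomial.C) :=
    algHom str q₀ (by rw [RingHom.comp_assoc])
  let Q₁ : algOver str ((q₀.comp g₀).comp MvPolynomial.C) ⟶ algOver str (g₁.comp MvPolynomial.C) :=
    algHom str q₁ (by rw [← RingHom.comp_assoc, ← hq])
  let σ : A →+* (AddMonoidAlgebra A (ℤ × ℤ)) := twistHom ((q₀.comp g₀).comp MvPolynomial.C) eA hsq w
  have hσe : σ.comp eA = ((q₀.comp g₀).comp MvPolynomial.C).comp eA :=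
    RingHom.ext fun a => by simp [σ, twistHom, hee']
  let Qw : algOver str ((q₀.comp g₀).comp MvPolynomial.C) ⟶ Over.mk str :=
    Over.homMk (Spec.map (CommRingCat.ofHom σ)) (by
      show Spec.map (CommRingCat.ofHom σ) ≫ str = Spec.map (CommRingCat.ofHom _) ≫ str
      conv_lhs => rw [← hstr]
      rw [← Spec.map_comp_assoc, ← CommRingCat.ofHom_comp, hσe, CommRingCat.ofHom_comp,
        Spec.map_comp_assoc, hstr])
  obtain ⟨hp₀, hp₁, hpw, hs₀, hs₁, f₀, f₁, hf₀, hf₁, hloop⟩ :=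
    exists_twist_trivialization h𝒴 y hsrc str eA hee hker hsq εA hεA r hr ψ hψ g₀ g₁ q₀ q₁
      hu₀ hu₁ hq (AddMonoidAlgebra.mapRingHom (ℤ × ℕ) eA) (AddMonoidAlgebra.mapRingHom (ℕ × ℤ) eA)
      he₀ he₁ w hw E₀ rfl E₁ rfl Q₀ rfl Q₁ rfl Qw rfl
  -- pinchings
  have hc : ∀ {M : Type} [AddCommMonoid M] (c' : A →+* AddMonoidAlgebra A M),
      c' = singleZeroRingHom → ∀ a ∈ RingHom.ker eA, c' a ∈ RingHom.ker (mapRingHom M eA) := by
    intro M _ c' h a ha
    subst h
    rw [RingHom.mem_ker, ← RingHom.comp_apply, hcomm, RingHom.comp_apply, RingHom.mem_ker.1 ha,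
      map_zero]
  have hC₀ := hc _ hg₀C
  have hC₁ := hc _ hg₁C
  have hCL := hc _ hq₀C
  obtain ⟨F₀, hF₀, hF₀'⟩ := pinch_exists (hc := hC₀) Dc (mapRingHom_idem hee)
    (ker_mapRingHom_sq hee hker) E₀ rfl hs₀ f₀ hf₀
  obtain ⟨F₁, hF₁, hF₁'⟩ := pinch_exists (hc := hC₁) Dc (mapRingHom_idem hee)
    (ker_mapRingHom_sq hee hker) E₁ rfl hs₁ f₁ hf₁
  have hincl : ∀ {M : Type} [AddCommMonoid M] (i : M →+ ℤ × ℤ) (c' : A →+* AddMonoidAlgebra A M)
      (hc' : ∀ a ∈ RingHom.ker eA, c' a ∈ RingHom.ker (mapRingHom M eA)),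
      (mapDomainRingHom A i).comp c' = (q₀.comp g₀).comp MvPolynomial.C →
      ∃ k : pinch eA c' (mapRingHom M eA) hc' →+*
          pinch eA ((q₀.comp g₀).comp MvPolynomial.C) (mapRingHom (ℤ × ℤ) eA) hCL,
        (∀ z, (k z).1 = (mapDomainRingHom A i z.1.1, z.1.2)) ∧
        k.comp (pinchC eA c' _ hc') = pinchC eA _ _ hCL := by
    intro M _ i c' hc' hi
    let k₀ : pinch eA c' (mapRingHom M eA) hc' →+* (AddMonoidAlgebra A (ℤ × ℤ)) × (A ⧸ RingHom.ker eA) :=
      ((mapDomainRingHom A i).comp (pinchFst eA c' _ hc')).prod (pinchSnd eA c' _ hc')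
    refine ⟨k₀.codRestrict _ fun z => ?_, fun z => rfl, RingHom.ext fun a => Subtype.ext
      (Prod.ext (RingHom.congr_fun hi a) rfl)⟩
    obtain ⟨a, ha⟩ := Ideal.Quotient.mk_surjective z.1.2
    have hz : Ideal.Quotient.mk (RingHom.ker (mapRingHom M eA)) z.1.1 =
        Ideal.quotientMap (RingHom.ker (mapRingHom M eA)) c' hc' z.1.2 := z.2
    rw [← ha, Ideal.quotientMap_mk] at hz
    show Ideal.Quotient.mk _ (mapDomainRingHom A i z.1.1) = Ideal.quotientMap _ _ hCL z.1.2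
    rw [← ha, Ideal.quotientMap_mk, ← hi]
    refine Ideal.Quotient.eq.2 ?_
    have hz' := Ideal.Quotient.eq.1 hz
    rw [RingHom.mem_ker] at hz' ⊢
    rw [RingHom.comp_apply, ← map_sub, ← RingHom.comp_apply,
      AddMonoidAlgebra.mapRingHom_comp_mapDomainRingHom, RingHom.comp_apply, hz', map_zero]
  obtain ⟨k₀, hk₀, hk₀C⟩ := hincl i₀ _ hC₀ (by rw [RingHom.comp_assoc])
  obtain ⟨k₁, hk₁, hk₁C⟩ := hincl i₁ _ hC₁ (by rw [← RingHom.comp_assoc, ← hq])
  let σ' : A →+* (AddMonoidAlgebra A (ℤ × ℤ)) × (A ⧸ RingHom.ker eA) := σ.prod (Ideal.Quotient.mk _)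
  let σD : A →+* pinch eA ((q₀.comp g₀).comp MvPolynomial.C) (mapRingHom (ℤ × ℤ) eA) hCL :=
    σ'.codRestrict _ fun a => by
      show Ideal.Quotient.mk _ (σ a) = Ideal.quotientMap _ _ hCL (Ideal.Quotient.mk _ a)
      rw [Ideal.quotientMap_mk]
      refine Ideal.Quotient.eq.2 ?_
      rw [RingHom.mem_ker, hq₀C]
      simp only [σ, twistHom, RingHom.coe_mk, MonoidHom.coe_mk, OneHom.coe_mk, hq₀C]
      simp only [map_add, map_sub, map_mul, mrSZ, hee', sub_self, mul_zero, add_zero]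
  let I₀ : algOver str (pinchC eA _ _ hCL) ⟶ algOver str (pinchC eA _ _ hC₀) :=
    algHom str k₀ (by rw [hk₀C])
  let I₁ : algOver str (pinchC eA _ _ hCL) ⟶ algOver str (pinchC eA _ _ hC₁) :=
    algHom str k₁ (by rw [hk₁C])
  have hσDe : σD.comp eA = (pinchC eA _ _ hCL).comp eA := RingHom.ext fun a =>
    Subtype.ext (Prod.ext (RingHom.congr_fun hσe a) rfl)
  let Iσ : algOver str (pinchC eA _ _ hCL) ⟶ Over.mk str :=
    Over.homMk (Spec.map (CommRingCat.ofHom σD)) (by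
      show Spec.map (CommRingCat.ofHom σD) ≫ str = Spec.map (CommRingCat.ofHom _) ≫ str
      conv_lhs => rw [← hstr]
      rw [← Spec.map_comp_assoc, ← CommRingCat.ofHom_comp, hσDe, CommRingCat.ofHom_comp,
        Spec.map_comp_assoc, hstr])
  have hI₀ : I₀ ≫ algPt str r (pinchC eA _ _ hC₀) = algPt str r (pinchC eA _ _ hCL) := by
    apply Over.OverMorphism.ext
    show Spec.map (CommRingCat.ofHom k₀) ≫ Spec.map _ ≫ r.left = Spec.map _ ≫ r.left
    rw [← Spec.map_comp_assoc, ← CommRingCat.ofHom_comp, hk₀C]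
  have hI₁ : I₁ ≫ algPt str r (pinchC eA _ _ hC₁) = algPt str r (pinchC eA _ _ hCL) := by
    apply Over.OverMorphism.ext
    show Spec.map (CommRingCat.ofHom k₁) ≫ Spec.map _ ≫ r.left = Spec.map _ ≫ r.left
    rw [← Spec.map_comp_assoc, ← CommRingCat.ofHom_comp, hk₁C]
  have hIσ : Iσ ≫ r = algPt str r (pinchC eA _ _ hCL) := by
    apply Over.OverMorphism.ext
    show Spec.map (CommRingCat.ofHom σD) ≫ r.left = Spec.map _ ≫ r.left
    conv_lhs => rw [← hre]
    rw [← Spec.map_comp_assoc, ← CommRingCat.ofHom_comp, hσDe, CommRingCat.ofHom_comp,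
      Spec.map_comp_assoc, hre]
  let J₁ := pinchI₁ (str := str) hCL
  let J₂ := pinchI₂ (str := str) hCL
  have e₁₀ : J₁ ≫ I₀ = Q₀ ≫ pinchI₁ hC₀ := by
    apply Over.OverMorphism.ext
    show Spec.map _ ≫ Spec.map _ = Spec.map _ ≫ Spec.map _
    rw [← Spec.map_comp, ← Spec.map_comp, ← CommRingCat.ofHom_comp, ← CommRingCat.ofHom_comp]
    congr 2
    exact RingHom.ext fun z => congrArg Prod.fst (hk₀ z)
  have e₁₁ : J₁ ≫ I₁ = Q₁ ≫ pinchI₁ hC₁ := by
    apply Over.OverMorphism.ext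
    show Spec.map _ ≫ Spec.map _ = Spec.map _ ≫ Spec.map _
    rw [← Spec.map_comp, ← Spec.map_comp, ← CommRingCat.ofHom_comp, ← CommRingCat.ofHom_comp]
    congr 2
    exact RingHom.ext fun z => congrArg Prod.fst (hk₁ z)
  have e₂₀ : J₂ ≫ I₀ = pinchI₂ hC₀ := by
    apply Over.OverMorphism.ext
    show Spec.map _ ≫ Spec.map _ = Spec.map _
    rw [← Spec.map_comp, ← CommRingCat.ofHom_comp]
    congr 2
    exact RingHom.ext fun z => congrArg Prod.snd (hk₀ z)
  have e₂₁ : J₂ ≫ I₁ = pinchI₂ hC₁ := by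
    apply Over.OverMorphism.ext
    show Spec.map _ ≫ Spec.map _ = Spec.map _
    rw [← Spec.map_comp, ← CommRingCat.ofHom_comp]
    congr 2
    exact RingHom.ext fun z => congrArg Prod.snd (hk₁ z)
  have e₁σ : J₁ ≫ Iσ = Qw := by
    apply Over.OverMorphism.ext
    show Spec.map _ ≫ Spec.map _ = Spec.map _
    rw [← Spec.map_comp, ← CommRingCat.ofHom_comp]
    rfl
  let iB : algOver str (Ideal.Quotient.mk (RingHom.ker eA)) ⟶ Over.mk str :=
    Over.homMk (Spec.map (CommRingCat.ofHom (Ideal.Quotient.mk (RingHom.ker eA)))) rfl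
  have e₂σ : J₂ ≫ Iσ = iB := by
    apply Over.OverMorphism.ext
    show Spec.map _ ≫ Spec.map _ = Spec.map _
    rw [← Spec.map_comp, ← CommRingCat.ofHom_comp]
    rfl
  have hiB : iB ≫ εA = iB := by
    apply Over.OverMorphism.ext
    show Spec.map _ ≫ εA.left = Spec.map _
    rw [hεA, ← Spec.map_comp, ← CommRingCat.ofHom_comp]
    congr 2
    exact RingHom.ext fun a => (Ideal.Quotient.mk_eq_mk_iff_sub_mem _ _).2 (by
      rw [RingHom.mem_ker, map_sub, hee', sub_self])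
  have hψB : pullM hY y y iB rfl rfl ψ = 𝟙 _ := by
    rw [← pullM_congr hY hiB (by rw [hiB]) (by rw [hiB]) ψ,
      ← pullM_pullM hY iB εA hr hr rfl rfl _ rfl, hψ, pullM_id]
  let lhs := pullM hY y y I₀ hI₀ hI₀ F₀ ≫ pullM hY y y Iσ hIσ hIσ ψ
  let rhs := pullM hY y y I₁ hI₁ hI₁ F₁
  have hJ₁ := pinchI₁_pt (str := str) hCL r
  have hJ₂ := pinchI₂_pt (str := str) hCL r
  have key : lhs = rhs := by
    have h₁ : pullM hY y y J₁ hJ₁ hJ₁ lhs = pullM hY y y Q₁ hp₁ hp₁ f₁ := by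
      simp only [lhs]
      rw [pullM_comp hY J₁ hJ₁ hJ₁ hJ₁, pullM_pullM hY J₁ I₀ _ _ _ _ _ e₁₀,
        ← pullM_pullM hY Q₀ (pinchI₁ hC₀) (pinchI₁_pt hC₀ r) (pinchI₁_pt hC₀ r) hp₀ hp₀ _ rfl, hF₀,
        pullM_pullM hY J₁ Iσ _ _ _ _ _ e₁σ]
      exact hloop
    have h₁' : pullM hY y y J₁ hJ₁ hJ₁ rhs = pullM hY y y Q₁ hp₁ hp₁ f₁ := by
      simp only [rhs]
      rw [pullM_pullM hY J₁ I₁ _ _ _ _ _ e₁₁,
        ← pullM_pullM hY Q₁ (pinchI₁ hC₁) (pinchI₁_pt hC₁ r) (pinchI₁_pt hC₁ r) hp₁ hp₁ _ rfl, hF₁]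
    have h₂ : pullM hY y y J₂ hJ₂ hJ₂ lhs = 𝟙 _ := by
      simp only [lhs]
      rw [pullM_comp hY J₂ hJ₂ hJ₂ hJ₂, pullM_pullM hY J₂ I₀ _ _ _ _ _ e₂₀, hF₀',
        pullM_pullM hY J₂ Iσ _ _ _ _ _ e₂σ, hψB, Category.comp_id]
    have h₂' : pullM hY y y J₂ hJ₂ hJ₂ rhs = 𝟙 _ := by
      simp only [rhs]
      rw [pullM_pullM hY J₂ I₁ _ _ _ _ _ e₂₁, hF₁']
    let EL : algOver str ((q₀.comp g₀).comp MvPolynomial.C) ⟶
        algOver str ((q₀.comp g₀).comp MvPolynomial.C) :=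
      algHom str (AddMonoidAlgebra.mapRingHom (ℤ × ℤ) eA) (hEw _ _ (by rw [hq₀C]; exact hcomm))
    have hELr : EL ≫ algPt str r ((q₀.comp g₀).comp MvPolynomial.C) =
        algPt str r ((q₀.comp g₀).comp MvPolynomial.C) := by
      apply Over.OverMorphism.ext
      show Spec.map (CommRingCat.ofHom (AddMonoidAlgebra.mapRingHom (ℤ × ℤ) eA)) ≫
        Spec.map _ ≫ r.left = Spec.map _ ≫ r.left
      rw [← Spec.map_comp_assoc, ← CommRingCat.ofHom_comp, hq₀C, hcomm, CommRingCat.ofHom_comp,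
        Spec.map_comp_assoc, hre]
    have hQE : EL ≫ Q₁ = Q₁ ≫ E₁ := by
      apply Over.OverMorphism.ext
      show Spec.map _ ≫ Spec.map _ = Spec.map _ ≫ Spec.map _
      rw [← Spec.map_comp, ← Spec.map_comp, ← CommRingCat.ofHom_comp, ← CommRingCat.ofHom_comp]
      congr 2
      exact AddMonoidAlgebra.mapRingHom_comp_mapDomainRingHom _ _
    have hELl : EL.left = Spec.map (CommRingCat.ofHom (AddMonoidAlgebra.mapRingHom (ℤ × ℤ) eA)) := rfl
    refine pinch_ext (eA := eA) (c := (q₀.comp g₀).comp MvPolynomial.C)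
      (eL := AddMonoidAlgebra.mapRingHom (ℤ × ℤ) eA) (hc := hCL) Dc hee
      (mapRingHom_idem (M := ℤ × ℤ) hee) (ker_mapRingHom_sq (M := ℤ × ℤ) hee hker) EL hELl hELr εA
      hεA hr lhs rhs (pullM hY y y Q₁ hp₁ hp₁ f₁) ?_ h₁ h₁' h₂ h₂'
    rw [pullM_pullM hY EL Q₁ _ _ _ _ _ hQE, ← pullM_pullM hY Q₁ E₁ hs₁ hs₁ hp₁ hp₁ _ rfl, hf₁,
      pullM_id]
  -- extracting the coefficient
  let κc := pinchCoeff eA hee n (by simp [n]) hker (hc _ rfl)
  have hsame : pinch eA ((q₀.comp g₀).comp MvPolynomial.C) (mapRingHom (ℤ × ℤ) eA) hCL =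
      pinch eA (singleZeroRingHom : A →+* (AddMonoidAlgebra A (ℤ × ℤ))) (mapRingHom (ℤ × ℤ) eA) (hc _ rfl) := by
    congr 1
  let κ : pinch eA ((q₀.comp g₀).comp MvPolynomial.C) (mapRingHom (ℤ × ℤ) eA) hCL →+* A :=
    κc.comp (Subring.inclusion hsame.le)
  have hκ : ∀ z, κ z = retr eA z.1.2 + z.1.1.coeff n := fun z => rfl
  have hcn : ∀ a, (((q₀.comp g₀).comp MvPolynomial.C) a : (AddMonoidAlgebra A (ℤ × ℤ))).coeff n = 0 := fun a => by
    rw [hq₀C]
    simp [sz_apply, n]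
  have hκC : κ.comp (pinchC eA _ _ hCL) = eA := RingHom.ext fun a => by
    refine (hκ _).trans ?_
    show eA a + (((q₀.comp g₀).comp MvPolynomial.C) a : (AddMonoidAlgebra A (ℤ × ℤ))).coeff n = eA a
    rw [hcn, add_zero]
  let K : Over.mk str ⟶ algOver str (pinchC eA _ _ hCL) :=
    Over.homMk (Spec.map (CommRingCat.ofHom κ)) (by
      show Spec.map (CommRingCat.ofHom κ) ≫ Spec.map (CommRingCat.ofHom (pinchC eA _ _ hCL)) ≫ str = str
      rw [← Spec.map_comp_assoc, ← CommRingCat.ofHom_comp, hκC, hstr])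
  have hKr : K ≫ algPt str r (pinchC eA _ _ hCL) = r := by
    apply Over.OverMorphism.ext
    show Spec.map (CommRingCat.ofHom κ) ≫ Spec.map _ ≫ r.left = r.left
    rw [← Spec.map_comp_assoc, ← CommRingCat.ofHom_comp, hκC, hre]
  let ρA : Over.mk str ⟶ algOver str (Ideal.Quotient.mk (RingHom.ker eA)) :=
    Over.homMk (Spec.map (CommRingCat.ofHom (retr eA))) (by
      show Spec.map _ ≫ Spec.map _ ≫ str = str
      rw [← Spec.map_comp_assoc, ← CommRingCat.ofHom_comp,
        show (retr eA).comp (Ideal.Quotient.mk (RingHom.ker eA)) = eA from rfl, hstr])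
  have hρA : ρA ≫ algPt str r (Ideal.Quotient.mk (RingHom.ker eA)) = r := by
    apply Over.OverMorphism.ext
    show Spec.map _ ≫ Spec.map _ ≫ r.left = r.left
    rw [← Spec.map_comp_assoc, ← CommRingCat.ofHom_comp,
      show (retr eA).comp (Ideal.Quotient.mk (RingHom.ker eA)) = eA from rfl, hre]
  have hnotmem₀ : ∀ l : (AddMonoidAlgebra A (ℤ × ℕ)), (q₀ l).coeff n = 0 := fun l => by
    induction l using AddMonoidAlgebra.induction_linear with
    | zero => simp
    | add a b ha hb => simp [map_add, ha, hb]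
    | single m a =>
      simp only [q₀, AddMonoidAlgebra.mapDomainRingHom_apply, AddMonoidAlgebra.mapDomain_single,
        AddMonoidAlgebra.coeff_single, Finsupp.single_apply]
      refine if_neg fun h => ?_
      have := congrArg Prod.snd h
      simp [i₀, n] at this
  have hnotmem₁ : ∀ l : (AddMonoidAlgebra A (ℕ × ℤ)), (q₁ l).coeff n = 0 := fun l => by
    induction l using AddMonoidAlgebra.induction_linear with
    | zero => simp
    | add a b ha hb => simp [map_add, ha, hb]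
    | single m a =>
      simp only [q₁, AddMonoidAlgebra.mapDomainRingHom_apply, AddMonoidAlgebra.mapDomain_single,
        AddMonoidAlgebra.coeff_single, Finsupp.single_apply]
      refine if_neg fun h => ?_
      have := congrArg Prod.fst h
      simp [i₁, n] at this
  have eK₀ : K ≫ I₀ = ρA ≫ pinchI₂ hC₀ := by
    apply Over.OverMorphism.ext
    show Spec.map _ ≫ Spec.map _ = Spec.map _ ≫ Spec.map _
    rw [← Spec.map_comp, ← Spec.map_comp, ← CommRingCat.ofHom_comp, ← CommRingCat.ofHom_comp]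
    congr 2
    refine RingHom.ext fun z => (hκ _).trans ?_
    rw [hk₀]
    show retr eA z.1.2 + (q₀ z.1.1).coeff n = retr eA z.1.2
    rw [hnotmem₀, add_zero]
  have eK₁ : K ≫ I₁ = ρA ≫ pinchI₂ hC₁ := by
    apply Over.OverMorphism.ext
    show Spec.map _ ≫ Spec.map _ = Spec.map _ ≫ Spec.map _
    rw [← Spec.map_comp, ← Spec.map_comp, ← CommRingCat.ofHom_comp, ← CommRingCat.ofHom_comp]
    congr 2
    refine RingHom.ext fun z => (hκ _).trans ?_
    rw [hk₁]
    show retr eA z.1.2 + (q₁ z.1.1).coeff n = retr eA z.1.2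
    rw [hnotmem₁, add_zero]
  have eKσ : K ≫ Iσ = 𝟙 _ := by
    apply Over.OverMorphism.ext
    show Spec.map _ ≫ Spec.map _ = 𝟙 _
    rw [← Spec.map_comp, ← CommRingCat.ofHom_comp, ← Spec.map_id]
    congr 1
    refine CommRingCat.hom_ext (RingHom.ext fun a => (hκ _).trans ?_)
    show eA a + (((q₀.comp g₀).comp MvPolynomial.C) (eA a) +
      w * ((q₀.comp g₀).comp MvPolynomial.C) (a - eA a) : (AddMonoidAlgebra A (ℤ × ℤ))).coeff n = a
    simp [hq₀C, sz_apply, w, n, hee', AddMonoidAlgebra.single_mul_single, Prod.mk_zero_zero, Finsupp.single_eq_same]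
  have hfin := congrArg (pullM hY y y K hKr hKr) key
  simp only [lhs, rhs] at hfin
  rw [pullM_comp hY K hKr hKr hKr, pullM_pullM hY K I₀ _ _ _ _ _ eK₀,
    ← pullM_pullM hY ρA (pinchI₂ hC₀) (pinchI₂_pt hC₀ r) (pinchI₂_pt hC₀ r) hρA hρA _ rfl, hF₀',
    pullM_id, Category.id_comp, pullM_pullM hY K Iσ _ _ _ _ _ eKσ, pullM_self,
    pullM_pullM hY K I₁ _ _ _ _ _ eK₁,
    ← pullM_pullM hY ρA (pinchI₂ hC₁) (pinchI₂_pt hC₁ r) (pinchI₂_pt hC₁ r) hρA hρA _ rfl, hF₁',
    pullM_id] at hfin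
  exact hfin

end

end Groth.Agent.IsoNatSm
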