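import Groth.Agent.IsoNatSm.Elements
import Groth.Agent.AlgSpFormal.SmoothCharts

/-!
# Infinitesimal lifting read on isomorphism classes
-/

set_option autoImplicit false
set_option backward.isDefEq.respectTransparency false
set_option backward.isDefEq.respectTransparency.types false

universe u

open CategoryTheory CategoryTheory.Limits AlgebraicGeometry Opposite

namespace Groth.Agent.IsoNatSm

open _root_.AlgSp (Sp yon IsFormallySmoothMor IsFormallyEtaleMor InfSq)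

noncomputable section

variable {S : Scheme.{u}} {𝒳 𝒴 : AlgSt.Cat S} {U W : Over S}

/-- A functor from a scheme reads the class of its identity object at every point. -/
theorem cls_ob_of_objCls (h𝒴 : FibCat.IsFibGrpd 𝒴.p) (φ : IsoNat.FIso 𝒳 𝒴)
    (x : FibCat.overCat U ⥤ᵇ 𝒳) (y : FibCat.overCat U ⥤ᵇ 𝒴)
    (hxy : φ.toEquiv U (IsoNat.objCls x) = IsoNat.objCls y) {T : Over S} (a : T ⟶ U) :
    φ.toEquiv T (IsoNat.cls (ob x a)) = IsoNat.cls (ob y a) := by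
  obtain ⟨z, hz⟩ := Quotient.exists_rep (φ.toEquiv T (IsoNat.cls (ob x a)))
  obtain ⟨γ, hγ⟩ := IsoNatQC.exists_hom_of_natural h𝒴 φ a (x' := ob x a) (x := ob x (𝟙 U))
    (x.map (ovHom a (Category.comp_id a))) (map_ovHom_isHomLift x a _) (z' := z) (z := ob y (𝟙 U))
    hz.symm hxy
  let β := y.map (ovHom (U := U) a (Category.comp_id a))
  have : 𝒴.p.IsHomLift a β := map_ovHom_isHomLift y a _
  have := Fib.isStronglyCartesian_of_isFibGrpd 𝒴.p h𝒴 a β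
  let θ : z.1 ⟶ (ob y a).1 := Functor.IsCartesian.map 𝒴.p a β γ
  have : IsIso θ := Fib.isIso_of_isHomLift 𝒴.p h𝒴 (𝟙 T) θ
  rw [← hz]
  exact Quotient.sound ⟨
    { hom := ⟨θ, inferInstance⟩
      inv := ⟨inv θ, inferInstance⟩
      hom_inv_id := Subtype.ext (IsIso.hom_inv_id θ)
      inv_hom_id := Subtype.ext (IsIso.inv_hom_id θ) }⟩

variable (A : Type u) [CommRing A] (I : Ideal A) (str : Spec (CommRingCat.of A) ⟶ S)

/-- The closed subscheme. -/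
abbrev thin : Over S := Over.mk (Spec.map (CommRingCat.ofHom (Ideal.Quotient.mk I)) ≫ str)

/-- The thickened scheme. -/
abbrev thick : Over S := Over.mk str

/-- The thickening. -/
abbrev thinHom : thin A I str ⟶ thick A str :=
  Over.homMk (Spec.map (CommRingCat.ofHom (Ideal.Quotient.mk I))) rfl

/-- The lifting property of the representing maps of a smooth chart. -/
theorem exists_lift_obj (h𝒳 : FibCat.IsFibGrpd 𝒳.p) (x : FibCat.overCat U ⥤ᵇ 𝒳)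
    (hx : AlgSt.RepByAlgSpWith IsFormallySmoothMor x) (hI : I ^ 2 = ⊥) (q : thin A I str ⟶ U)
    (θ : 𝒳.p.Fiber (thick A str)) (μ : x.obj (Over.mk q) ⟶ θ.1)
    (hμ : 𝒳.p.IsHomLift (thinHom A I str) μ) :
    ∃ (r : thick A str ⟶ U) (δ : x.obj (Over.mk r) ⟶ θ.1), thinHom A I str ≫ r = q ∧
      𝒳.p.IsHomLift (𝟙 (thick A str)) δ := by
  have := Fib.isFibered_of_isFibGrpd _ h𝒳
  obtain ⟨y, -, ea, hea⟩ := Fib.exists_basedFunctor θ
  obtain ⟨F, e, he, hP⟩ := hx (thick A str) y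
  let j := thinHom A I str
  let n := y.map (ovHom (U := thick A str) j (Category.comp_id j)) ≫ ea.hom
  have : 𝒳.p.IsHomLift j n := by
    have : 𝒳.p.IsHomLift (j ≫ 𝟙 _) n := inferInstance
    rwa [Category.comp_id] at this
  have := Fib.isStronglyCartesian_of_isFibGrpd 𝒳.p h𝒳 j μ
  let θ₀ : y.obj (Over.mk j) ⟶ x.obj (Over.mk q) := Functor.IsCartesian.map 𝒳.p j μ n
  have : IsIso θ₀ := Fib.isIso_of_isHomLift 𝒳.p h𝒳 (𝟙 (thin A I str)) θ₀
  let P₀ := stdPt y x j q (asIso θ₀) (inferInstanceAs (𝒳.p.IsHomLift (𝟙 _) θ₀))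
  obtain ⟨s₀, q₀, hq₀⟩ := exists_section he P₀ rfl
  let top : (yon S).obj (thin A I str) ⟶ F.obj :=
    (_root_.AlgSp.J S).uliftYonedaEquiv.{u + 1}.symm s₀
  obtain ⟨q₀', hq₀'⟩ : ∃ q : e.obj (⟨_, (_root_.AlgSp.J S).uliftYonedaEquiv.{u + 1} top⟩ :
      (AlgSt.ofSp F.obj).obj) ≅ P₀, (FibCat.fp y x).p.IsHomLift (𝟙 (thin A I str)) q.hom := by
    rw [show (_root_.AlgSp.J S).uliftYonedaEquiv.{u + 1} top = s₀ from Equiv.apply_symm_apply _ _]
    exact ⟨q₀, hq₀⟩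
  have hcomm := comp_spMap_fst top q₀' hq₀'
  let sq : InfSq (AlgSt.spMapOfOver (BasedFunctor.comp e (FibCat.fpFst y x))) :=
    { A := A
      commRing := inferInstance
      I := I
      sq_zero := hI
      str := str
      top := top
      bot := 𝟙 _
      comm := by rw [Category.comp_id]; exact hcomm }
  obtain ⟨l, hl₁, hl₂⟩ := hP sq
  obtain ⟨a, b, δ₁, hδ₁, q₁, hq₁⟩ := exists_pt_of_section (e := e) (T := thick A str)
    ((_root_.AlgSp.J S).uliftYonedaEquiv.{u + 1} l)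
  have ha : a = 𝟙 _ := by
    apply (yon S).map_injective
    rw [← comp_spMap_fst l q₁ hq₁, CategoryTheory.Functor.map_id]
    exact hl₂
  obtain ⟨χ, hχ⟩ := exists_hom_of_map j (s := (_root_.AlgSp.J S).uliftYonedaEquiv.{u + 1} l)
    (by rw [← AlgSpLimit.equiv_map, hl₁]) q₀' hq₀' q₁ hq₁
  obtain ⟨-, hb⟩ := of_stdHom y x j χ hχ
  subst ha
  have : 𝒳.p.IsHomLift (𝟙 (thick A str)) δ₁.inv := inferInstance
  have : 𝒳.p.IsHomLift (𝟙 (thick A str) ≫ 𝟙 (thick A str)) (δ₁.inv ≫ ea.hom) := inferInstance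
  exact ⟨b, δ₁.inv ≫ ea.hom, hb, by simpa using this⟩

/-- A thickening of a point of the chart lifts. -/
theorem exists_lift_chart (h𝒳 : FibCat.IsFibGrpd 𝒳.p) (h𝒴 : FibCat.IsFibGrpd 𝒴.p)
    (φ : IsoNat.FIso 𝒳 𝒴) (x : FibCat.overCat U ⥤ᵇ 𝒳) (y : FibCat.overCat U ⥤ᵇ 𝒴)
    (hxy : φ.toEquiv U (IsoNat.objCls x) = IsoNat.objCls y)
    (hx : AlgSt.RepByAlgSpWith IsFormallySmoothMor x) (w : FibCat.overCat W ⥤ᵇ 𝒴)
    {F : Sp S} {e : AlgSt.ofSp F ⥤ᵇ FibCat.fp y w} (he : FibCat.IsEquivOver e)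
    {V : Over S} (c : (yon S).obj V ⟶ F) (hc : IsFormallyEtaleMor c) {q : V ⟶ U} {k : V ⟶ W}
    {κ : y.obj (Over.mk q) ≅ w.obj (Over.mk k)} {hκ : 𝒴.p.IsHomLift (𝟙 V) κ.hom}
    (qc : e.obj (⟨V, (_root_.AlgSp.J S).uliftYonedaEquiv.{u + 1} c⟩ : (AlgSt.ofSp F).obj) ≅
      stdPt y w q k κ hκ)
    (hqc : (FibCat.fp y w).p.IsHomLift (𝟙 V) qc.hom)
    (hI : I ^ 2 = ⊥) (i : thin A I str ⟶ V) [Smooth (i ≫ q).left] (b : thick A str ⟶ W)
    (hb : thinHom A I str ≫ b = i ≫ k) :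
    ∃ l : thick A str ⟶ V, thinHom A I str ≫ l = i ∧ l ≫ k = b := by
  let j := thinHom A I str
  -- the restriction of `κ` to the closed subscheme
  let wi := w.map (ovHom (U := W) i (rfl : i ≫ k = i ≫ k))
  have := Fib.isStronglyCartesian_of_isFibGrpd 𝒴.p h𝒴 i wi
  have hn : 𝒴.p.IsHomLift i (y.map (ovHom (U := U) i (rfl : i ≫ q = i ≫ q)) ≫ κ.hom) := by
    have : 𝒴.p.IsHomLift (i ≫ 𝟙 V) (y.map (ovHom (U := U) i (rfl : i ≫ q = i ≫ q)) ≫ κ.hom) :=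
      inferInstance
    rwa [Category.comp_id] at this
  let κT : y.obj (Over.mk (i ≫ q)) ⟶ w.obj (Over.mk (i ≫ k)) :=
    Functor.IsCartesian.map 𝒴.p i wi (y.map (ovHom (U := U) i (rfl : i ≫ q = i ≫ q)) ≫ κ.hom)
  have hκT : κT ≫ wi = y.map (ovHom (U := U) i (rfl : i ≫ q = i ≫ q)) ≫ κ.hom :=
    Functor.IsCartesian.fac 𝒴.p i wi _
  have : IsIso κT := Fib.isIso_of_isHomLift 𝒴.p h𝒴 (𝟙 (thin A I str)) κT
  let m : y.obj (Over.mk (i ≫ q)) ⟶ w.obj (Over.mk b) := κT ≫ w.map (ovHom j hb)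
  have hm : 𝒴.p.IsHomLift j m := by
    have : 𝒴.p.IsHomLift (𝟙 _ ≫ j) m := inferInstance
    rwa [Category.id_comp] at this
  -- the same situation in `𝒳`
  obtain ⟨θ, hθ⟩ := Quotient.exists_rep ((φ.toEquiv (thick A str)).symm (IsoNat.cls (ob w b)))
  obtain ⟨μ, hμ⟩ := IsoNatQC.exists_hom_of_natural h𝒳 (IsoNatQC.symmFIso h𝒳 h𝒴 φ) j
    (x' := ob y (i ≫ q)) (x := ob w b) m hm (z' := ob x (i ≫ q)) (z := θ)
    ((Equiv.symm_apply_eq _).2 (cls_ob_of_objCls h𝒴 φ x y hxy (i ≫ q)).symm) hθ.symm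
  obtain ⟨r, δX, hr, hδX⟩ := exists_lift_obj A I str h𝒳 x hx hI (i ≫ q) θ μ hμ
  obtain ⟨δY, hδY⟩ := IsoNatQC.exists_hom_of_natural h𝒴 φ (𝟙 (thick A str)) (x' := ob x r) (x := θ)
    δX hδX (z' := ob y r) (z := ob w b) (cls_ob_of_objCls h𝒴 φ x y hxy r)
    (by rw [show IsoNat.cls θ = _ from hθ]; exact Equiv.apply_symm_apply _ _)
  -- a retraction of the thickening over `U`
  obtain ⟨r₁, hr₁, hr₁q⟩ := SmoothLift.isFormallySmoothHom_of_smooth (i ≫ q).left A I hI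
    (𝟙 _) r.left (by
      rw [Category.id_comp]
      exact (congrArg CommaMorphism.left hr : _))
  let ρ : thick A str ⟶ thin A I str := Over.homMk r₁ (by
    change r₁ ≫ (thin A I str).hom = str
    rw [← Over.w (i ≫ q), reassoc_of% hr₁q, Over.w r]
    rfl)
  have hjρ : j ≫ ρ = 𝟙 _ := Over.OverMorphism.ext hr₁
  have hρq : ρ ≫ i ≫ q = r := Over.OverMorphism.ext hr₁q
  -- correcting the isomorphism over the thickening
  let yj := y.map (ovHom (U := U) j hr)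
  have hcmp : 𝒴.p.IsHomLift (j ≫ 𝟙 _) (yj ≫ δY) := inferInstance
  rw [Category.comp_id] at hcmp
  have := Fib.isStronglyCartesian_of_isFibGrpd 𝒴.p h𝒴 j (yj ≫ δY)
  let g : y.obj (Over.mk (i ≫ q)) ⟶ y.obj (Over.mk (i ≫ q)) :=
    Functor.IsCartesian.map 𝒴.p j (yj ≫ δY) m
  have hg : g ≫ yj ≫ δY = m := Functor.IsCartesian.fac 𝒴.p j (yj ≫ δY) m
  let yρ := y.map (ovHom (U := U) ρ hρq)
  have := Fib.isStronglyCartesian_of_isFibGrpd 𝒴.p h𝒴 ρ yρ
  have : 𝒴.p.IsHomLift (ρ ≫ 𝟙 _) (yρ ≫ g) := inferInstance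
  rw [Category.comp_id] at this
  let g' : y.obj (Over.mk r) ⟶ y.obj (Over.mk r) := Functor.IsCartesian.map 𝒴.p ρ yρ (yρ ≫ g)
  have hg' : g' ≫ yρ = yρ ≫ g := Functor.IsCartesian.fac 𝒴.p ρ yρ _
  have hjy : yj ≫ yρ = 𝟙 _ := by
    rw [← y.toFunctor.map_comp, ← y.toFunctor.map_id]
    exact congrArg y.map (Over.OverMorphism.ext hjρ)
  have hgg' : yj ≫ g' = g ≫ yj := by
    have h₁ : 𝒴.p.IsHomLift (j ≫ 𝟙 _) (yj ≫ g') := inferInstance
    have h₂ : 𝒴.p.IsHomLift (𝟙 _ ≫ j) (g ≫ yj) := inferInstance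
    rw [Category.comp_id] at h₁
    rw [Category.id_comp] at h₂
    refine Functor.IsStronglyCartesian.ext 𝒴.p ρ yρ j ?_
    rw [Category.assoc, hg', reassoc_of% hjy, Category.assoc, hjy, Category.comp_id]
  let δ' := g' ≫ δY
  have : 𝒴.p.IsHomLift (𝟙 (thick A str) ≫ 𝟙 (thick A str)) δ' := inferInstance
  rw [Category.comp_id] at this
  have : IsIso δ' := Fib.isIso_of_isHomLift 𝒴.p h𝒴 (𝟙 (thick A str)) δ'
  -- the point of `F` on the thickening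
  let PT := stdPt y w (i ≫ q) (i ≫ k) (asIso κT) (inferInstanceAs (𝒴.p.IsHomLift (𝟙 _) κT))
  obtain ⟨χ₁, hχ₁⟩ := exists_stdHom y w i (δ' := asIso κT)
    (hδ' := inferInstanceAs (𝒴.p.IsHomLift (𝟙 _) κT)) (δ := κ) (hδ := hκ) rfl rfl hκT.symm
  obtain ⟨χ₂, hχ₂⟩ := exists_stdHom y w j (δ' := asIso κT)
    (hδ' := inferInstanceAs (𝒴.p.IsHomLift (𝟙 _) κT)) (a := r) (b := b) (δ := asIso δ')
    (hδ := inferInstanceAs (𝒴.p.IsHomLift (𝟙 _) δ')) hr hb (by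
      change yj ≫ g' ≫ δY = m
      rw [reassoc_of% hgg', hg])
  obtain ⟨sT, qT, hqT⟩ := exists_section he PT rfl
  obtain ⟨sP, qP, hqP⟩ := exists_section he
    (stdPt y w r b (asIso δ') (inferInstanceAs (𝒴.p.IsHomLift (𝟙 _) δ'))) rfl
  have hsi : F.obj.map i.op ((_root_.AlgSp.J S).uliftYonedaEquiv.{u + 1} c) = sT :=
    section_eq he i qT hqT qc hqc χ₁ hχ₁
  have hsj : F.obj.map j.op sP = sT := section_eq he j qT hqT qP hqP χ₂ hχ₂
  let bot : (yon S).obj (thick A str) ⟶ F := (_root_.AlgSp.J S).uliftYonedaEquiv.{u + 1}.symm sP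
  have hbot : (_root_.AlgSp.J S).uliftYonedaEquiv.{u + 1} bot = sP := Equiv.apply_symm_apply _ _
  let sq : InfSq c :=
    { A := A
      commRing := inferInstance
      I := I
      sq_zero := hI
      str := str
      top := (yon S).map i
      bot := bot
      comm := by
        apply ((_root_.AlgSp.J S).uliftYonedaEquiv.{u + 1}).injective
        rw [AlgSpLimit.equiv_map, AlgSpLimit.equiv_map, hsi, hbot, hsj] }
  obtain ⟨l, ⟨hl₁, hl₂⟩, -⟩ := hc sq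
  refine ⟨AlgSpc.pre l, (yon S).map_injective (by
    rw [Functor.map_comp, AlgSpc.map_pre]; exact hl₁), ?_⟩
  have hsl : F.obj.map (AlgSpc.pre l).op ((_root_.AlgSp.J S).uliftYonedaEquiv.{u + 1} c) = sP := by
    rw [← hbot, ← AlgSpLimit.equiv_map, AlgSpc.map_pre]
    exact congrArg _ hl₂
  obtain ⟨χ₃, hχ₃⟩ := exists_hom_of_map (AlgSpc.pre l) hsl qP hqP qc hqc
  exact (of_stdHom y w _ χ₃ hχ₃).2

end

end Groth.Agent.IsoNatSm
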