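import Groth.Agent.IsoNatSm.Elements
import Groth.Agent.StkGlue.Hom

/-!
# Pullback of morphisms between values of based functors, and gluing of such morphisms
-/

set_option autoImplicit false
set_option backward.isDefEq.respectTransparency false
set_option backward.isDefEq.respectTransparency.types false

universe u

open CategoryTheory CategoryTheory.Limits AlgebraicGeometry Opposite

namespace Groth.Agent.IsoNatSm

noncomputable section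

variable {S : Scheme.{u}} {𝒳 : AlgSt.Cat S} (h𝒳 : FibCat.IsFibGrpd 𝒳.p) {Z Z' Z'' : Over S}
  {G : FibCat.overCat Z ⥤ᵇ 𝒳} {H : FibCat.overCat Z' ⥤ᵇ 𝒳} {K : FibCat.overCat Z'' ⥤ᵇ 𝒳}

include h𝒳

/-- Morphisms in a fibre are isomorphisms. -/
theorem isIso_fiber {T : Over S} {a b : 𝒳.p.Fiber T} (f : a ⟶ b) : IsIso f := by
  have := f.2
  have : IsIso f.1 := Fib.isIso_of_isHomLift 𝒳.p h𝒳 (𝟙 T) f.1
  exact ⟨⟨inv f.1, inferInstance⟩, Subtype.ext (IsIso.hom_inv_id f.1),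
    Subtype.ext (IsIso.inv_hom_id f.1)⟩

/-- A morphism over a morphism of the base with two lifts to the fibre. -/
theorem exists_pullM {V' V : Over S} (h : V' ⟶ V) {a : V ⟶ Z} {b : V ⟶ Z'} {a' : V' ⟶ Z}
    {b' : V' ⟶ Z'} (ha : h ≫ a = a') (hb : h ≫ b = b') (e : ob G a ⟶ ob H b) :
    ∃! e' : ob G a' ⟶ ob H b', e'.1 ≫ H.map (ovHom h hb) = G.map (ovHom h ha) ≫ e.1 := by
  have := e.2
  have := map_ovHom_isHomLift H h hb
  have := map_ovHom_isHomLift G h ha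
  have hn : 𝒳.p.IsHomLift (h ≫ 𝟙 V) (G.map (ovHom h ha) ≫ e.1) := inferInstance
  rw [Category.comp_id] at hn
  have := Fib.isStronglyCartesian_of_isFibGrpd 𝒳.p h𝒳 h (H.map (ovHom h hb))
  refine ⟨⟨Functor.IsCartesian.map 𝒳.p h (H.map (ovHom h hb)) (G.map (ovHom h ha) ≫ e.1),
    inferInstance⟩, Functor.IsCartesian.fac 𝒳.p h _ _, fun e' he' => Subtype.ext ?_⟩
  have := e'.2
  exact Functor.IsCartesian.map_uniq 𝒳.p h _ _ e'.1 he'

variable (G H) in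
/-- Pullback of a morphism between values. -/
def pullM {V' V : Over S} (h : V' ⟶ V) {a : V ⟶ Z} {b : V ⟶ Z'} {a' : V' ⟶ Z}
    {b' : V' ⟶ Z'} (ha : h ≫ a = a') (hb : h ≫ b = b') (e : ob G a ⟶ ob H b) :
    ob G a' ⟶ ob H b' :=
  (exists_pullM h𝒳 h ha hb e).choose

theorem pullM_spec {V' V : Over S} (h : V' ⟶ V) {a : V ⟶ Z} {b : V ⟶ Z'} {a' : V' ⟶ Z}
    {b' : V' ⟶ Z'} (ha : h ≫ a = a') (hb : h ≫ b = b') (e : ob G a ⟶ ob H b) :
    (pullM h𝒳 G H h ha hb e).1 ≫ H.map (ovHom h hb) = G.map (ovHom h ha) ≫ e.1 :=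
  (exists_pullM h𝒳 h ha hb e).choose_spec.1

theorem pullM_eq {V' V : Over S} (h : V' ⟶ V) {a : V ⟶ Z} {b : V ⟶ Z'} {a' : V' ⟶ Z}
    {b' : V' ⟶ Z'} (ha : h ≫ a = a') (hb : h ≫ b = b') (e : ob G a ⟶ ob H b)
    (e' : ob G a' ⟶ ob H b') (h' : e'.1 ≫ H.map (ovHom h hb) = G.map (ovHom h ha) ≫ e.1) :
    pullM h𝒳 G H h ha hb e = e' :=
  ((exists_pullM h𝒳 h ha hb e).choose_spec.2 e' h').symm

theorem pullM_pullM {V'' V' V : Over S} (h' : V'' ⟶ V') (h : V' ⟶ V) {a : V ⟶ Z} {b : V ⟶ Z'}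
    {a' : V' ⟶ Z} {b' : V' ⟶ Z'} {a'' : V'' ⟶ Z} {b'' : V'' ⟶ Z'} (ha : h ≫ a = a')
    (hb : h ≫ b = b') (ha' : h' ≫ a' = a'') (hb' : h' ≫ b' = b'') (g : V'' ⟶ V) (hg : h' ≫ h = g)
    (e : ob G a ⟶ ob H b) :
    pullM h𝒳 G H h' ha' hb' (pullM h𝒳 G H h ha hb e) =
      pullM h𝒳 G H g (by rw [← hg, Category.assoc, ha, ha']) (by rw [← hg, Category.assoc, hb, hb'])
        e := by
  refine (pullM_eq h𝒳 _ _ _ _ _ ?_).symm
  have e₁ : ovHom h' hb' ≫ ovHom h hb = ovHom g (by rw [← hg, Category.assoc, hb, hb']) :=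
    Over.OverMorphism.ext hg
  have e₂ : ovHom h' ha' ≫ ovHom h ha = ovHom g (by rw [← hg, Category.assoc, ha, ha']) :=
    Over.OverMorphism.ext hg
  rw [← e₁, ← e₂, Functor.map_comp, Functor.map_comp, ← Category.assoc, pullM_spec, Category.assoc,
    pullM_spec, Category.assoc]

theorem pullM_comp {V' V : Over S} (h : V' ⟶ V) {a : V ⟶ Z} {b : V ⟶ Z'} {c : V ⟶ Z''}
    {a' : V' ⟶ Z} {b' : V' ⟶ Z'} {c' : V' ⟶ Z''} (ha : h ≫ a = a') (hb : h ≫ b = b')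
    (hc : h ≫ c = c') (e : ob G a ⟶ ob H b) (f : ob H b ⟶ ob K c) :
    pullM h𝒳 G K h ha hc (e ≫ f) = pullM h𝒳 G H h ha hb e ≫ pullM h𝒳 H K h hb hc f := by
  refine pullM_eq h𝒳 _ _ _ _ _ ?_
  show ((pullM h𝒳 G H h ha hb e).1 ≫ (pullM h𝒳 H K h hb hc f).1) ≫ K.map (ovHom h hc) =
    G.map (ovHom h ha) ≫ e.1 ≫ f.1
  rw [Category.assoc, pullM_spec, ← Category.assoc, pullM_spec, Category.assoc]

theorem pullM_id {V' V : Over S} (h : V' ⟶ V) {a : V ⟶ Z} {a' : V' ⟶ Z} (ha : h ≫ a = a') :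
    pullM h𝒳 G G h ha ha (𝟙 (ob G a)) = 𝟙 _ := by
  refine pullM_eq h𝒳 _ _ _ _ _ ?_
  show 𝟙 _ ≫ G.map (ovHom h ha) = G.map (ovHom h ha) ≫ 𝟙 _
  rw [Category.id_comp, Category.comp_id]

theorem pullM_self {V : Over S} {a : V ⟶ Z} {b : V ⟶ Z'} (e : ob G a ⟶ ob H b) :
    pullM h𝒳 G H (𝟙 V) (Category.id_comp a) (Category.id_comp b) e = e := by
  refine pullM_eq h𝒳 _ _ _ _ _ ?_
  have e₁ : (ovHom (𝟙 V) (Category.id_comp b)) = 𝟙 (Over.mk b) := Over.OverMorphism.ext rfl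
  have e₂ : (ovHom (𝟙 V) (Category.id_comp a)) = 𝟙 (Over.mk a) := Over.OverMorphism.ext rfl
  rw [e₁, e₂, G.toFunctor.map_id, H.toFunctor.map_id]
  exact (Category.comp_id _).trans (Category.id_comp _).symm

theorem pullM_inv {V' V : Over S} (h : V' ⟶ V) {a : V ⟶ Z} {b : V ⟶ Z'} {a' : V' ⟶ Z}
    {b' : V' ⟶ Z'} (ha : h ≫ a = a') (hb : h ≫ b = b') (e : ob G a ⟶ ob H b) (f : ob H b ⟶ ob G a)
    (hef : e ≫ f = 𝟙 _) : pullM h𝒳 G H h ha hb e ≫ pullM h𝒳 H G h hb ha f = 𝟙 _ := by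
  rw [← pullM_comp, hef, pullM_id]

theorem pullM_congr {V' V : Over S} {h h₂ : V' ⟶ V} (hh : h = h₂) {a : V ⟶ Z} {b : V ⟶ Z'}
    {a' : V' ⟶ Z} {b' : V' ⟶ Z'} (ha : h ≫ a = a') (hb : h ≫ b = b') (e : ob G a ⟶ ob H b) :
    pullM h𝒳 G H h ha hb e = pullM h𝒳 G H h₂ (hh ▸ ha) (hh ▸ hb) e := by
  subst hh
  rfl

omit h𝒳

/-- Morphisms glue along a covering sieve. -/
theorem exists_glue_pullM (h𝒳 : FibCat.IsFibGrpd 𝒳.p) {Y : Over S} {R : Sieve Y}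
    (hR : Stk.IsPrestackFor R 𝒳) {a₀ : Y ⟶ Z} {b₀ : Y ⟶ Z'}
    (η : ∀ ⦃V : Over S⦄ (g : V ⟶ Y), R g → (ob G (g ≫ a₀) ⟶ ob H (g ≫ b₀)))
    (hη : ∀ ⦃W V : Over S⦄ (k : W ⟶ V) (g : V ⟶ Y) (hg : R g) (hkg : R (k ≫ g)),
      pullM h𝒳 G H k (Category.assoc k g a₀).symm (Category.assoc k g b₀).symm (η g hg) =
        η (k ≫ g) hkg) :
    ∃ e : ob G a₀ ⟶ ob H b₀, ∀ ⦃V : Over S⦄ (g : V ⟶ Y) (hg : R g),
      pullM h𝒳 G H g rfl rfl e = η g hg := by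
  have congr_η : ∀ {V : Over S} {g g' : V ⟶ Y} (e : g = g') (hg : R g) (hg' : R g'),
      η g hg = pullM h𝒳 G H (𝟙 V) (by rw [e, Category.id_comp]) (by rw [e, Category.id_comp])
        (η g' hg') := by
    intro V g g' e hg hg'
    subst e
    exact (pullM_self h𝒳 _).symm
  obtain ⟨f, hf⟩ := hR.1.map_surjective
    (X := BasedFunctor.comp (AlgSt.overMap a₀) G) (Y := BasedFunctor.comp (AlgSt.overMap b₀) H)
    { toNatTrans :=
        { app := fun s => (η s.obj.hom s.property).1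
          naturality := fun s s' k => by
            have hw : k.hom.left ≫ s'.obj.hom = s.obj.hom := Over.w k.hom
            have h₀ : R (k.hom.left ≫ s'.obj.hom) := hw ▸ s.property
            have h₁ : k.hom.left ≫ s'.obj.hom ≫ a₀ = s.obj.hom ≫ a₀ := by
              rw [← Category.assoc, hw]
            have h₂ : k.hom.left ≫ s'.obj.hom ≫ b₀ = s.obj.hom ≫ b₀ := by
              rw [← Category.assoc, hw]
            have key : pullM h𝒳 G H k.hom.left h₁ h₂ (η s'.obj.hom s'.property) =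
                η s.obj.hom s.property := by
              rw [congr_η hw.symm s.property h₀, ← hη k.hom.left s'.obj.hom s'.property h₀,
                pullM_pullM h𝒳 _ _ _ _ _ _ k.hom.left (Category.id_comp _)]
            change G.map ((Over.map a₀).map k.hom) ≫ (η s'.obj.hom s'.property).1 =
              (η s.obj.hom s.property).1 ≫ H.map ((Over.map b₀).map k.hom)
            rw [← key, show (Over.map a₀).map k.hom = ovHom k.hom.left h₁ from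
                Over.OverMorphism.ext rfl,
              show (Over.map b₀).map k.hom = ovHom k.hom.left h₂ from Over.OverMorphism.ext rfl]
            exact (pullM_spec h𝒳 _ h₁ h₂ _).symm }
      isHomLift' := fun s => (η s.obj.hom s.property).2 }
  let e₁ : ob G (𝟙 Y ≫ a₀) ⟶ ob H (𝟙 Y ≫ b₀) :=
    ⟨f.toNatTrans.app (Over.mk (𝟙 Y)), f.isHomLift' (Over.mk (𝟙 Y))⟩
  refine ⟨pullM h𝒳 G H (𝟙 Y) (by simp) (by simp) e₁, fun V g hg => ?_⟩
  rw [pullM_pullM h𝒳 g (𝟙 Y) _ _ _ _ g (Category.comp_id g)]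
  refine pullM_eq h𝒳 _ _ _ _ _ ?_
  have happ : f.toNatTrans.app (Over.mk g) = (η g hg).1 :=
    congrArg (fun t => t.toNatTrans.app (⟨Over.mk g, hg⟩ : (Stk.sieveCat R).obj)) hf
  have hn := f.toNatTrans.naturality (Fib.toId (Over.mk g))
  rw [happ] at hn
  change G.map ((Over.map a₀).map (Fib.toId (Over.mk g))) ≫ e₁.1 =
    (η g hg).1 ≫ H.map ((Over.map b₀).map (Fib.toId (Over.mk g))) at hn
  exact hn.symm

/-- Morphisms are determined on a covering sieve. -/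
theorem eq_of_pullM_eq (h𝒳 : FibCat.IsFibGrpd 𝒳.p) {Y : Over S} {R : Sieve Y}
    (hR : Stk.IsPrestackFor R 𝒳) {a₀ : Y ⟶ Z} {b₀ : Y ⟶ Z'} (e e' : ob G a₀ ⟶ ob H b₀)
    (h : ∀ ⦃V : Over S⦄ (g : V ⟶ Y), R g →
      pullM h𝒳 G H g rfl rfl e = pullM h𝒳 G H g rfl rfl e') : e = e' := by
  refine Subtype.ext (StkGlue.hom_ext h𝒳 hR e.1 e'.1 e.2 e'.2 fun V g hg => ?_)
  exact ⟨(ob G (g ≫ a₀)).1, G.map (ovHom g rfl), map_ovHom_isHomLift G g rfl, by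
    rw [← pullM_spec h𝒳 g rfl (rfl : g ≫ b₀ = _) e, ← pullM_spec h𝒳 g rfl (rfl : g ≫ b₀ = _) e',
      h g hg]⟩

end

end Groth.Agent.IsoNatSm
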