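import Groth.Agent.AlgSpLoc.UnramLocusSp
import Groth.Agent.AlgSpc.Compact
import Groth.Agent.AlgSpc.LfpCancel
import Groth.Agent.ConstrFib.Basic
import Groth.Agent.NisLen.Comp
import Groth.Agent.WNA.FiniteQuot

/-!
# The locus over which a section of a proper morphism of algebraic spaces is an isomorphism
-/

set_option autoImplicit false
set_option linter.style.haveILetI false
set_option backward.isDefEq.respectTransparency false
set_option backward.isDefEq.respectTransparency.types false

universe u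

open CategoryTheory CategoryTheory.Limits AlgebraicGeometry

namespace Groth.Agent.IsoNatSm.SecLocus

open _root_.AlgSp Groth.Agent.AlgSpc Groth.Agent.AlgSpLoc

variable {S : Scheme.{u}} {A : Sp S} {T : Over S} (π : A ⟶ (yon S).obj T) (e : (yon S).obj T ⟶ A)

/-- The points of the section at which the space is unramified over the base. -/
def good : Set (Points A) := Set.range (Points.ofPt e) ∩ {x | UnramAt π x}

/-- The points of the base over which some point is not good. -/
def bad : Set T.left := Points.ofPt (𝟙 ((yon S).obj T)) ⁻¹' (Points.map π '' (good π e)ᶜ)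

variable {π} {e}

theorem ofPt_yon_map {U V : Over S} (φ : U ⟶ V) (t : U.left) :
    Points.ofPt ((yon S).map φ) t = Points.ofPt (𝟙 ((yon S).obj V)) (φ.left t) :=
  (congrArg (fun ψ => Points.ofPt ψ t) (Category.comp_id _).symm).trans (ofPt_comp φ _ t)

/-- The section read on a chart. -/
theorem exists_chart_section {U : Over S} (a : (yon S).obj U ⟶ A) (ha : RepWith @Etale a) {k : U ⟶ T}
    (hk : a ≫ π = (yon S).map k) (he : e ≫ π = 𝟙 _) :
    ∃ (T' : Over S) (σ : T' ⟶ U) (ρ : T' ⟶ T), Etale ρ.left ∧ σ ≫ k = ρ ∧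
      (yon S).map σ ≫ a = (yon S).map ρ ≫ e ∧
      (IsSeparatedMor π → IsClosedImmersion σ.left) ∧
      ∀ u, Points.ofPt a u ∈ Set.range (Points.ofPt e) ↔ u ∈ Set.range σ.left := by
  obtain ⟨T', fst, ρ, sq⟩ := exists_sq ha.1 e
  have hw : (yon S).map (pre fst) ≫ a = (yon S).map ρ ≫ e := by rw [map_pre]; exact sq.w
  have hσk : pre fst ≫ k = ρ := (yon S).map_injective (by
    rw [Functor.map_comp, ← hk, reassoc_of% hw, he, Category.comp_id])
  refine ⟨T', pre fst, ρ, ha.2 e fst ρ sq, hσk, hw, fun hsep => ?_, fun u => ⟨?_, ?_⟩⟩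
  · obtain ⟨E, fE, sE, sqE⟩ := exists_sq hsep.1 (pullback.lift (f := π) (g := π) a ((yon S).map k ≫ e)
      (by rw [Category.assoc, he, Category.comp_id, hk]))
    haveI : IsClosedImmersion sE.left := hsep.2 _ fE sE sqE
    have h₁ := congrArg (fun φ => φ ≫ pullback.fst π π) sqE.w
    have h₂ := congrArg (fun φ => φ ≫ pullback.snd π π) sqE.w
    simp only [Category.assoc, pullback.diagonal_fst, pullback.diagonal_snd, pullback.lift_fst,
      pullback.lift_snd, Category.comp_id] at h₁ h₂
    have hw' : (yon S).map sE ≫ a = (yon S).map (sE ≫ k) ≫ e := by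
      rw [Functor.map_comp, Category.assoc, ← h₁, ← h₂]
    let n : E ⟶ T' := pre (sq.lift _ _ hw')
    have hn : n ≫ pre fst = sE := (yon S).map_injective (by simp [n])
    obtain ⟨m, hm⟩ : ∃ m : T' ⟶ E, m ≫ sE = pre fst := by
      refine ⟨pre (sqE.lift ((yon S).map (pre fst) ≫ a) ((yon S).map (pre fst)) ?_),
        (yon S).map_injective (by simp)⟩
      apply pullback.hom_ext
      · simp
      · simp only [Category.assoc, pullback.diagonal_snd, pullback.lift_snd, Category.comp_id]
        rw [hw, ← Functor.map_comp_assoc, hσk]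
    haveI : IsSplitMono e := IsSplitMono.mk' ⟨π, he⟩
    haveI : Mono fst := sq.mono_fst_of_mono
    haveI : Mono ((yon S).map (pre fst)) := by rw [map_pre]; infer_instance
    haveI : Mono (pre fst) := (yon S).mono_of_mono_map ‹_›
    have hnm : m ≫ n = 𝟙 _ := (cancel_mono (pre fst)).1 (by rw [Category.assoc, hn, hm, Category.id_comp])
    haveI : Mono sE.left := inferInstance
    haveI : Mono sE := Over.mono_of_mono_left sE
    have hmn : n ≫ m = 𝟙 _ := (cancel_mono sE).1 (by rw [Category.assoc, hm, hn, Category.id_comp])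
    haveI : IsIso m := ⟨n, hnm, hmn⟩
    rw [← hm, Over.comp_left]
    infer_instance
  · rintro ⟨t, ht⟩
    obtain ⟨v, hv, -⟩ := exists_point_of_sq sq (Points.ofScheme U u) t (by
      rw [← Points.ofPt_eq_map_ofScheme]; exact ht.symm)
    refine ⟨v, ?_⟩
    have := congrArg (Points.toScheme U) hv
    rwa [← map_pre fst, Points.toScheme_ofPt, Points.toScheme_ofScheme] at this
  · rintro ⟨v, rfl⟩
    exact ⟨ρ.left v, by rw [← ofPt_comp, ← ofPt_comp, hw]⟩

theorem etale_restrict {U T' : Over S} {k : U ⟶ T} {σ : T' ⟶ U} {ρ : T' ⟶ T} (hρ : Etale ρ.left)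
    (hσ : σ ≫ k = ρ) [LocallyOfFiniteType k.left] (W : U.left.Opens)
    (hW : ∀ u ∈ W, (k.left.stalkMap u).hom.FormallyUnramified) : Etale (σ.left ∣_ W) := by
  haveI hU : FormallyUnramified (W.ι ≫ k.left) := by
    rw [Unram.formallyUnramified_iff_stalkMap]
    intro y
    exact (Unram.stalkMap_ι_comp_iff RingHom.FormallyUnramified.respectsIso k.left W y).2 (hW _ y.2)
  haveI : Etale ((σ.left ∣_ W) ≫ W.ι ≫ k.left) := by
    rw [morphismRestrict_ι_assoc]
    have : σ.left ≫ k.left = ρ.left := congrArg CommaMorphism.left hσ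
    rw [this]
    infer_instance
  exact Etale.of_comp (σ.left ∣_ W) (W.ι ≫ k.left)

theorem unramAt_chart {U : Over S} {a : (yon S).obj U ⟶ A} (ha : RepWith @Etale a) {k : U ⟶ T}
    (hk : a ≫ π = (yon S).map k) [LocallyOfFiniteType k.left] (u : U.left) :
    UnramAt π (Points.ofPt a u) ↔ (k.left.stalkMap u).hom.FormallyUnramified :=
  unramAt_iff ha (repWith_id _ T) (by rw [hk, Category.comp_id]) u

theorem lft_chart (hlft : LocP @LocallyOfFiniteType π) {U : Over S} {a : (yon S).obj U ⟶ A}
    (ha : RepWith @Etale a) {k : U ⟶ T} (hk : a ≫ π = (yon S).map k) :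
    LocallyOfFiniteType k.left :=
  hlft a (𝟙 _) k ha (repWith_id _ T) (by rw [hk, Category.comp_id])

theorem isOpen_good (hA : IsAlgSpace A) (hlft : LocP @LocallyOfFiniteType π) (he : e ≫ π = 𝟙 _) :
    IsOpen (good π e) := by
  obtain ⟨U, a, ha, has⟩ := hA.atlas
  let k : U ⟶ T := pre (a ≫ π)
  have hk : a ≫ π = (yon S).map k := (map_pre _).symm
  haveI := lft_chart hlft ha hk
  obtain ⟨T', σ, ρ, hρ, hσ, -, -, hr⟩ := exists_chart_section a ha hk he
  let W : U.left.Opens := ⟨_, Unram.isOpen_unramified_stalkMap k.left⟩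
  haveI := etale_restrict hρ hσ W fun _ h => h
  rw [← (isQuotientMap_ofPt ha has).isOpen_preimage]
  have : Points.ofPt a ⁻¹' good π e = Set.range ((σ.left ∣_ W) ≫ W.ι) := by
    ext u
    constructor
    · rintro ⟨h₁, h₂⟩
      obtain ⟨v, rfl⟩ := (hr u).1 h₁
      exact ⟨⟨v, (unramAt_chart ha hk (σ.left v)).1 h₂⟩, by
        rw [morphismRestrict_ι]; rfl⟩
    · rintro ⟨v, rfl⟩
      rw [morphismRestrict_ι]
      exact ⟨(hr _).2 ⟨v.1, rfl⟩, (unramAt_chart ha hk _).2 v.2⟩
  rw [this]
  exact ((σ.left ∣_ W) ≫ W.ι).isOpenMap.isOpen_range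

theorem isClosed_bad (hA : IsAlgSpace A) (hlft : LocP @LocallyOfFiniteType π) (huc : IsUnivClosedMor π)
    (he : e ≫ π = 𝟙 _) : IsClosed (bad π e) := by
  have hcl : IsClosedMap (Points.map π) := huc (IsAlgSpace.yon_obj T) (𝟙 _) (𝟙 _) π (IsPullback.id_horiz π)
  exact (hcl _ (isOpen_good hA hlft he).isClosed_compl).preimage
    (isQuotientMap_ofPt (repWith_id _ T) (repWith_id _ T)).continuous

/-- Over the complement of the bad locus the section is the only point. -/
theorem eq_section_of_not_bad (hA : IsAlgSpace A) (hlft : LocP @LocallyOfFiniteType π)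
    (he : e ≫ π = 𝟙 _) {Z : Over S} (r : Z ⟶ T) (hr : ∀ z, r.left z ∉ bad π e)
    (l : (yon S).obj Z ⟶ A) (hl : l ≫ π = (yon S).map r) : l = (yon S).map r ≫ e := by
  obtain ⟨U, a, ha, has⟩ := hA.atlas
  let k : U ⟶ T := pre (a ≫ π)
  have hk : a ≫ π = (yon S).map k := (map_pre _).symm
  haveI := lft_chart hlft ha hk
  obtain ⟨T', σ, ρ, hρ, hσ, hσe, -, hr'⟩ := exists_chart_section a ha hk he
  let W : U.left.Opens := ⟨_, Unram.isOpen_unramified_stalkMap k.left⟩
  haveI := etale_restrict hρ hσ W fun _ h => h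
  obtain ⟨P, p₀, q, sq⟩ := exists_sq ha.1 l
  haveI hqe : Etale q.left := ha.2 l p₀ q sq
  haveI hqs : Surjective q.left := has.2 l p₀ q sq
  let p : P ⟶ U := pre p₀
  have hp : (yon S).map p ≫ a = (yon S).map q ≫ l := by rw [map_pre]; exact sq.w
  let TW : Over S := Over.mk ((σ.left ⁻¹ᵁ W).ι ≫ T'.hom)
  let jW : TW ⟶ T' := Over.homMk (σ.left ⁻¹ᵁ W).ι rfl
  let m : TW ⟶ U := jW ≫ σ
  haveI hm : Etale m.left := by
    show Etale ((σ.left ⁻¹ᵁ W).ι ≫ σ.left)
    rw [← morphismRestrict_ι]
    infer_instance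
  have sq2 := FppfDescent.isPullback_forget (IsPullback.of_hasPullback p m)
  haveI : Etale (pullback.fst p m).left := MorphismProperty.of_isPullback (P := @Etale) sq2.flip hm
  haveI : Surjective (pullback.fst p m).left := ⟨fun z => by
    have hz : Points.ofPt a (p.left z) ∈ good π e := by
      by_contra hn
      refine hr (q.left z) ⟨_, hn, ?_⟩
      rw [← ofPt_comp, hp, ofPt_comp, Points.map_ofPt, hl, ofPt_yon_map]
    obtain ⟨v, hv⟩ := (hr' _).1 hz.1
    have hvW : v ∈ σ.left ⁻¹ᵁ W := by
      show σ.left v ∈ W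
      rw [hv]
      exact (unramAt_chart ha hk _).1 hz.2
    obtain ⟨w, hw, -⟩ := Scheme.Pullback.exists_preimage_pullback (f := p.left) (g := m.left) z ⟨v, hvW⟩ hv.symm
    refine ⟨sq2.isoPullback.inv w, ?_⟩
    rw [← Scheme.Hom.comp_apply, sq2.isoPullback_inv_fst]
    exact hw⟩
  let c : pullback p m ⟶ Z := pullback.fst p m ≫ q
  haveI : Etale c.left := inferInstanceAs (Etale ((pullback.fst p m).left ≫ q.left))
  haveI : Surjective c.left := inferInstanceAs (Surjective ((pullback.fst p m).left ≫ q.left))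
  haveI := WNA.isLocallySurjective_yon_map c
  haveI : Epi ((yon S).map c) := inferInstance
  rw [← cancel_epi ((yon S).map c)]
  have h1 : (yon S).map c ≫ l = (yon S).map (pullback.snd p m ≫ jW ≫ ρ) ≫ e := by
    have hpm : pullback.fst p m ≫ p = pullback.snd p m ≫ jW ≫ σ := pullback.condition
    simp only [c, Functor.map_comp, Category.assoc, ← hp, ← hσe]
    rw [← Category.assoc, ← Functor.map_comp, hpm]
    simp only [Functor.map_comp, Category.assoc]
  have h2 : pullback.snd p m ≫ jW ≫ ρ = c ≫ r := (yon S).map_injective (by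
    have := congrArg (fun φ => φ ≫ π) h1
    simp only [Category.assoc, he, hl, Category.comp_id] at this
    rw [← this, Functor.map_comp]
    simp only [c, Functor.map_comp, Category.assoc])
  rw [h1, h2, Functor.map_comp, Category.assoc]

/-- A morphism over which the section is the only point avoids the bad locus. -/
theorem not_bad_of_eq_section (hA : IsAlgSpace A) (hlft : LocP @LocallyOfFiniteType π)
    (he : e ≫ π = 𝟙 _) {Z : Over S} (g : Z ⟶ T)
    (h : ∀ (V : Over S) (k : V ⟶ Z) (l : (yon S).obj V ⟶ A),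
      l ≫ π = (yon S).map (k ≫ g) → l = (yon S).map (k ≫ g) ≫ e) (z : Z.left) :
    g.left z ∉ bad π e := by
  rintro ⟨x, hx, hxz⟩
  have sq := IsPullback.of_hasPullback π ((yon S).map g)
  have hP := isAlgSpace_of_isPullback hA (IsAlgSpace.yon_obj T) (IsAlgSpace.yon_obj Z) sq
  obtain ⟨V, c, hc, hcs⟩ := hP.atlas
  let s : (yon S).obj Z ⟶ pullback π ((yon S).map g) :=
    pullback.lift ((yon S).map g ≫ e) (𝟙 _) (by rw [Category.assoc, he, Category.comp_id, Category.id_comp])
  haveI : Sheaf.IsLocallySurjective c := isLocallySurjective_of_repWith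
    (repWith_mono (P := @Etale) (Q := @Flat) (fun _ _ f (hf : Etale f) => inferInstance) hc)
    (repWith_mono (P := @Etale) (Q := @LocallyOfFinitePresentation) (fun _ _ f (hf : Etale f) => inferInstance) hc) hcs
  haveI : Epi c := inferInstance
  have hiso : pullback.snd π ((yon S).map g) ≫ s = 𝟙 _ := by
    rw [← cancel_epi c]
    have hv := h V (pre (c ≫ pullback.snd _ _)) (c ≫ pullback.fst _ _) (by
      rw [Category.assoc, sq.w, Functor.map_comp, map_pre, Category.assoc])
    rw [Functor.map_comp, map_pre] at hv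
    apply pullback.hom_ext
    · simp [s, hv]
    · simp [s]
  haveI : IsIso (pullback.snd π ((yon S).map g)) := ⟨s, hiso, pullback.lift_snd _ _ _⟩
  obtain ⟨x', hx₁, -⟩ := exists_point_of_isPullback sq x (Points.ofPt (𝟙 _) z) (by
    rw [hxz, Points.map_ofPt, Category.id_comp, ← ofPt_comp, Category.comp_id])
  obtain ⟨u, rfl⟩ : ∃ u, Points.ofPt s u = x' := by
    obtain ⟨u, hu⟩ := surjective_ofPt (repWith_id _ Z) (Points.map (pullback.snd π ((yon S).map g)) x')
    refine ⟨u, ?_⟩
    have := congrArg (Points.map s) hu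
    rw [Points.map_ofPt, Category.id_comp, ← Points.map_comp, hiso, Points.map_id] at this
    exact this
  rw [Points.map_ofPt, pullback.lift_fst] at hx₁
  refine hx ⟨⟨g.left u, by rw [← hx₁, ofPt_comp]⟩, ?_⟩
  have hb := (unramLocus_open_and_baseChange (X := ⟨A, hA⟩) (Y := ⟨_, IsAlgSpace.yon_obj T⟩)
    (ObjectProperty.homMk π) hlft).2 ⟨_, IsAlgSpace.yon_obj Z⟩ ⟨_, IsAlgSpace.yon_obj Z⟩
    (ObjectProperty.homMk (𝟙 _)) (ObjectProperty.homMk ((yon S).map g ≫ e))
    (ObjectProperty.homMk ((yon S).map g))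
    (sq.of_iso (asIso (pullback.snd π ((yon S).map g))) (Iso.refl _) (Iso.refl _) (Iso.refl _)
      (by
        rw [Iso.refl_hom, Category.comp_id, asIso_hom]
        have := congrArg (fun φ => φ ≫ pullback.fst π ((yon S).map g)) hiso
        simp only [s, Category.assoc, pullback.lift_fst, Category.id_comp] at this
        exact this.symm)
      (by simp) (by simp) (by simp))
  have hu : UnramAt (𝟙 ((yon S).obj Z)) (Points.ofPt (𝟙 _) u) := by
    refine (unramAt_iff (h := 𝟙 Z) (repWith_id _ Z) (repWith_id _ Z) (by simp) u).2 ?_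
    exact FormallyUnramified.stalkMap (𝟙 Z : Z ⟶ Z).left u
  have hu' := (Set.ext_iff.1 hb (Points.ofPt (𝟙 _) u)).1 hu
  rw [Set.mem_preimage, Set.mem_ofPred_eq] at hu'
  change UnramAt π _ at hu'
  rw [← hx₁]
  simpa [Points.map_ofPt] using hu'

/-- The bad locus is constructible on affine opens. -/
theorem isCompact_compl_bad (hA : IsAlgSpace A) (hlfp : LocP @LocallyOfFinitePresentation π)
    (hsep : IsSeparatedMor π)
    (hqc : IsQuasiCompactMor π) (he : e ≫ π = 𝟙 _) (O : T.left.Opens)
    (hO : IsAffineOpen O) : IsCompact ((bad π e)ᶜ ∩ (O : Set T.left)) := by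
  have hlft : LocP @LocallyOfFiniteType π := locP_mono
    (fun _ _ f (hf : LocallyOfFinitePresentation f) => (inferInstance : LocallyOfFiniteType f)) hlfp
  let TO : Over S := Over.mk (O.ι ≫ T.hom)
  let jO : TO ⟶ T := Over.homMk O.ι rfl
  haveI hTO : IsAffine TO.left := hO
  have hjO : RepWith @Etale ((yon S).map jO) :=
    (repWith_yon_map_iff _ _).2 (inferInstanceAs (Etale O.ι))
  have sq := IsPullback.of_hasPullback π ((yon S).map jO)
  have hAO := isAlgSpace_of_isPullback hA (IsAlgSpace.yon_obj T) (IsAlgSpace.yon_obj TO) sq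
  have hq : IsQuasiCompactSp (pullback π ((yon S).map jO)) :=
    hqc (IsAlgSpace.yon_obj TO) ((isQuasiCompactSp_iff_affine (IsAlgSpace.yon_obj TO)).2
      ⟨TO, 𝟙 _, hTO, repWith_id _ TO, repWith_id _ TO⟩) _ _ _ sq
  obtain ⟨U, p₀, hU, hp₀, hp₀s⟩ := (isQuasiCompactSp_iff_affine hAO).1 hq
  haveI := hU
  let a := p₀ ≫ pullback.fst π ((yon S).map jO)
  have ha : RepWith @Etale a := repWith_comp hp₀ (repWith_of_isPullback sq.flip hjO)
  let k : U ⟶ TO := pre (p₀ ≫ pullback.snd π ((yon S).map jO))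
  have hk' : a ≫ π = (yon S).map k ≫ (yon S).map jO := by
    rw [map_pre, Category.assoc, Category.assoc, sq.w]
  have hk : a ≫ π = (yon S).map (k ≫ jO) := by rw [hk', Functor.map_comp]
  haveI := lft_chart hlft ha hk
  haveI : LocallyOfFinitePresentation k.left := hlfp a ((yon S).map jO) k ha hjO hk'
  haveI : LocallyOfFinitePresentation (k ≫ jO).left := hlfp a (𝟙 _) (k ≫ jO) ha (repWith_id _ T)
    (by rw [hk, Category.comp_id])
  obtain ⟨T', σ, ρ, hρ, hσ, -, hcl, hr'⟩ := exists_chart_section a ha hk he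
  haveI : LocallyOfFinitePresentation (σ.left ≫ (k ≫ jO).left) := by
    rw [show σ.left ≫ (k ≫ jO).left = ρ.left from congrArg CommaMorphism.left hσ]
    infer_instance
  haveI : LocallyOfFinitePresentation σ.left := lfp_of_comp σ.left (k ≫ jO).left
  haveI : IsClosedImmersion σ.left := hcl hsep
  have hZ : Topology.IsLocallyConstructible ((Set.range σ.left)ᶜ ∪
      {u | ¬ ((k ≫ jO).left.stalkMap u).hom.FormallyUnramified}) :=
    (LimSch.isLocallyConstructible_compl (Set.image_univ ▸ σ.left.isLocallyConstructible_image Topology.IsLocallyConstructible.univ)).union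
      (ConstrFib.isLocallyConstructible_ramified _)
  have hset : (O.ι ⁻¹' bad π e : Set TO.left) = k.left '' ((Set.range σ.left)ᶜ ∪
      {u | ¬ ((k ≫ jO).left.stalkMap u).hom.FormallyUnramified}) := by
    ext t
    constructor
    · rintro ⟨x, hx, hxt⟩
      obtain ⟨y, hy₁, hy₂⟩ := exists_point_of_isPullback sq x (Points.ofPt (𝟙 _) t) (by
        rw [hxt, Points.map_ofPt, Category.id_comp, ofPt_yon_map]; rfl)
      obtain ⟨u, rfl⟩ := surjective_ofPt hp₀s y
      rw [Points.map_ofPt] at hy₁ hy₂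
      refine ⟨u, ?_, ?_⟩
      · by_contra hn
        simp only [Set.mem_union, Set.mem_compl_iff, Set.mem_ofPred_eq, not_or, not_not] at hn
        exact hx (hy₁ ▸ ⟨(hr' u).2 hn.1, (unramAt_chart ha hk u).2 hn.2⟩)
      · have := congrArg (Points.toScheme TO) hy₂
        rwa [← map_pre (p₀ ≫ pullback.snd π ((yon S).map jO)), Points.toScheme_ofPt,
          ← (yon S).map_id, Points.toScheme_ofPt] at this
    · rintro ⟨u, hu, rfl⟩
      refine ⟨Points.ofPt a u, fun hg => hu.elim (fun h => h ((hr' u).1 hg.1))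
        (fun h => h ((unramAt_chart ha hk u).1 hg.2)), ?_⟩
      rw [Points.map_ofPt, hk, ofPt_yon_map]
      rfl
  have himg : Topology.IsConstructible (O.ι ⁻¹' bad π e : Set TO.left)ᶜ := by
    rw [Topology.isConstructible_compl, hset]
    exact (k.left.isLocallyConstructible_image hZ).isConstructible
  have hc := (NisLen.isCompact_of_isConstructible himg).image O.ι.continuous
  rwa [← Set.preimage_compl, Set.image_preimage_eq_inter_range, Scheme.Opens.range_ι] at hc

end Groth.Agent.IsoNatSm.SecLocus
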