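import Groth.Agent.IsoNatSm.Unramified

/-!
# Separatedness of the presheaf of isomorphism classes
-/

set_option autoImplicit false
set_option backward.isDefEq.respectTransparency false
set_option backward.isDefEq.respectTransparency.types false

universe u

open CategoryTheory CategoryTheory.Limits AlgebraicGeometry Opposite

namespace Groth.Agent.IsoNatSm

noncomputable section

variable {S : Scheme.{u}} {𝒴 : AlgSt.Cat S} {U Z Z' : Over S}

/-- The empty sieve covers the empty scheme. -/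
theorem bot_mem_of_isEmpty {V : Over S} (hV : IsEmpty V.left) :
    (⊥ : Sieve V) ∈ QuotSh.J Scheme.fppfPrecoverage S V := by
  refine GrothendieckTopology.superset_covering _ ?_
    (AlgSpLoc.ofArrows_mem_J (κ := PEmpty.{1}) (fun k => k.elim) (fun k => k.elim)
      (fun k => k.elim) (fun k => k.elim) fun t => hV.elim t)
  rintro W g ⟨_, a, _, ⟨i⟩, rfl⟩
  exact i.elim

/-- Over the empty scheme any two morphisms agree. -/
theorem eq_of_isEmpty (h𝒴 : AlgSt.IsAlgStack Scheme.fppfPrecoverage 𝒴)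
    {G : FibCat.overCat Z ⥤ᵇ 𝒴} {H : FibCat.overCat Z' ⥤ᵇ 𝒴} {V : Over S} (hV : IsEmpty V.left)
    {a : V ⟶ Z} {b : V ⟶ Z'} (e e' : ob G a ⟶ ob H b) : e = e' :=
  haveI : (Stk.resSieve (⊥ : Sieve V) 𝒴).IsEquivalence := h𝒴.isStack.2 _ (bot_mem_of_isEmpty hV)
  eq_of_pullM_eq h𝒴.isStack.1 (R := ⊥) ⟨inferInstance, inferInstance⟩ e e'
    fun _ _ hg => hg.elim

/-- Separatedness of isomorphism classes gives separatedness for finite Zariski covers. -/
theorem sepHyp_of_separated (h𝒴 : AlgSt.IsAlgStack Scheme.fppfPrecoverage 𝒴)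
    (hsep : ∀ (T T' : Over S) (π : T' ⟶ T) [Flat π.left] [Surjective π.left]
      [LocallyOfFinitePresentation π.left] (x₁ x₂ : 𝒴.p.Fiber T) (x₁' x₂' : 𝒴.p.Fiber T')
      (a₁ : x₁'.1 ⟶ x₁.1) (a₂ : x₂'.1 ⟶ x₂.1), 𝒴.p.IsHomLift π a₁ → 𝒴.p.IsHomLift π a₂ →
        Nonempty (x₁' ≅ x₂') → Nonempty (x₁ ≅ x₂)) : SepHyp 𝒴 := by
  intro U Y ι _ O inc hoi hcov y ρ Θ hl
  have hY := h𝒴.isStack.1
  let X' : Scheme.{u} := ∐ fun i => (O i).left
  let πl : X' ⟶ Y.left := Sigma.desc fun i => (inc i).left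
  let T' : Over S := Over.mk (πl ≫ Y.hom)
  let π : T' ⟶ Y := Over.homMk πl rfl
  let σ : ∀ i, O i ⟶ T' := fun i => Over.homMk (Sigma.ι (fun i => (O i).left) i) (by
    show Sigma.ι (fun i => (O i).left) i ≫ πl ≫ Y.hom = (O i).hom
    rw [Sigma.ι_desc_assoc, Over.w])
  have hσ : ∀ i, σ i ≫ π = inc i := fun i => Over.OverMorphism.ext (Sigma.ι_desc _ _)
  haveI : Flat π.left := IsZariskiLocalAtSource.sigmaDesc fun i =>
    haveI := hoi i; (inferInstance : Flat (inc i).left)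
  haveI : LocallyOfFinitePresentation π.left := IsZariskiLocalAtSource.sigmaDesc fun i =>
    haveI := hoi i; (inferInstance : LocallyOfFinitePresentation (inc i).left)
  haveI : Surjective π.left := ⟨fun t => by
    obtain ⟨i, p, hp⟩ := hcov t
    exact ⟨(σ i).left p, by rw [← Scheme.Hom.comp_apply]; exact
      (congrArg (fun f : O i ⟶ Y => f.left p) (hσ i)).trans hp⟩⟩
  have hmono : ∀ i, Mono (σ i) := fun i => by
    haveI : Mono (σ i).left := inferInstanceAs (Mono (Sigma.ι (fun i => (O i).left) i))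
    exact Over.mono_of_mono_left _
  have hR : coverSieve O σ ∈ QuotSh.J Scheme.fppfPrecoverage S T' := by
    refine GrothendieckTopology.superset_covering _ ?_ (AlgSpLoc.ofArrows_mem_J O σ
      (fun i => inferInstanceAs (Flat (Sigma.ι (fun i => (O i).left) i)))
      (fun i => inferInstanceAs (LocallyOfFinitePresentation (Sigma.ι (fun i => (O i).left) i)))
      fun t => ?_)
    · rintro V g ⟨_, a, _, ⟨i⟩, rfl⟩
      exact ⟨i, a, rfl⟩
    · obtain ⟨i, p, hp⟩ := Scheme.IsLocallyDirected.ι_jointly_surjective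
        (F := Discrete.functor fun i => (O i).left) t
      exact ⟨i.as, p, hp⟩
  choose e he using fun i => (hl i).elim fun f => (⟨f, trivial⟩ : ∃ f : ob Θ (inc i) ⟶ ob y (inc i ≫ ρ), True)
  haveI : (Stk.resSieve (coverSieve O σ) 𝒴).IsEquivalence := h𝒴.isStack.2 _ hR
  let η : ∀ i ⦃V : Over S⦄ (g : V ⟶ T') (u : V ⟶ O i), u ≫ σ i = g →
      (ob Θ (g ≫ π) ⟶ ob y (g ≫ π ≫ ρ)) := fun i V g u hu =>
    pullM hY Θ y u (by rw [← hσ, ← Category.assoc, hu])
      (by rw [← hσ, Category.assoc, ← Category.assoc, hu]) (e i)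
  have hη : ∀ i k ⦃V : Over S⦄ (g : V ⟶ T') (u : V ⟶ O i) (hu : u ≫ σ i = g) (v : V ⟶ O k)
      (hv : v ≫ σ k = g), η i g u hu = η k g v hv := by
    intro i k V g u hu v hv
    by_cases h : i = k
    · subst h
      haveI := hmono i
      obtain rfl : u = v := by rw [← cancel_mono (σ i), hu, hv]
      rfl
    · refine eq_of_isEmpty h𝒴 ⟨fun p => ?_⟩ _ _
      have h₁ : (σ i).left (u.left p) = (σ k).left (v.left p) := by
        rw [← Scheme.Hom.comp_apply, ← Scheme.Hom.comp_apply]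
        exact congrArg (fun f : V ⟶ T' => f.left p) (hu.trans hv.symm)
      exact h (congrArg Sigma.fst ((sigmaι_eq_iff (fun i => (O i).left) i k _ _).1 h₁))
  obtain ⟨f, -⟩ := exists_glue_pullM (G := Θ) (H := y) hY ⟨inferInstance, inferInstance⟩
    (R := coverSieve O σ) (a₀ := π) (b₀ := π ≫ ρ)
    (fun V g hg => η hg.choose g hg.choose_spec.choose hg.choose_spec.choose_spec)
    (fun W V k g hg hkg => by
      refine Eq.trans ?_ (hη hg.choose hkg.choose (k ≫ g) (k ≫ hg.choose_spec.choose)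
        (by rw [Category.assoc, hg.choose_spec.choose_spec]) _ hkg.choose_spec.choose_spec)
      exact pullM_pullM hY k _ _ _ _ _ _ rfl _)
  haveI := isIso_fiber hY f
  obtain ⟨i⟩ := hsep Y T' π (ob Θ (𝟙 Y)) (ob y ρ) (ob Θ π) (ob y (π ≫ ρ))
    (Θ.map (ovHom π (Category.comp_id π))) (y.map (ovHom π rfl)) (map_ovHom_isHomLift Θ π _)
    (map_ovHom_isHomLift y π _) ⟨asIso f⟩
  exact ⟨i.inv⟩

/-- Clean objects have separated classes. -/
theorem separated_of_clean (h𝒴 : AlgSt.IsAlgStack Scheme.fppfPrecoverage 𝒴)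
    (hc : ∀ η : 𝒴.obj, IsoNat.IsClean η) (T T' : Over S) (π : T' ⟶ T) [Flat π.left]
    [Surjective π.left] [LocallyOfFinitePresentation π.left] (x₁ x₂ : 𝒴.p.Fiber T)
    (x₁' x₂' : 𝒴.p.Fiber T') (a₁ : x₁'.1 ⟶ x₁.1) (a₂ : x₂'.1 ⟶ x₂.1) (h₁ : 𝒴.p.IsHomLift π a₁)
    (h₂ : 𝒴.p.IsHomLift π a₂) (hiso : Nonempty (x₁' ≅ x₂')) : Nonempty (x₁ ≅ x₂) := by
  have hY := h𝒴.isStack.1
  haveI := Fib.isFibered_of_isFibGrpd _ hY
  obtain ⟨G, -, eG, heG⟩ := Fib.exists_basedFunctor x₁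
  obtain ⟨H, -, eH, heH⟩ := Fib.exists_basedFunctor x₂
  obtain ⟨i'⟩ := hiso
  have := i'.hom.2
  haveI := Fib.isStronglyCartesian_of_isFibGrpd 𝒴.p hY π a₁
  haveI := Fib.isStronglyCartesian_of_isFibGrpd 𝒴.p hY π a₂
  have l₁ : 𝒴.p.IsHomLift (π ≫ 𝟙 T) (G.map (ovHom (U := T) π (Category.comp_id π)) ≫ eG.hom) :=
    inferInstance
  rw [Category.comp_id] at l₁
  have l₂ : 𝒴.p.IsHomLift (π ≫ 𝟙 T) (H.map (ovHom (U := T) π (Category.comp_id π)) ≫ eH.hom) :=
    inferInstance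
  rw [Category.comp_id] at l₂
  let α : G.obj (Over.mk π) ⟶ x₁'.1 :=
    Functor.IsCartesian.map 𝒴.p π a₁ (G.map (ovHom (U := T) π (Category.comp_id π)) ≫ eG.hom)
  haveI := Fib.isStronglyCartesian_of_isFibGrpd 𝒴.p hY π
    (H.map (ovHom (U := T) π (Category.comp_id π)) ≫ eH.hom)
  let β : x₂'.1 ⟶ H.obj (Over.mk π) :=
    Functor.IsCartesian.map 𝒴.p π (H.map (ovHom (U := T) π (Category.comp_id π)) ≫ eH.hom) a₂
  have hαβ : 𝒴.p.IsHomLift (𝟙 T' ≫ 𝟙 T' ≫ 𝟙 T') (α ≫ i'.hom.1 ≫ β) := inferInstance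
  rw [Category.id_comp, Category.id_comp] at hαβ
  let e₀ : ob G π ⟶ ob H π := ⟨α ≫ i'.hom.1 ≫ β, hαβ⟩
  let e : ob G π ⟶ ob H π := e₀
  have hone : ∀ {V : Over S} {a : V ⟶ T} (f f' : ob G a ⟶ ob H a), f = f' := by
    intro V a f f'
    haveI := isIso_fiber hY f'
    haveI := (f ≫ inv f').2
    have hs := hc _ (ob G a).1 (𝟙 _) (f ≫ inv f').1
      ((IsHomLift.fac' 𝒴.p (𝟙 V) (f ≫ inv f').1).trans (by simp))
    have : f ≫ inv f' = 𝟙 _ := Subtype.ext hs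
    simpa using congrArg (· ≫ f') this
  let R : Sieve T := Sieve.ofArrows (fun _ : PUnit.{1} => T') (fun _ => π)
  have hR : R ∈ QuotSh.J Scheme.fppfPrecoverage S T :=
    AlgSpLoc.ofArrows_mem_J _ _ (fun _ => inferInstance) (fun _ => inferInstance)
      fun t => ⟨PUnit.unit, π.left.surjective t⟩
  haveI : (Stk.resSieve R 𝒴).IsEquivalence := h𝒴.isStack.2 _ hR
  have hfac : ∀ ⦃V : Over S⦄ (g : V ⟶ T), R g → ∃ u : V ⟶ T', u ≫ π = g := by
    rintro V g ⟨_, a, _, ⟨i⟩, rfl⟩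
    exact ⟨a, rfl⟩
  obtain ⟨f, -⟩ := exists_glue_pullM (G := G) (H := H) hY ⟨inferInstance, inferInstance⟩
    (R := R) (a₀ := 𝟙 T) (b₀ := 𝟙 T)
    (fun V g hg => pullM hY G H (hfac g hg).choose
      (by rw [Category.comp_id]; exact (hfac g hg).choose_spec)
      (by rw [Category.comp_id]; exact (hfac g hg).choose_spec) e)
    (fun W V k g hg hkg => hone _ _)
  haveI := isIso_fiber hY f
  have := f.2
  let i := eG.symm ≪≫ fibIso hY f ≪≫ eH
  have hi : 𝒴.p.IsHomLift (𝟙 T ≫ 𝟙 T ≫ 𝟙 T) i.hom := by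
    have : 𝒴.p.IsHomLift (𝟙 T) eG.inv := inferInstance
    show 𝒴.p.IsHomLift (𝟙 T ≫ 𝟙 T ≫ 𝟙 T) (eG.inv ≫ f.1 ≫ eH.hom)
    infer_instance
  rw [Category.id_comp, Category.id_comp] at hi
  haveI := isIso_fiber hY (⟨i.hom, hi⟩ : x₁ ⟶ x₂)
  exact ⟨asIso (⟨i.hom, hi⟩ : x₁ ⟶ x₂)⟩

end

end Groth.Agent.IsoNatSm
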