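import Groth.Agent.IsoNatSm.Lift
import Groth.Agent.AlgStB.SmoothLocus
import Groth.Agent.AlgStB.LocQRep
import Groth.Agent.AlgStB.PointsSurj

/-!
# Smoothness of charts is determined by isomorphism classes
-/

set_option autoImplicit false
set_option backward.isDefEq.respectTransparency false
set_option backward.isDefEq.respectTransparency.types false

universe u

open CategoryTheory CategoryTheory.Limits AlgebraicGeometry Opposite

namespace Groth.Agent.IsoNatSm

open Groth.Agent.AlgStB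
open _root_.AlgSp (Sp LocP yon IsFormallySmoothMor IsFormallyEtaleMor IsSurjectiveMor IsAlgSpace)

noncomputable section

variable {S : Scheme.{u}} {𝒳 𝒴 : AlgSt.Cat S} {U W : Over S}

theorem exists_eq_of_sq_zero {C : Type u} [CommRing C] (K : Ideal C) (hK : K ^ 2 = ⊥)
    (p : Spec (CommRingCat.of C)) :
    ∃ p₀, Spec.map (CommRingCat.ofHom (Ideal.Quotient.mk K)) p₀ = p := by
  let p' : PrimeSpectrum C := p
  have hmem : p' ∈ Set.range (PrimeSpectrum.comap (Ideal.Quotient.mk K)) := by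
    rw [range_comap_of_surjective _ _ Ideal.Quotient.mk_surjective, Ideal.mk_ker,
      PrimeSpectrum.mem_zeroLocus]
    intro z hz
    have hz2 : z ^ 2 = 0 := by
      have : z ^ 2 ∈ K ^ 2 := Ideal.pow_mem_pow hz 2
      rwa [hK] at this
    exact p'.isPrime.mem_of_pow_mem 2 (hz2 ▸ zero_mem _)
  exact hmem

/-- The projection of a chart of the fibre product to the atlas is formally smooth. -/
theorem isFormallySmoothHom_chart (h𝒳 : FibCat.IsFibGrpd 𝒳.p) (h𝒴 : FibCat.IsFibGrpd 𝒴.p)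
    (φ : IsoNat.FIso 𝒳 𝒴) (x : FibCat.overCat U ⥤ᵇ 𝒳) (y : FibCat.overCat U ⥤ᵇ 𝒴)
    (hxy : φ.toEquiv U (IsoNat.objCls x) = IsoNat.objCls y)
    (hx : AlgSt.RepByAlgSpWith IsFormallySmoothMor x) (w : FibCat.overCat W ⥤ᵇ 𝒴)
    {F : Sp S} {e : AlgSt.ofSp F ⥤ᵇ FibCat.fp y w} (he : FibCat.IsEquivOver e)
    {V : Over S} (c : (yon S).obj V ⟶ F) (hc : IsFormallyEtaleMor c) {q : V ⟶ U} {k : V ⟶ W}
    {κ : y.obj (Over.mk q) ≅ w.obj (Over.mk k)} {hκ : 𝒴.p.IsHomLift (𝟙 V) κ.hom}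
    (qc : e.obj (⟨V, (_root_.AlgSp.J S).uliftYonedaEquiv.{u + 1} c⟩ : (AlgSt.ofSp F).obj) ≅
      stdPt y w q k κ hκ)
    (hqc : (FibCat.fp y w).p.IsHomLift (𝟙 V) qc.hom) [Smooth q.left] :
    MoreMor.IsFormallySmoothHom k.left := by
  refine SmoothLift.isFormallySmoothHom_of_appLE k.left fun U₁ W₁ hU hW hUW => ?_
  let φr := k.left.appLE W₁ U₁ hUW
  algebraize [φr.hom]
  let f : MvPolynomial Γ(V.left, U₁) Γ(W.left, W₁) →ₐ[Γ(W.left, W₁)] Γ(V.left, U₁) :=
    MvPolynomial.aeval id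
  have hf : Function.Surjective f := fun b => ⟨MvPolynomial.X b, MvPolynomial.aeval_X _ _⟩
  refine (Algebra.FormallySmooth.iff_split_surjection f hf).2 ?_
  let C := MvPolynomial Γ(V.left, U₁) Γ(W.left, W₁) ⧸ (RingHom.ker f.toRingHom) ^ 2
  let π : C →ₐ[Γ(W.left, W₁)] Γ(V.left, U₁) := f.kerSquareLift
  have hπ : Function.Surjective π.toRingHom := fun b =>
    ⟨Ideal.Quotient.mk _ (MvPolynomial.X b), MvPolynomial.aeval_X _ _⟩
  let K : Ideal C := RingHom.ker π.toRingHom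
  have hK : K ^ 2 = ⊥ := by
    have hKe : K = (RingHom.ker f.toRingHom).map
        (Ideal.Quotient.mk ((RingHom.ker f.toRingHom) ^ 2)) := by
      refine le_antisymm (fun z hz => ?_) ?_
      · obtain ⟨p, rfl⟩ := Ideal.Quotient.mk_surjective z
        exact Ideal.mem_map_of_mem _ hz
      · exact Ideal.map_le_iff_le_comap.2 fun p hp => hp
    rw [hKe, ← Ideal.map_pow, Ideal.map_quotient_self]
  let eK : C ⧸ K ≃+* Γ(V.left, U₁) := RingHom.quotientKerEquivOfSurjective hπ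
  have heK : ∀ z : C, eK (Ideal.Quotient.mk K z) = π z := fun z => rfl
  let eI : Γ(V.left, U₁) ≅ CommRingCat.of (C ⧸ K) :=
    { hom := CommRingCat.ofHom eK.symm.toRingHom
      inv := CommRingCat.ofHom eK.toRingHom
      hom_inv_id := CommRingCat.hom_ext (RingHom.ext eK.apply_symm_apply)
      inv_hom_id := CommRingCat.hom_ext (RingHom.ext eK.symm_apply_apply) }
  let iS : Spec (CommRingCat.of (C ⧸ K)) ⟶ V.left :=
    Spec.map eI.hom ≫ hU.fromSpec
  let bS : Spec (CommRingCat.of C) ⟶ W.left :=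
    Spec.map (CommRingCat.ofHom (algebraMap Γ(W.left, W₁) C)) ≫ hW.fromSpec
  let str : Spec (CommRingCat.of C) ⟶ S := bS ≫ W.hom
  have hcomp : CommRingCat.ofHom (algebraMap Γ(W.left, W₁) C) ≫
      CommRingCat.ofHom (Ideal.Quotient.mk K) = φr ≫ eI.hom := by
    apply CommRingCat.hom_ext
    ext r
    change Ideal.Quotient.mk K (algebraMap Γ(W.left, W₁) C r) = eK.symm (φr.hom r)
    apply eK.injective
    rw [RingEquiv.apply_symm_apply, heK, AlgHom.commutes]
    rfl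
  have hjb : Spec.map (CommRingCat.ofHom (Ideal.Quotient.mk K)) ≫ bS = iS ≫ k.left := by
    simp only [bS, iS, Category.assoc, ← IsAffineOpen.SpecMap_appLE_fromSpec k.left hW hU hUW]
    rw [← Spec.map_comp_assoc, ← Spec.map_comp_assoc, hcomp]
  let i : thin C K str ⟶ V := Over.homMk iS (by
    change iS ≫ V.hom = Spec.map _ ≫ bS ≫ W.hom
    rw [reassoc_of% hjb, Over.w k])
  let b : thick C str ⟶ W := Over.homMk bS rfl
  have : IsOpenImmersion hU.fromSpec := IsAffineOpen.isOpenImmersion_fromSpec hU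
  have : IsIso (Spec.map eI.hom) :=
    ⟨Spec.map eI.inv, by rw [← Spec.map_comp, eI.inv_hom_id, Spec.map_id],
      by rw [← Spec.map_comp, eI.hom_inv_id, Spec.map_id]⟩
  have : IsOpenImmersion iS := inferInstanceAs (IsOpenImmersion (Spec.map eI.hom ≫ hU.fromSpec))
  have : Smooth i.left := inferInstanceAs (Smooth iS)
  have : Smooth (i ≫ q).left := inferInstanceAs (Smooth (i.left ≫ q.left))
  obtain ⟨l, hl₁, hl₂⟩ := exists_lift_chart C K str h𝒳 h𝒴 φ x y hxy hx w he c hc qc hqc hK i b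
    (Over.OverMorphism.ext hjb)
  have hjl : Spec.map (CommRingCat.ofHom (Ideal.Quotient.mk K)) ≫ l.left = iS :=
    congrArg CommaMorphism.left hl₁
  have hlk : l.left ≫ k.left = bS := congrArg CommaMorphism.left hl₂
  have hrange : Set.range l.left ⊆ Set.range hU.fromSpec := by
    rintro _ ⟨p, rfl⟩
    obtain ⟨p₀, hp₀⟩ := exists_eq_of_sq_zero K hK p
    refine ⟨Spec.map eI.hom p₀, ?_⟩
    change iS p₀ = _
    rw [← hjl]
    exact congrArg l.left hp₀
  let lU := IsOpenImmersion.lift hU.fromSpec l.left hrange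
  have hlU : lU ≫ hU.fromSpec = l.left := IsOpenImmersion.lift_fac _ _ _
  let ψ : Γ(V.left, U₁) ⟶ CommRingCat.of C := Spec.preimage lU
  have hψ : Spec.map ψ = lU := Spec.map_preimage lU
  have hψ₁ : ψ ≫ CommRingCat.ofHom (Ideal.Quotient.mk K) = eI.hom := by
    apply Spec.map_injective
    rw [Spec.map_comp, hψ, ← cancel_mono hU.fromSpec, Category.assoc, hlU, hjl]
  have hψ₂ : φr ≫ ψ = CommRingCat.ofHom (algebraMap Γ(W.left, W₁) C) := by
    apply Spec.map_injective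
    rw [Spec.map_comp, hψ, ← cancel_mono hW.fromSpec, Category.assoc,
      IsAffineOpen.SpecMap_appLE_fromSpec k.left hW hU hUW, reassoc_of% hlU, hlk]
  refine ⟨{ toRingHom := ψ.hom, commutes' := fun r => congrArg (fun g => g.hom r) hψ₂ },
    AlgHom.ext fun z => ?_⟩
  have hz : Ideal.Quotient.mk K (ψ.hom z) = eK.symm z := congrArg (fun g => g.hom z) hψ₁
  change π (ψ.hom z) = z
  rw [← heK, hz, RingEquiv.apply_symm_apply]

/-- A surjective morphism of schemes is surjective as a morphism of stacks. -/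
theorem repByAlgSpWith_surjective_overMap {V : Over S} (q : V ⟶ U) [Smooth q.left]
    (hq : Function.Surjective q.left) :
    AlgSt.RepByAlgSpWith IsSurjectiveMor (AlgSt.overMap q) := by
  refine repWith_surjective_of_isSurjective (Fib.isFibGrpd_overCat V) (Fib.isFibGrpd_overCat U) _
    (repByAlgSp1_of_with (repByAlgSpWith_overMap (P := @Smooth) q inferInstance)) fun z => ?_
  obtain ⟨s, hs⟩ := hq (schPt U z)
  refine ⟨schMk V s, ?_⟩
  rw [← schMk_schPt U (_root_.AlgSt.Points.map _ _), schPt_map_overMap, schPt_schMk, hs, schMk_schPt]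

/-- A point of a stack corresponding to a smooth one is smooth. -/
theorem repByAlgSpWith_smooth_of_fIso (h𝒳 : AlgSt.IsAlgStack Scheme.fppfPrecoverage 𝒳)
    (h𝒴 : AlgSt.IsAlgStack Scheme.fppfPrecoverage 𝒴) (φ : IsoNat.FIso 𝒳 𝒴)
    (x : FibCat.overCat U ⥤ᵇ 𝒳) (y : FibCat.overCat U ⥤ᵇ 𝒴)
    (hxy : φ.toEquiv U (IsoNat.objCls x) = IsoNat.objCls y)
    (hx : AlgSt.RepByAlgSpWith IsFormallySmoothMor x)
    (hlfp : AlgSt.RepByAlgSpWith (LocP @LocallyOfFinitePresentation) y) :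
    AlgSt.RepByAlgSpWith (LocP @Smooth) y := by
  obtain ⟨W, w, hw, hws⟩ := h𝒴.atlas
  obtain ⟨F, e, he, hs⟩ := hw U y
  obtain ⟨G, ε, hε, hs'⟩ := hws U y
  have hsurj := (prop_spMap_iff_of_reps IsSurjectiveMor (FibCat.fpFst y w) ε e hε he).1 hs'
  obtain ⟨G', ε', hε', hl'⟩ := hlfp W w
  have hl := (prop_spMap_iff_of_reps (LocP @LocallyOfFinitePresentation) (FibCat.fpFst w y) ε'
    (BasedFunctor.comp e (Fib.fpSwap y w)) hε'
    (Fib.isEquivOver_comp he (Fib.isEquivOver_fpSwap y w))).1 hl'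
  obtain ⟨V, c, hc, hcs⟩ := F.property.atlas
  obtain ⟨q, k, κ, hκ, qc, hqc⟩ := exists_pt_of_section (e := e) (T := V)
    ((_root_.AlgSp.J S).uliftYonedaEquiv.{u + 1} c)
  have hq := comp_spMap_fst c qc hqc
  have hk : c ≫ AlgSt.spMapOfOver (BasedFunctor.comp (BasedFunctor.comp e (Fib.fpSwap y w))
      (FibCat.fpFst w y)) = (yon S).map k :=
    IsoNatQC.equiv_spMap _ c k (IsoNatQC.secHom_eq
      (BasedFunctor.comp (BasedFunctor.comp e (Fib.fpSwap y w)) (FibCat.fpFst w y))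
      (⟨V, _⟩ : (AlgSt.ofSp F.obj).obj) (g := k) qc.hom.hom.snd (Fib.fp_isHomLift_snd _ qc.hom))
  have : Smooth q.left := hs c (𝟙 _) q hc (AlgSpc.repWith_iso _) (by simp [hq])
  have : LocallyOfFinitePresentation k.left :=
    hl c (𝟙 _) k hc (AlgSpc.repWith_iso _) (hk.trans (Category.comp_id _).symm)
  have hqs : Function.Surjective q.left := fun t => by
    obtain ⟨g, hg⟩ := hsurj ((_root_.AlgSp.Points.schemeEquiv U) t)
    obtain ⟨a, rfl⟩ := AlgSpc.surjective_map_of_repWith hcs g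
    rw [← _root_.AlgSp.Points.map_comp, hq] at hg
    obtain ⟨s, rfl⟩ := (_root_.AlgSp.Points.schemeEquiv V).surjective a
    refine ⟨s, (_root_.AlgSp.Points.schemeEquiv U).injective ?_⟩
    rw [← hg, _root_.AlgSp.Points.map_yon_map_eq]
    exact congrArg _ (congrArg q.left ((_root_.AlgSp.Points.schemeHomeo V).symm_apply_apply s).symm)
  have : Smooth k.left := (SmoothLift.smooth_iff _).2 ⟨inferInstance,
    isFormallySmoothHom_chart h𝒳.isStack.1 h𝒴.isStack.1 φ x y hxy hx w he c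
      (AlgSpFormal.etale_of_repWith_etale hc) qc hqc⟩
  have hα : ∃ α : BasedFunctor.comp (AlgSt.overMap q) y ≅ BasedFunctor.comp (AlgSt.overMap k) w,
      True := by
    let i₁ : y.obj (Over.mk (𝟙 V ≫ q)) ≅ y.obj (Over.mk q) :=
      eqToIso (by rw [Category.id_comp])
    let i₂ : w.obj (Over.mk k) ≅ w.obj (Over.mk (𝟙 V ≫ k)) :=
      eqToIso (by rw [Category.id_comp])
    have h₁ : 𝒴.p.IsHomLift (𝟙 V) i₁.hom :=
      IsHomLift.of_fac' _ _ _ (y.w_obj _) (y.w_obj _) (by simp [i₁])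
    have h₂ : 𝒴.p.IsHomLift (𝟙 V) i₂.hom :=
      IsHomLift.of_fac' _ _ _ (w.w_obj _) (w.w_obj _) (by simp [i₂])
    have h₃ : 𝒴.p.IsHomLift (𝟙 V ≫ 𝟙 V ≫ 𝟙 V) (i₁.hom ≫ κ.hom ≫ i₂.hom) := inferInstance
    obtain ⟨α, -⟩ := Fib.exists_iso_app_id h𝒴.isStack.1
      (G := BasedFunctor.comp (AlgSt.overMap q) y) (H := BasedFunctor.comp (AlgSt.overMap k) w)
      (i₁ ≪≫ κ ≪≫ i₂) (by simpa using h₃)
    exact ⟨α, trivial⟩
  obtain ⟨α, -⟩ := hα
  refine (locQ_iff_repByAlgSpWith (isAlgStack_overCat U) h𝒴 isSmoothLocalST_smooth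
    (fun _ _ _ _ hA hB hA' hB' a b a' b' sq h => AlgSpc.locP_base_change hA hB hB' sq h)
    (isLocalOnBase_fppf_of_fpqc AlgSpLoc.isLocalOnBase_smooth) y
    (repByAlgSp1_of_with hlfp)).1 ?_
  exact ⟨V, W, AlgSt.overMap q, w, k, α, repByAlgSpWith_overMap (P := @Smooth) q inferInstance,
    repByAlgSpWith_surjective_overMap q hqs, hw, locP_yon_of (inferInstance : Smooth k.left)⟩

end

end Groth.Agent.IsoNatSm
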