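import Groth.Agent.IsoNatSm.Trivial

/-!
# Twisting along a triangle of lines
-/

set_option autoImplicit false
set_option backward.isDefEq.respectTransparency false
set_option backward.isDefEq.respectTransparency.types false

universe u

open CategoryTheory CategoryTheory.Limits AlgebraicGeometry Opposite

namespace Groth.Agent.IsoNatSm

open _root_.AlgSp (Sp LocP RepWith yon IsAlgSpace)

noncomputable section

variable {S : Scheme.{u}} {𝒴 : AlgSt.Cat S}

section cob

variable {U Y : Over S} {ι : Type} (O : ι → Over S) (inc : ∀ i, O i ⟶ Y)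

/-- A twist by automorphisms is a coboundary, if objects locally isomorphic to pullbacks are pullbacks. -/
theorem exists_coboundary_simple (h𝒴 : AlgSt.IsAlgStack Scheme.fppfPrecoverage 𝒴) (y : FibCat.overCat U ⥤ᵇ 𝒴)
    [∀ i, Mono (inc i)] (hR : coverSieve O inc ∈ QuotSh.J Scheme.fppfPrecoverage S Y)
    (ρ : Y ⟶ U)
    (T : ∀ i j ⦃V : Over S⦄ (g : V ⟶ Y), Fac O inc i g → Fac O inc j g →
      ∀ (b : V ⟶ U), g ≫ ρ = b → (ob y b ⟶ ob y b))
    (hTi : ∀ i ⦃V : Over S⦄ (g : V ⟶ Y) (hi : Fac O inc i g) (b : V ⟶ U) (hb : g ≫ ρ = b),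
      T i i g hi hi b hb = 𝟙 _)
    (hTc : ∀ i j k ⦃V : Over S⦄ (g : V ⟶ Y) (hi : Fac O inc i g) (hj : Fac O inc j g)
      (hk : Fac O inc k g) (b : V ⟶ U) (hb : g ≫ ρ = b),
      T i j g hi hj b hb ≫ T j k g hj hk b hb = T i k g hi hk b hb)
    (hTn : ∀ i j ⦃W V : Over S⦄ (k : W ⟶ V) (g : V ⟶ Y) (g' : W ⟶ Y) (hg : k ≫ g = g')
      (hi : Fac O inc i g) (hj : Fac O inc j g) (b : V ⟶ U) (hb : g ≫ ρ = b) (b' : W ⟶ U)
      (hkb : k ≫ b = b'),
      pullM h𝒴.isStack.1 y y k hkb hkb (T i j g hi hj b hb) =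
        T i j g' (hi.comp O inc k hg) (hj.comp O inc k hg) b'
          (by rw [← hg, Category.assoc, hb, hkb]))
    (hglue : ∀ Θ : FibCat.overCat Y ⥤ᵇ 𝒴, (∀ i, Nonempty (ob Θ (inc i) ⟶ ob y (inc i ≫ ρ))) →
      Nonempty (ob y ρ ⟶ ob Θ (𝟙 Y))) :
    ∃ F : ∀ i ⦃V : Over S⦄ (g : V ⟶ Y), Fac O inc i g → ∀ (b : V ⟶ U), g ≫ ρ = b →
        (ob y b ⟶ ob y b),
      (∀ i ⦃W V : Over S⦄ (k : W ⟶ V) (g : V ⟶ Y) (g' : W ⟶ Y) (hg : k ≫ g = g')
        (hi : Fac O inc i g) (b : V ⟶ U) (hb : g ≫ ρ = b) (b' : W ⟶ U) (hkb : k ≫ b = b'),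
        pullM h𝒴.isStack.1 y y k hkb hkb (F i g hi b hb) =
          F i g' (hi.comp O inc k hg) b' (by rw [← hg, Category.assoc, hb, hkb])) ∧
      ∀ i j ⦃V : Over S⦄ (g : V ⟶ Y) (hi : Fac O inc i g) (hj : Fac O inc j g) (b : V ⟶ U)
        (hb : g ≫ ρ = b), F i g hi b hb ≫ T i j g hi hj b hb = F j g hj b hb := by
  have hY := h𝒴.isStack.1
  let R := coverSieve O inc
  let c : ∀ s : (Stk.sieveCat R).obj, ι := fun s => s.property.choose
  have hc : ∀ s : (Stk.sieveCat R).obj, Fac O inc (c s) s.obj.hom := fun s => s.property.choose_spec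
  let D : Stk.sieveCat R ⥤ᵇ 𝒴 :=
    { toFunctor :=
        { obj := fun s => y.obj (Over.mk (s.obj.hom ≫ ρ))
          map := fun {s s'} k =>
            (T (c s) (c s') s.obj.hom (hc s) ((hc s').comp O inc k.hom.left (Over.w k.hom)) _ rfl).1 ≫
              y.map (ovHom k.hom.left
                (show k.hom.left ≫ s'.obj.hom ≫ ρ = s.obj.hom ≫ ρ by
                  rw [← Category.assoc, Over.w k.hom]))
          map_id := fun s => by
            have h1 := hTi (c s) s.obj.hom (hc s) (s.obj.hom ≫ ρ) rfl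
            refine (congrArg (fun m => m.1 ≫ _) h1).trans ?_
            refine (Category.id_comp _).trans ?_
            rw [← y.toFunctor.map_id]
            exact congrArg y.map (Over.OverMorphism.ext rfl)
          map_comp := fun {s s' s''} k l => by
            have hkl : k.hom.left ≫ s'.obj.hom ≫ ρ = s.obj.hom ≫ ρ := by
              rw [← Category.assoc, Over.w k.hom]
            have h2 := hTn (c s') (c s'') k.hom.left s'.obj.hom s.obj.hom (Over.w k.hom) (hc s')
              ((hc s'').comp O inc l.hom.left (Over.w l.hom)) (s'.obj.hom ≫ ρ) rfl _ hkl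
            have h3 := pullM_spec hY k.hom.left hkl hkl (T (c s') (c s'') s'.obj.hom (hc s')
              ((hc s'').comp O inc l.hom.left (Over.w l.hom)) (s'.obj.hom ≫ ρ) rfl)
            rw [h2] at h3
            have hc' := congrArg Subtype.val (hTc (c s) (c s') (c s'') s.obj.hom (hc s)
              ((hc s').comp O inc k.hom.left (Over.w k.hom))
              (((hc s'').comp O inc l.hom.left (Over.w l.hom)).comp O inc k.hom.left (Over.w k.hom))
              (s.obj.hom ≫ ρ) rfl)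
            have hkl' : l.hom.left ≫ s''.obj.hom ≫ ρ = s'.obj.hom ≫ ρ := by
              rw [← Category.assoc, Over.w l.hom]
            refine Eq.trans ?_ (Category.assoc _ _ _).symm
            refine Eq.trans ?_ (congrArg (_ ≫ ·) ((reassoc_of% h3) (y.map (ovHom l.hom.left hkl'))))
            refine Eq.trans ?_ (Category.assoc _ _ _)
            refine congrArg₂ (· ≫ ·) hc'.symm ?_
            refine Eq.trans ?_ (y.toFunctor.map_comp _ _)
            exact congrArg y.map (Over.OverMorphism.ext rfl) }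
      w := CategoryTheory.Functor.ext (fun s => y.w_obj _) (fun s s' k => by
        have h1 := (T (c s) (c s') s.obj.hom (hc s)
          ((hc s').comp O inc k.hom.left (Over.w k.hom)) _ rfl).2
        have hkl : k.hom.left ≫ s'.obj.hom ≫ ρ = s.obj.hom ≫ ρ := by
          rw [← Category.assoc, Over.w k.hom]
        have h2 := map_ovHom_isHomLift y k.hom.left hkl
        have h3 : 𝒴.p.IsHomLift (𝟙 _ ≫ k.hom.left) ((T (c s) (c s') s.obj.hom (hc s)
          ((hc s').comp O inc k.hom.left (Over.w k.hom)) _ rfl).1 ≫ y.map (ovHom k.hom.left hkl)) :=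
          inferInstance
        rw [Category.id_comp] at h3
        exact IsHomLift.fac' 𝒴.p k.hom.left _) }
  haveI : (Stk.resSieve R 𝒴).IsEquivalence := h𝒴.isStack.2 R hR
  let Θ : FibCat.overCat Y ⥤ᵇ 𝒴 := (Stk.resSieve R 𝒴).objPreimage D
  let iD := (Stk.resSieve R 𝒴).objObjPreimageIso D
  let γ : ∀ ⦃V : Over S⦄ (g : V ⟶ Y) (_ : R g), ob Θ g ⟶ ob y (g ≫ ρ) := fun V g hg =>
    ⟨iD.hom.toNatTrans.app (⟨Over.mk g, hg⟩ : (Stk.sieveCat R).obj),
      iD.hom.isHomLift' (⟨Over.mk g, hg⟩ : (Stk.sieveCat R).obj)⟩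
  let δ : ∀ i ⦃V : Over S⦄ (g : V ⟶ Y), Fac O inc i g → ∀ b : V ⟶ U, g ≫ ρ = b →
      (ob Θ g ⟶ ob y b) := fun i V g hi b hb =>
    pullM hY Θ y (𝟙 V) (Category.id_comp g) (show 𝟙 V ≫ g ≫ ρ = b by rw [Category.id_comp, hb])
      (γ g ⟨i, hi⟩ ≫ T (c ⟨Over.mk g, ⟨i, hi⟩⟩) i g (hc ⟨Over.mk g, ⟨i, hi⟩⟩) hi (g ≫ ρ) rfl)
  have hδn : ∀ i ⦃W V : Over S⦄ (k : W ⟶ V) (g : V ⟶ Y) (g' : W ⟶ Y) (hg : k ≫ g = g')
      (hi : Fac O inc i g) (b : V ⟶ U) (hb : g ≫ ρ = b) (b' : W ⟶ U) (hkb : k ≫ b = b'),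
      pullM hY Θ y k hg hkb (δ i g hi b hb) =
        δ i g' (hi.comp O inc k hg) b' (by rw [← hg, Category.assoc, hb, hkb]) := by
    intro i W V k g g' hg hi b hb b' hkb
    subst hg hb hkb
    let s : (Stk.sieveCat R).obj := ⟨Over.mk g, ⟨i, hi⟩⟩
    let s' : (Stk.sieveCat R).obj := ⟨Over.mk (k ≫ g), ⟨i, hi.comp O inc k rfl⟩⟩
    let km : s' ⟶ s := ObjectProperty.homMk (Over.homMk k rfl)
    have hn := iD.hom.toNatTrans.naturality km
    change Θ.map (Over.homMk k rfl) ≫ (γ g ⟨i, hi⟩).1 =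
      (γ (k ≫ g) ⟨i, hi.comp O inc k rfl⟩).1 ≫ D.map km at hn
    have hT : pullM hY y y k (rfl : k ≫ (g ≫ ρ) = _) rfl
        (T (c s) i g (hc s) hi (g ≫ ρ) rfl) =
          T (c s) i (k ≫ g) ((hc s).comp O inc k rfl) (hi.comp O inc k rfl) _ (Category.assoc k g ρ) :=
      hTn (c s) i k g (k ≫ g) rfl (hc s) hi _ rfl _ rfl
    have hγ : pullM hY Θ y k (rfl : k ≫ g = _) (Category.assoc k g ρ).symm (γ g ⟨i, hi⟩) =
        γ (k ≫ g) ⟨i, hi.comp O inc k rfl⟩ ≫
          T (c s') (c s) (k ≫ g) (hc s') ((hc s).comp O inc k rfl) _ rfl := by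
      refine pullM_eq hY _ _ _ _ _ ?_
      change ((γ (k ≫ g) _).1 ≫ (T (c s') (c s) (k ≫ g) _ _ _ rfl).1) ≫
        y.map (ovHom k (Category.assoc k g ρ).symm) = Θ.map (ovHom k rfl) ≫ (γ g _).1
      rw [Category.assoc]
      exact hn.symm
    change pullM hY Θ y k _ _ (pullM hY Θ y (𝟙 V) _ _ _) = pullM hY Θ y (𝟙 W) _ _ _
    rw [pullM_pullM hY k (𝟙 V) _ _ _ _ k (Category.comp_id k)]
    rw [pullM_comp hY k (rfl : k ≫ g = _) (rfl : k ≫ (g ≫ ρ) = _) rfl (γ g _) _, hT]
    have hTc' := hTc (c s') (c s) i (k ≫ g) (hc s') ((hc s).comp O inc k rfl) (hi.comp O inc k rfl)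
      ((k ≫ g) ≫ ρ) rfl
    rw [← hTc', ← Category.assoc (γ (k ≫ g) _), ← hγ]
    rw [pullM_comp hY (𝟙 W) (Category.id_comp _)
      (show 𝟙 W ≫ (k ≫ g) ≫ ρ = k ≫ g ≫ ρ by simp) (show 𝟙 W ≫ (k ≫ g) ≫ ρ = k ≫ g ≫ ρ by simp),
      pullM_pullM hY (𝟙 W) k _ _ _ _ k (Category.id_comp k),
      hTn (c s) i (𝟙 W) (k ≫ g) (k ≫ g) (Category.id_comp _) ((hc s).comp O inc k rfl)
        (hi.comp O inc k rfl) _ rfl (k ≫ g ≫ ρ) (by simp)]
  have hδT : ∀ i j ⦃V : Over S⦄ (g : V ⟶ Y) (hi : Fac O inc i g) (hj : Fac O inc j g) (b : V ⟶ U)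
      (hb : g ≫ ρ = b), δ i g hi b hb ≫ T i j g hi hj b hb = δ j g hj b hb := by
    intro i j V g hi hj b hb
    subst hb
    change pullM hY Θ y (𝟙 V) _ _ _ ≫ _ = pullM hY Θ y (𝟙 V) _ _ _
    rw [pullM_self, pullM_self, Category.assoc, hTc]
  -- the corresponding objects of `𝒳`
  obtain ⟨eY⟩ := hglue Θ (fun i => ⟨δ i (inc i) ⟨𝟙 _, Category.id_comp _⟩ _ rfl⟩)
  let f : ∀ i ⦃V : Over S⦄ (g : V ⟶ Y), Fac O inc i g → ∀ (b : V ⟶ U), g ≫ ρ = b →
      (ob y b ⟶ ob y b) := fun i V g hi b hb =>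
    pullM hY y Θ g hb (Category.comp_id g) eY ≫ δ i g hi b hb
  have hfn : ∀ i ⦃W V : Over S⦄ (k : W ⟶ V) (g : V ⟶ Y) (g' : W ⟶ Y) (hg : k ≫ g = g')
      (hi : Fac O inc i g) (b : V ⟶ U) (hb : g ≫ ρ = b) (b' : W ⟶ U) (hkb : k ≫ b = b'),
      pullM hY y y k hkb hkb (f i g hi b hb) =
        f i g' (hi.comp O inc k hg) b' (by rw [← hg, Category.assoc, hb, hkb]) := by
    intro i W V k g g' hg hi b hb b' hkb
    simp only [f]
    rw [pullM_comp hY k hkb hg hkb, hδn i k g g' hg hi b hb b' hkb,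
      pullM_pullM hY k g _ _ _ _ g' hg eY]
  refine ⟨f, hfn, fun i j V g hi hj b hb => ?_⟩
  simp only [f]
  rw [Category.assoc, hδT]

end cob

section triangle

variable (K : Type u) [Field K]

open scoped Polynomial in
/-- The coordinate ring of a triangle of lines. -/
def triRing : Subring (Fin 3 → K[X]) where
  carrier := {p | ∀ m, (p m).eval 1 = (p (m + 1)).eval 0}
  mul_mem' {p q} hp hq m := by simp [hp m, hq m]
  one_mem' m := by simp
  add_mem' {p q} hp hq m := by simp [hp m, hq m]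
  zero_mem' m := by simp
  neg_mem' {p} hp m := by simp [hp m]

/-- The functions `1` at one vertex, linear on the lines. -/
def triElem (i : Fin 3) : triRing K :=
  ⟨fun m => if m = i then 1 - Polynomial.X else if m + 1 = i then Polynomial.X else 0, by
    intro m
    fin_cases i <;> fin_cases m <;> simp⟩

theorem triElem_sum : triElem K 0 + triElem K 1 + triElem K 2 = 1 := by
  refine Subtype.ext (funext fun m => ?_)
  fin_cases m <;> simp [triElem]

theorem triElem_mul {i j k : Fin 3} (hij : i ≠ j) (hjk : j ≠ k) (hik : i ≠ k) :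
    triElem K i * triElem K j * triElem K k = 0 := by
  refine Subtype.ext (funext fun m => ?_)
  fin_cases i <;> fin_cases j <;> fin_cases k <;> simp_all <;> fin_cases m <;> simp [triElem]

open scoped Polynomial in
/-- The constants. -/
def triC : K →+* triRing K :=
  (Pi.ringHom fun _ : Fin 3 => (Polynomial.C : K →+* K[X])).codRestrict (triRing K) fun a m =>
    show (Polynomial.C a).eval 1 = (Polynomial.C a).eval 0 by simp

open scoped Polynomial in
/-- Restriction to a line. -/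
def triLine (m : Fin 3) : triRing K →+* K[X] := (Pi.evalRingHom _ m).comp (triRing K).subtype

variable {K} [IsAlgClosed K] {sK : Spec (CommRingCat.of K) ⟶ S}

open scoped Polynomial in
/-- Automorphisms of objects over algebraically closed fields are trivial when classes are separated. -/
theorem aut_eq_id (h𝒴 : AlgSt.IsAlgStack Scheme.fppfPrecoverage 𝒴) (hsep : SepHyp 𝒴)
    {y : FibCat.overCat (Over.mk sK) ⥤ᵇ 𝒴} (A : AutSp h𝒴.isStack.1 y)
    (θ : ob y (𝟙 (Over.mk sK)) ⟶ ob y (𝟙 (Over.mk sK))) : θ = 𝟙 _ := by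
  classical
  have hY := h𝒴.isStack.1
  let U : Over S := Over.mk sK
  let R := triRing K
  let Y : Over S := algOver sK (triC K)
  let ρ : Y ⟶ U := Over.homMk (Spec.map (CommRingCat.ofHom (triC K))) rfl
  let O : Fin 3 → Over S := fun i =>
    algOver sK ((algebraMap R (Localization.Away (triElem K i))).comp (triC K))
  let inc : ∀ i, O i ⟶ Y := fun i =>
    algHom sK (algebraMap R (Localization.Away (triElem K i))) rfl
  have hoi : ∀ i, IsOpenImmersion (inc i).left := fun i => IsOpenImmersion.of_isLocalization (triElem K i)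
  haveI : ∀ i, Mono (inc i) := fun i => by
    haveI := hoi i
    haveI : Mono (inc i).left := inferInstance
    exact Over.mono_of_mono_left _
  have hrg : ∀ i, Set.range (inc i).left = {p : Spec (CommRingCat.of R) |
      triElem K i ∉ (p : PrimeSpectrum R).asIdeal} := fun i =>
    PrimeSpectrum.localization_away_comap_range (Localization.Away (triElem K i)) (triElem K i)
  have hcov : ∀ t : Y.left, ∃ i p, (inc i).left p = t := fun t => by
    by_contra hne
    have hall : ∀ i, triElem K i ∈ (t : PrimeSpectrum R).asIdeal := fun i => by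
      by_contra hi
      have : (t : Spec (CommRingCat.of R)) ∈ Set.range (inc i).left := by rw [hrg]; exact hi
      obtain ⟨p, hp⟩ := this
      exact hne ⟨i, p, hp⟩
    apply (t : PrimeSpectrum R).isPrime.ne_top
    rw [Ideal.eq_top_iff_one, ← triElem_sum]
    exact add_mem (add_mem (hall 0) (hall 1)) (hall 2)
  have hR : coverSieve O inc ∈ QuotSh.J Scheme.fppfPrecoverage S Y := by
    refine GrothendieckTopology.superset_covering _ ?_ (AlgSpLoc.ofArrows_mem_J O inc
      (fun i => haveI := hoi i; inferInstance) (fun i => haveI := hoi i; inferInstance)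
      fun t => (hcov t).elim fun i ⟨p, hp⟩ => ⟨i, p, hp⟩)
    rintro V g ⟨_, a, _, ⟨i⟩, rfl⟩
    exact ⟨i, a, rfl⟩
  have hmem : ∀ i ⦃V : Over S⦄ (g : V ⟶ Y), Fac O inc i g → ∀ p,
      triElem K i ∉ (g.left p : PrimeSpectrum R).asIdeal := by
    rintro i V g ⟨u, rfl⟩ p
    have : ((inc i).left (u.left p) : Spec (CommRingCat.of R)) ∈ Set.range (inc i).left := ⟨_, rfl⟩
    rw [hrg] at this
    exact this
  haveI := isIso_fiber hY θ
  let P : Fin 3 → Fin 3 → (ob y (𝟙 U) ⟶ ob y (𝟙 U)) := fun i j =>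
    if i = 0 ∧ j = 1 then θ else if i = 1 ∧ j = 0 then inv θ else 𝟙 _
  have hP0 : ∀ i, P i i = 𝟙 _ := fun i => by fin_cases i <;> simp [P]
  have hP1 : ∀ i j, P i j ≫ P j i = 𝟙 _ := fun i j => by
    fin_cases i <;> fin_cases j <;> simp [P]
  have hP2 : ∀ i j k, i = j ∨ j = k ∨ i = k → P i j ≫ P j k = P i k := by
    rintro i j k (rfl | rfl | rfl)
    · rw [hP0, Category.id_comp]
    · rw [hP0, Category.comp_id]
    · rw [hP1, hP0]
  let T : ∀ (i j : Fin 3) ⦃V : Over S⦄ (g : V ⟶ Y), Fac O inc i g → Fac O inc j g →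
      ∀ (b : V ⟶ U), g ≫ ρ = b → (ob y b ⟶ ob y b) := fun i j V g _ _ b _ =>
    pullM hY y y b (Category.comp_id b) (Category.comp_id b) (P i j)
  obtain ⟨F, hFn, hFT⟩ := exists_coboundary_simple O inc h𝒴 y hR ρ T
    (fun i V g hi b hb => by simp only [T, hP0, pullM_id])
    (fun i j k V g hi hj hk b hb => by
      by_cases h : i = j ∨ j = k ∨ i = k
      · simp only [T]
        rw [← pullM_comp hY b (Category.comp_id b) (Category.comp_id b) (Category.comp_id b), hP2 i j k h]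
      · simp only [not_or] at h
        refine eq_of_isEmpty h𝒴 ⟨fun p => ?_⟩ _ _
        have h0 : triElem K i * triElem K j * triElem K k ∈ (g.left p : PrimeSpectrum R).asIdeal := by
          rw [triElem_mul K h.1 h.2.1 h.2.2]
          exact zero_mem _
        rcases (g.left p : PrimeSpectrum R).isPrime.mem_or_mem h0 with h0 | h0
        · rcases (g.left p : PrimeSpectrum R).isPrime.mem_or_mem h0 with h0 | h0
          · exact hmem i g hi p h0
          · exact hmem j g hj p h0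
        · exact hmem k g hk p h0)
    (fun i j W V k g g' hg hi hj b hb b' hkb => pullM_pullM hY k b _ _ _ _ b' hkb (P i j))
    (fun Θ hl => hsep O inc hoi hcov y ρ Θ hl)
  -- the lines
  let L : Over S := algOver sK (Polynomial.C : K →+* K[X])
  let ρL : L ⟶ U := Over.homMk (Spec.map (CommRingCat.ofHom (Polynomial.C : K →+* K[X]))) rfl
  have hlC : ∀ m, (triLine K m).comp (triC K) = (Polynomial.C : K →+* K[X]) := fun m =>
    RingHom.ext fun a => rfl
  let ln : Fin 3 → (L ⟶ Y) := fun m => algHom sK (triLine K m) (by rw [hlC])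
  have hln : ∀ m, ln m ≫ ρ = ρL := fun m => by
    apply Over.OverMorphism.ext
    show Spec.map _ ≫ Spec.map _ = Spec.map _
    rw [← Spec.map_comp, ← CommRingCat.ofHom_comp, hlC]
  have hzC : ∀ a : K, (Polynomial.evalRingHom a).comp (Polynomial.C : K →+* K[X]) = RingHom.id K :=
    fun a => RingHom.ext fun b => Polynomial.eval_C
  let pt : K → (U ⟶ L) := fun a => Over.homMk (Spec.map (CommRingCat.ofHom (Polynomial.evalRingHom a))) (by
    show Spec.map _ ≫ Spec.map _ ≫ sK = sK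
    rw [← Spec.map_comp_assoc, ← CommRingCat.ofHom_comp, hzC, CommRingCat.ofHom_id, Spec.map_id,
      Category.id_comp])
  have hpt : ∀ a, pt a ≫ ρL = 𝟙 U := fun a => by
    apply Over.OverMorphism.ext
    show Spec.map _ ≫ Spec.map _ = 𝟙 _
    rw [← Spec.map_comp, ← CommRingCat.ofHom_comp, hzC, CommRingCat.ofHom_id, Spec.map_id]
  have hnode : ∀ m : Fin 3, pt 1 ≫ ln m = pt 0 ≫ ln (m + 1) := fun m => by
    apply Over.OverMorphism.ext
    show Spec.map _ ≫ Spec.map _ = Spec.map _ ≫ Spec.map _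
    rw [← Spec.map_comp, ← Spec.map_comp, ← CommRingCat.ofHom_comp, ← CommRingCat.ofHom_comp]
    congr 2
    exact RingHom.ext fun p => p.2 m
  have hν : ∀ i, (pt 0 ≫ ln i) ≫ ρ = 𝟙 U := fun i => by rw [Category.assoc, hln, hpt]
  have hfacν : ∀ i, Fac O inc i (pt 0 ≫ ln i) := fun i => by
    haveI := hoi i
    have hr : Set.range (pt 0 ≫ ln i).left ⊆ Set.range (inc i).left := by
      rintro _ ⟨q, rfl⟩
      rw [hrg]
      intro hq
      change Polynomial.evalRingHom (0 : K) (triLine K i (triElem K i)) ∈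
        (q : PrimeSpectrum K).asIdeal at hq
      apply (q : PrimeSpectrum K).isPrime.ne_top
      rw [Ideal.eq_top_iff_one]
      simpa [triLine, triElem] using hq
    refine ⟨Over.homMk (IsOpenImmersion.lift (inc i).left (pt 0 ≫ ln i).left hr) ?_,
      Over.OverMorphism.ext (IsOpenImmersion.lift_fac _ _ _)⟩
    rw [← Over.w (inc i), IsOpenImmersion.lift_fac_assoc, Over.w]
  let N : ∀ i : Fin 3, ob y (𝟙 U) ⟶ ob y (𝟙 U) := fun i => F i (pt 0 ≫ ln i) (hfacν i) (𝟙 U) (hν i)
  have key : ∀ m : Fin 3, N m ≫ P m (m + 1) = N (m + 1) := by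
    intro m
    haveI : (Stk.resSieve ((coverSieve O inc).pullback (ln m)) 𝒴).IsEquivalence :=
      h𝒴.isStack.2 _ ((QuotSh.J Scheme.fppfPrecoverage S).pullback_stable (ln m) hR)
    have hb : ∀ ⦃V : Over S⦄ (g : V ⟶ L), (g ≫ ln m) ≫ ρ = g ≫ ρL := fun V g => by
      rw [Category.assoc, hln]
    let η : ∀ i ⦃V : Over S⦄ (g : V ⟶ L), Fac O inc i (g ≫ ln m) →
        (ob y (g ≫ ρL) ⟶ ob y (g ≫ ρL)) := fun i V g hi =>
      F i (g ≫ ln m) hi (g ≫ ρL) (hb g) ≫
        pullM hY y y (g ≫ ρL) (Category.comp_id _) (Category.comp_id _) (P i (m + 1))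
    have hsupp : ∀ i ⦃V : Over S⦄ (g : V ⟶ L), Fac O inc i (g ≫ ln m) → V.left → i = m ∨ i = m + 1 := by
      intro i V g hi p
      by_contra hne
      simp only [not_or] at hne
      have h0 : triLine K m (triElem K i) = 0 := by
        show (if m = i then _ else if m + 1 = i then _ else 0) = (0 : K[X])
        rw [if_neg (Ne.symm hne.1), if_neg (Ne.symm hne.2)]
      refine hmem i (g ≫ ln m) hi p ?_
      show triLine K m (triElem K i) ∈ (g.left p : PrimeSpectrum K[X]).asIdeal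
      rw [h0]
      exact zero_mem _
    have hηij : ∀ i j ⦃V : Over S⦄ (g : V ⟶ L) (hi : Fac O inc i (g ≫ ln m))
        (hj : Fac O inc j (g ≫ ln m)), η i g hi = η j g hj := by
      intro i j V g hi hj
      rcases isEmpty_or_nonempty V.left with hV | ⟨⟨p⟩⟩
      · exact eq_of_isEmpty h𝒴 hV _ _
      · have hc : i = j ∨ j = m + 1 ∨ i = m + 1 := by
          rcases hsupp i g hi p with h | h
          · rcases hsupp j g hj p with h' | h'
            · exact Or.inl (h.trans h'.symm)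
            · exact Or.inr (Or.inl h')
          · exact Or.inr (Or.inr h)
        simp only [η]
        rw [← hFT i j (g ≫ ln m) hi hj (g ≫ ρL) (hb g), Category.assoc]
        simp only [T]
        rw [← pullM_comp hY (g ≫ ρL) (Category.comp_id _) (Category.comp_id _) (Category.comp_id _),
          hP2 i j (m + 1) hc]
    obtain ⟨a, ha⟩ := exists_glue_pullM (G := y) (H := y) hY ⟨inferInstance, inferInstance⟩
      (R := (coverSieve O inc).pullback (ln m)) (a₀ := ρL) (b₀ := ρL)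
      (fun V g hg => η hg.choose g hg.choose_spec)
      (fun W V k g hg hkg => by
        refine Eq.trans ?_ (hηij hg.choose hkg.choose (k ≫ g)
          (hg.choose_spec.comp O inc k (Category.assoc k g (ln m)).symm) hkg.choose_spec)
        simp only [η]
        rw [pullM_comp hY k (Category.assoc k g ρL).symm (Category.assoc k g ρL).symm (Category.assoc k g ρL).symm,
          hFn hg.choose k (g ≫ ln m) ((k ≫ g) ≫ ln m) (Category.assoc k g (ln m)).symm hg.choose_spec
            (g ≫ ρL) (hb g) ((k ≫ g) ≫ ρL) (Category.assoc k g ρL).symm,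
          pullM_pullM hY k (g ≫ ρL) _ _ _ _ ((k ≫ g) ≫ ρL) (Category.assoc k g ρL).symm])
    -- constancy
    let Q : Over S := Over.mk (Spec.map (CommRingCat.ofHom (algebraMap K[X] (RatFunc K))) ≫ L.hom)
    let gQ : Q ⟶ L := Over.homMk (Spec.map (CommRingCat.ofHom (algebraMap K[X] (RatFunc K)))) rfl
    haveI : Subsingleton Q.left := inferInstanceAs (Subsingleton (PrimeSpectrum (RatFunc K)))
    haveI : Nonempty Q.left := inferInstanceAs (Nonempty (PrimeSpectrum (RatFunc K)))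
    haveI : IsReduced L.left := inferInstanceAs (IsReduced (Spec (CommRingCat.of K[X])))
    haveI : IsDominant gQ.left := ⟨(PrimeSpectrum.denseRange_comap_iff_ker_le_nilRadical
      (algebraMap K[X] (RatFunc K))).2 (by
        rw [(RingHom.injective_iff_ker_eq_bot _).1 (IsFractionRing.injective K[X] (RatFunc K))]
        exact bot_le)⟩
    obtain ⟨θ₀, hθ₀⟩ := A.exists_const h𝒴 hsep (gQ ≫ ρL) (pullM hY y y gQ rfl rfl a)
    have hconst : a = pullM hY y y ρL (Category.comp_id ρL) (Category.comp_id ρL) θ₀ := by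
      refine A.sec_inj _ _ _ (eq_of_separated A.π A.separated _ _ (by rw [A.sec_π, A.sec_π]) gQ ?_)
      rw [A.sec_pull gQ rfl, A.sec_pull gQ rfl, pullM_pullM hY gQ ρL _ _ _ _ _ rfl, hθ₀]
    have hend : ∀ (c : K) (i : Fin 3) (hi : Fac O inc i (pt c ≫ ln m)) (hc : (pt c ≫ ln m) ≫ ρ = 𝟙 U),
        F i (pt c ≫ ln m) hi (𝟙 U) hc ≫ P i (m + 1) = θ₀ := by
      intro c i hi hc
      have hg : ((coverSieve O inc).pullback (ln m)) (pt c) := ⟨i, hi⟩
      have h := ha (pt c) hg
      rw [hηij hg.choose i (pt c) hg.choose_spec hi, hconst,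
        pullM_pullM hY (pt c) ρL _ _ _ _ _ rfl] at h
      simp only [η] at h
      have aux : ∀ (b : U ⟶ U) (hb' : (pt c ≫ ln m) ≫ ρ = b), b = 𝟙 U →
          pullM hY y y b (Category.comp_id b) (Category.comp_id b) θ₀ =
            F i (pt c ≫ ln m) hi b hb' ≫ pullM hY y y b (Category.comp_id b) (Category.comp_id b)
              (P i (m + 1)) →
          F i (pt c ≫ ln m) hi (𝟙 U) hc ≫ P i (m + 1) = θ₀ := by
        intro b hb' hb1 h'
        subst hb1
        rw [pullM_self, pullM_self] at h'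
        exact h'.symm
      exact aux _ (hb (pt c)) (hpt c) h
    have h₀ := hend 0 m (hfacν m) (hν m)
    have aux : ∀ (g : U ⟶ Y) (_ : g = pt 0 ≫ ln (m + 1)) (hi : Fac O inc (m + 1) g) (hc : g ≫ ρ = 𝟙 U),
        F (m + 1) g hi (𝟙 U) hc = N (m + 1) := by
      intro g hg hi hc
      subst hg
      rfl
    have h₁ := hend 1 (m + 1) (by rw [hnode]; exact hfacν (m + 1)) (by rw [hnode]; exact hν (m + 1))
    rw [aux _ (hnode m), hP0, Category.comp_id] at h₁
    exact h₀.trans h₁.symm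
  have k0 := key 0
  have k1 := key 1
  have k2 := key 2
  have hp01 : P 0 1 = θ := by simp [P]
  have hp12 : P 1 2 = 𝟙 _ := by simp [P]
  have hp20 : P 2 0 = 𝟙 _ := by simp [P]
  rw [show ((0 : Fin 3) + 1) = 1 from rfl, hp01] at k0
  rw [show ((1 : Fin 3) + 1) = 2 from rfl, hp12, Category.comp_id] at k1
  rw [show ((2 : Fin 3) + 1) = 0 from rfl, hp20, Category.comp_id] at k2
  haveI := isIso_fiber hY (N 0)
  rw [k1, k2] at k0
  rw [← cancel_epi (N 0), Category.comp_id]
  exact k0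

/-- When classes are separated all automorphisms of objects over algebraically closed fields are trivial. -/
theorem aut_eq_id_of_separated (h𝒴 : AlgSt.IsAlgStack Scheme.fppfPrecoverage 𝒴) (hsep : SepHyp 𝒴)
    {y : FibCat.overCat (Over.mk sK) ⥤ᵇ 𝒴} (A : AutSp h𝒴.isStack.1 y) {T : Over S}
    (r : T ⟶ Over.mk sK) (θ : ob y r ⟶ ob y r) : θ = 𝟙 _ := by
  have hY := h𝒴.isStack.1
  refine A.sec_inj r _ _ (eq_of_openImm_diag A.π (AlgSpFormal.openImm_diagonal A.isAlgSpace
    (IsAlgSpace.yon_obj _) A.lft (A.unramified h𝒴 hsep)) _ _ (by rw [A.sec_π, A.sec_π]) fun t => ?_)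
  let P : Over S := Over.mk (T.left.fromSpecResidueField t ≫ T.hom)
  let g : P ⟶ T := Over.homMk (T.left.fromSpecResidueField t) rfl
  haveI : Subsingleton P.left :=
    inferInstanceAs (Subsingleton (PrimeSpectrum (T.left.residueField t)))
  haveI : Nonempty P.left :=
    inferInstanceAs (Nonempty (PrimeSpectrum (T.left.residueField t)))
  obtain ⟨p⟩ : Nonempty P.left := inferInstance
  refine ⟨P, g, p, Scheme.fromSpecResidueField_apply _ _, ?_⟩
  rw [A.sec_pull g rfl, A.sec_pull g rfl, pullM_id]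
  obtain ⟨θ₀, hθ₀⟩ := A.exists_const h𝒴 hsep (g ≫ r) (pullM hY y y g rfl rfl θ)
  rw [← hθ₀, aut_eq_id h𝒴 hsep A θ₀, pullM_id]

end triangle

end

end Groth.Agent.IsoNatSm
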