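import Groth.Agent.IsoNatSm.AutSp
import Groth.Agent.AlgSpFormal.UnramDiag
import Mathlib.AlgebraicGeometry.AlgClosed.Basic

/-!
# The space of automorphisms when isomorphism classes are separated
-/

set_option autoImplicit false
set_option backward.isDefEq.respectTransparency false
set_option backward.isDefEq.respectTransparency.types false

universe u

open CategoryTheory CategoryTheory.Limits AlgebraicGeometry Opposite
open scoped TensorProduct

namespace Groth.Agent.IsoNatSm

open Groth.Agent.AlgStB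
open _root_.AlgSp (Sp LocP RepWith yon IsFormallyUnramifiedMor IsFormallyEtaleMor IsAlgSpace InfSq)

noncomputable section

variable {S : Scheme.{u}} {𝒴 : AlgSt.Cat S} {U : Over S}

open KaehlerDifferential in
/-- A morphism whose formally étale chart does not see retracted square-zero pairs is formally
unramified. -/
theorem formallyUnramified_of_pairs {F : Sp S} {V W : Over S} (c : (yon S).obj V ⟶ F)
    (hc : IsFormallyEtaleMor c) (k : V ⟶ W)
    (h : ∀ (C : Type u) [CommRing C] (str : Spec (CommRingCat.of C) ⟶ S) (e : C →+* C),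
      e.comp e = e → (RingHom.ker e) ^ 2 = ⊥ →
      ∀ (ε : Over.mk str ⟶ Over.mk str), ε.left = Spec.map (CommRingCat.ofHom e) →
      ∀ (l₁ l₂ : Over.mk str ⟶ V), l₁ ≫ k = l₂ ≫ k → ε ≫ l₁ = l₁ → ε ≫ l₂ = l₁ →
        (yon S).map l₂ ≫ c = (yon S).map l₁ ≫ c) :
    FormallyUnramified k.left := by
  refine ⟨fun {W₁} hW {U₁} hU hUW => ?_⟩
  let φr := k.left.appLE W₁ U₁ hUW
  algebraize [φr.hom]
  let R := Γ(W.left, W₁)
  let B := Γ(V.left, U₁)
  let J := KaehlerDifferential.ideal R B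
  let C := (B ⊗[R] B) ⧸ J ^ 2
  let μ : C →+* B := Ideal.Quotient.lift (J ^ 2) (Algebra.TensorProduct.lmul' R (S := B)).toRingHom
    fun t ht => (Ideal.pow_le_self two_ne_zero ht : t ∈ J)
  let i₁ : B →+* C := (Ideal.Quotient.mk (J ^ 2)).comp Algebra.TensorProduct.includeLeftRingHom
  let i₂ : B →+* C := (Ideal.Quotient.mk (J ^ 2)).comp
    (Algebra.TensorProduct.includeRight : B →ₐ[R] B ⊗[R] B).toRingHom
  have hμ₁ : ∀ b, μ (i₁ b) = b := fun b => by
    show Algebra.TensorProduct.lmul' R (S := B) (b ⊗ₜ[R] (1 : B)) = b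
    rw [Algebra.TensorProduct.lmul'_apply_tmul, mul_one]
  have hμ₂ : ∀ b, μ (i₂ b) = b := fun b => by
    show Algebra.TensorProduct.lmul' R (S := B) ((1 : B) ⊗ₜ[R] b) = b
    rw [Algebra.TensorProduct.lmul'_apply_tmul, one_mul]
  let eC : C →+* C := i₁.comp μ
  have hee : eC.comp eC = eC := RingHom.ext fun t => congrArg i₁ (hμ₁ (μ t))
  let I : Ideal C := RingHom.ker eC
  have hker : I ^ 2 = ⊥ := by
    have hI : I ≤ J.map (Ideal.Quotient.mk (J ^ 2)) := by
      intro t ht
      obtain ⟨p, rfl⟩ := Ideal.Quotient.mk_surjective t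
      refine Ideal.mem_map_of_mem _ ?_
      have h := congrArg μ (RingHom.mem_ker.1 ht)
      rw [map_zero] at h
      exact (hμ₁ _).symm.trans h
    refine le_bot_iff.1 ((Ideal.pow_right_mono hI 2).trans ?_)
    rw [← Ideal.map_pow, Ideal.map_quotient_self]
  let bR : R →+* C := i₁.comp φr.hom
  have hR₂ : i₂.comp φr.hom = bR := RingHom.ext fun r =>
    congrArg (Ideal.Quotient.mk (J ^ 2))
      (((Algebra.TensorProduct.includeRight : B →ₐ[R] B ⊗[R] B).commutes r).trans
        (Algebra.TensorProduct.algebraMap_apply r))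
  let bS : Spec (CommRingCat.of C) ⟶ W.left := Spec.map (CommRingCat.ofHom bR) ≫ hW.fromSpec
  let strC : Spec (CommRingCat.of C) ⟶ S := bS ≫ W.hom
  have hlk : ∀ i : B →+* C, i.comp φr.hom = bR →
      (Spec.map (CommRingCat.ofHom i) ≫ hU.fromSpec) ≫ k.left = bS := by
    intro i hi
    simp only [bS, Category.assoc, ← IsAffineOpen.SpecMap_appLE_fromSpec k.left hW hU hUW]
    rw [← Spec.map_comp_assoc]
    congr 2
    exact CommRingCat.hom_ext hi
  have hlV : ∀ i : B →+* C, i.comp φr.hom = bR →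
      (Spec.map (CommRingCat.ofHom i) ≫ hU.fromSpec) ≫ V.hom = strC := by
    intro i hi
    rw [← Over.w k, ← Category.assoc, hlk i hi]
  let b : thick C strC ⟶ W := Over.homMk bS rfl
  let l₁ : thick C strC ⟶ V :=
    Over.homMk (Spec.map (CommRingCat.ofHom i₁) ≫ hU.fromSpec) (hlV i₁ rfl)
  let l₂ : thick C strC ⟶ V :=
    Over.homMk (Spec.map (CommRingCat.ofHom i₂) ≫ hU.fromSpec) (hlV i₂ hR₂)
  have hb₁ : l₁ ≫ k = b := Over.OverMorphism.ext (hlk i₁ rfl)
  have hb₂ : l₂ ≫ k = b := Over.OverMorphism.ext (hlk i₂ hR₂)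
  let εC : thick C strC ⟶ thick C strC := Over.homMk (Spec.map (CommRingCat.ofHom eC)) (by
    show Spec.map (CommRingCat.ofHom eC) ≫ (Spec.map (CommRingCat.ofHom bR) ≫ hW.fromSpec) ≫ W.hom =
      (Spec.map (CommRingCat.ofHom bR) ≫ hW.fromSpec) ≫ W.hom
    rw [← Category.assoc, ← Spec.map_comp_assoc, ← CommRingCat.ofHom_comp,
      show eC.comp bR = bR from RingHom.ext fun r => congrArg i₁ (hμ₁ (φr.hom r))])
  have hεl₁ : εC ≫ l₁ = l₁ := by
    apply Over.OverMorphism.ext
    show Spec.map _ ≫ Spec.map _ ≫ hU.fromSpec = Spec.map _ ≫ hU.fromSpec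
    rw [← Spec.map_comp_assoc, ← CommRingCat.ofHom_comp,
      show eC.comp i₁ = i₁ from RingHom.ext fun t => congrArg i₁ (hμ₁ t)]
  have hεl₂ : εC ≫ l₂ = l₁ := by
    apply Over.OverMorphism.ext
    show Spec.map _ ≫ Spec.map _ ≫ hU.fromSpec = Spec.map _ ≫ hU.fromSpec
    rw [← Spec.map_comp_assoc, ← CommRingCat.ofHom_comp,
      show eC.comp i₂ = i₁ from RingHom.ext fun t => congrArg i₁ (hμ₂ t)]
  let j := thinHom C I strC
  have hjε : j ≫ εC = j := by
    apply Over.OverMorphism.ext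
    show Spec.map _ ≫ Spec.map _ = Spec.map _
    rw [← Spec.map_comp, ← CommRingCat.ofHom_comp]
    congr 2
    exact RingHom.ext fun t => (Ideal.Quotient.mk_eq_mk_iff_sub_mem _ _).2 (by
      rw [RingHom.mem_ker, map_sub, ← RingHom.comp_apply, hee, sub_self])
  have hjl : j ≫ l₂ = j ≫ l₁ := by rw [← hjε, Category.assoc, hεl₂, Category.assoc, hεl₁]
  have hlc : (yon S).map l₂ ≫ c = (yon S).map l₁ ≫ c :=
    h C strC eC hee hker εC rfl l₁ l₂ (hb₁.trans hb₂.symm) hεl₁ hεl₂
  let sq : InfSq c :=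
    { A := C
      commRing := inferInstance
      I := I
      sq_zero := hker
      str := strC
      top := (yon S).map (j ≫ l₁)
      bot := (yon S).map l₁ ≫ c
      comm := by rw [Functor.map_comp, Category.assoc] }
  obtain ⟨l, -, hu⟩ := hc sq
  have hl : (yon S).map l₂ = (yon S).map l₁ :=
    (hu _ ⟨by rw [← Functor.map_comp]; exact congrArg _ hjl, hlc⟩).trans
      (hu _ ⟨((yon S).map_comp j l₁).symm, rfl⟩).symm
  have : IsOpenImmersion hU.fromSpec := IsAffineOpen.isOpenImmersion_fromSpec hU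
  have hi : i₂ = i₁ := by
    have h := congrArg CommaMorphism.left ((yon S).map_injective hl)
    exact congrArg (fun g => g.hom) (Spec.map_injective ((cancel_mono hU.fromSpec).1 h))
  have hD : ∀ t : B, KaehlerDifferential.D R B t = 0 := fun t => by
    show KaehlerDifferential.DLinearMap R B t = 0
    rw [KaehlerDifferential.DLinearMap_apply, Ideal.toCotangent_eq_zero]
    exact Ideal.Quotient.eq.1 (RingHom.congr_fun hi t)
  show Algebra.FormallyUnramified R B
  refine ⟨⟨fun a b => ?_⟩⟩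
  have htop : (⊤ : Submodule B Ω[B⁄R]) = ⊥ := by
    rw [← KaehlerDifferential.span_range_derivation, Submodule.span_eq_bot]
    rintro _ ⟨t, rfl⟩
    exact hD t
  have hz : ∀ a : Ω[B⁄R], a = 0 := fun a => by
    rw [← Submodule.mem_bot B, ← htop]
    trivial
  rw [hz a, hz b]

/-- Unramified morphisms are locally quasi-finite. -/
theorem locallyQuasiFinite_of_unramified {X Y : Scheme.{u}} (f : X ⟶ Y) [LocallyOfFiniteType f]
    [FormallyUnramified f] : LocallyQuasiFinite f := by
  refine (HasRingHomProperty.iff_appLE (P := @LocallyQuasiFinite) (f := f)).2 fun W₁ U₁ e => ?_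
  have h₁ := HasRingHomProperty.appLE @FormallyUnramified f inferInstance W₁ U₁ e
  have h₂ := HasRingHomProperty.appLE @LocallyOfFiniteType f inferInstance W₁ U₁ e
  algebraize [(f.appLE W₁.1 U₁.1 e).hom]
  show Algebra.QuasiFinite Γ(Y, W₁) Γ(X, U₁)
  infer_instance

/-- Maps agreeing locally at every point are equal, for an unramified target. -/
theorem eq_of_openImm_diag {F G : Sp S} (f : F ⟶ G)
    (hΔ : RepWith @IsOpenImmersion (pullback.diagonal f)) {T : Over S}
    (l l' : (yon S).obj T ⟶ F) (w : l ≫ f = l' ≫ f)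
    (h : ∀ t, ∃ (P : Over S) (g : P ⟶ T) (p : P.left), g.left p = t ∧
      (yon S).map g ≫ l = (yon S).map g ≫ l') : l = l' := by
  obtain ⟨Z, fst, snd, sq⟩ := AlgSpc.exists_sq hΔ.1 (pullback.lift l l' w)
  haveI : IsOpenImmersion snd.left := hΔ.2 _ fst snd sq
  haveI : Surjective snd.left := ⟨fun t => by
    obtain ⟨P, g, p, hp, hg⟩ := h t
    have hw : ((yon S).map g ≫ l) ≫ pullback.diagonal f = (yon S).map g ≫ pullback.lift l l' w := by
      apply pullback.hom_ext <;>
        simp only [Category.assoc, pullback.diagonal_fst, pullback.diagonal_snd, pullback.lift_fst,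
          pullback.lift_snd, Category.comp_id]
      exact hg
    obtain ⟨u, hu⟩ := (yon S).map_surjective (sq.lift _ _ hw)
    refine ⟨u.left p, ?_⟩
    have h2 : u ≫ snd = g := (yon S).map_injective (by rw [Functor.map_comp, hu]; exact sq.lift_snd _ _ _)
    rw [← hp, ← h2]
    rfl⟩
  haveI : IsIso snd.left := (isIso_iff_isOpenImmersion_and_surjective _).2 ⟨inferInstance, inferInstance⟩
  haveI : IsIso ((Over.forget S).map snd) := ‹IsIso snd.left›
  haveI : IsIso snd := isIso_of_reflects_iso snd (Over.forget S)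
  have h₁ := congrArg (· ≫ pullback.fst f f) sq.w
  have h₂ := congrArg (· ≫ pullback.snd f f) sq.w
  simp only [Category.assoc, pullback.diagonal_fst, pullback.diagonal_snd, pullback.lift_fst,
    pullback.lift_snd, Category.comp_id] at h₁ h₂
  rw [← cancel_epi ((yon S).map snd)]
  exact h₁.symm.trans h₂

/-- Maps to a separated target agreeing on a dense set of points of a reduced scheme are equal. -/
theorem eq_of_separated {F G : Sp S} (f : F ⟶ G) (hΔ : _root_.AlgSp.IsSeparatedMor f) {T : Over S}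
    [IsReduced T.left] (l l' : (yon S).obj T ⟶ F) (w : l ≫ f = l' ≫ f) {P : Over S} (g : P ⟶ T)
    [IsDominant g.left] (h : (yon S).map g ≫ l = (yon S).map g ≫ l') : l = l' := by
  obtain ⟨Z, fst, snd, sq⟩ := AlgSpc.exists_sq hΔ.1 (pullback.lift l l' w)
  haveI : IsClosedImmersion snd.left := hΔ.2 _ fst snd sq
  have hw : ((yon S).map g ≫ l) ≫ pullback.diagonal f = (yon S).map g ≫ pullback.lift l l' w := by
    apply pullback.hom_ext <;>
      simp only [Category.assoc, pullback.diagonal_fst, pullback.diagonal_snd, pullback.lift_fst,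
        pullback.lift_snd, Category.comp_id]
    exact h
  obtain ⟨u, hu⟩ := (yon S).map_surjective (sq.lift _ _ hw)
  have h2 : u ≫ snd = g := (yon S).map_injective (by rw [Functor.map_comp, hu]; exact sq.lift_snd _ _ _)
  haveI : IsDominant (u.left ≫ snd.left) := by
    rw [← Over.comp_left, h2]; infer_instance
  haveI : IsDominant snd.left := IsDominant.of_comp u.left snd.left
  haveI : Surjective snd.left := ⟨Set.range_eq_univ.1 (by
    rw [← snd.left.isClosedEmbedding.isClosed_range.closure_eq]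
    exact snd.left.denseRange.closure_eq)⟩
  haveI : IsIso snd.left := isIso_of_isClosedImmersion_of_surjective snd.left
  haveI : IsIso ((Over.forget S).map snd) := ‹IsIso snd.left›
  haveI : IsIso snd := isIso_of_reflects_iso snd (Over.forget S)
  have h₁ := congrArg (· ≫ pullback.fst f f) sq.w
  have h₂ := congrArg (· ≫ pullback.snd f f) sq.w
  simp only [Category.assoc, pullback.diagonal_fst, pullback.diagonal_snd, pullback.lift_fst,
    pullback.lift_snd, Category.comp_id] at h₁ h₂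
  rw [← cancel_epi ((yon S).map snd)]
  exact h₁.symm.trans h₂

/-- When classes are separated the space of automorphisms is unramified. -/
theorem AutSp.unramified (h𝒴 : AlgSt.IsAlgStack Scheme.fppfPrecoverage 𝒴) (hsep : SepHyp 𝒴)
    {y : FibCat.overCat U ⥤ᵇ 𝒴} (A : AutSp h𝒴.isStack.1 y) : IsFormallyUnramifiedMor A.π := by
  have hY := h𝒴.isStack.1
  obtain ⟨V₀, c₀, hc₀, hcs₀⟩ := A.isAlgSpace.atlas
  let k₀ : V₀ ⟶ U := AlgSpc.pre (c₀ ≫ A.π)
  have hk₀ : (yon S).map k₀ = c₀ ≫ A.π := AlgSpc.map_pre _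
  -- refine the chart so that the diagonal point lifts
  obtain ⟨F', e', he'⟩ := repByAlgSp1_of_diag hY h𝒴.diag U y U y
  obtain ⟨G, c', hc', hcs'⟩ := F'.property.atlas
  obtain ⟨sd, qd, hqd⟩ := exists_section he'
    (stdPt y y k₀ k₀ (Iso.refl _) (IsHomLift.id (y.w_obj _))) (T := V₀) rfl
  obtain ⟨d, rfl⟩ := ((_root_.AlgSp.J S).uliftYonedaEquiv.{u + 1}).surjective sd
  obtain ⟨V, fst, snd, sq⟩ := AlgSpc.exists_sq hc'.1 d
  have hsn : RepWith @Etale ((yon S).map snd) :=
    (_root_.AlgSp.repWith_yon_map_iff _ _).2 (hc'.2 d fst snd sq)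
  have hsns : RepWith @Surjective ((yon S).map snd) :=
    (_root_.AlgSp.repWith_yon_map_iff _ _).2 (hcs'.2 d fst snd sq)
  obtain ⟨v, rfl⟩ := (yon S).map_surjective fst
  obtain ⟨sd', qd', hqd'⟩ := exists_section he'
    (stdPt y y (snd ≫ k₀) (snd ≫ k₀) (Iso.refl _) (IsHomLift.id (y.w_obj _))) (T := V) rfl
  obtain ⟨χ, hχ⟩ := exists_stdHom y y snd (δ' := Iso.refl _)
    (hδ' := IsHomLift.id (y.w_obj (Over.mk (snd ≫ k₀)))) (δ := Iso.refl _)
    (hδ := IsHomLift.id (y.w_obj (Over.mk k₀))) (rfl : snd ≫ k₀ = _) (rfl : snd ≫ k₀ = _) (by simp)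
  have hsd : (_root_.AlgSp.J S).uliftYonedaEquiv.{u + 1} ((yon S).map v ≫ c') = sd' := by
    rw [sq.w, AlgSpLimit.equiv_map]
    exact section_eq he' snd qd' hqd' qd hqd χ hχ
  let D : DiagChart hY y (snd ≫ k₀) :=
    { F := F'.obj
      e := e'
      he := he'
      G := G
      c := c'
      hc := AlgSpFormal.etale_of_repWith_etale hc'
      v := v
      hv := by rw [hsd]; exact ⟨qd', hqd'⟩ }
  let c := (yon S).map snd ≫ c₀
  let k := snd ≫ k₀
  have hk : c ≫ A.π = (yon S).map k := by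
    simp only [c, k]
    rw [Category.assoc, ← hk₀, Functor.map_comp]
  obtain ⟨κ, hκ⟩ := A.exists_sec c k hk
  have hc₂ := AlgSpc.repWith_comp hsn hc₀
  refine AlgSpFormal.unramified_of_chart hc₂ (AlgSpc.repWith_comp hsns hcs₀) (AlgSpc.repWith_iso (𝟙 _))
    (hk.trans (Category.comp_id _).symm) (formallyUnramified_of_pairs c
      (AlgSpFormal.etale_of_repWith_etale hc₂) k ?_)
  intro C _ str e hee hker ε hε l₁ l₂ hl he₁ he₂
  have hεr : ε ≫ l₁ ≫ k = l₁ ≫ k := by rw [← Category.assoc, he₁]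
  let δ₁ := pullM hY y y l₁ (rfl : l₁ ≫ k = _) rfl κ
  let δ₂ := pullM hY y y l₂ hl.symm hl.symm κ
  have := isIso_fiber hY δ₁
  have hδ₂ : pullM hY y y ε hεr hεr δ₂ = δ₁ := pullM_pullM hY ε l₂ _ _ _ _ l₁ he₂ κ
  have hδ₁ : pullM hY y y ε hεr hεr δ₁ = δ₁ := pullM_pullM hY ε l₁ _ _ _ _ l₁ he₁ κ
  let θ := inv δ₁ ≫ δ₂
  have hθ : pullM hY y y ε hεr hεr θ = 𝟙 _ := by
    simp only [θ]
    rw [pullM_comp hY ε hεr hεr hεr, hδ₂]
    have h := pullM_inv hY ε hεr hεr δ₁ (inv δ₁) (IsIso.hom_inv_id δ₁)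
    rw [hδ₁] at h
    have : pullM hY y y ε hεr hεr (inv δ₁) = inv δ₁ := by
      rw [← cancel_epi δ₁, h, IsIso.hom_inv_id]
    rw [this, IsIso.inv_hom_id]
  obtain ⟨D'⟩ := D.exists_comap l₁ (rfl : l₁ ≫ k = l₁ ≫ k)
  have hθid : θ = 𝟙 _ :=
    eq_id_of_trivial_on_retract h𝒴 y (Or.inl hsep) e hee hker ε hε (l₁ ≫ k) hεr D' θ hθ
  have hδ : δ₂ = δ₁ := by
    have h := congrArg (δ₁ ≫ ·) hθid
    simpa [θ] using h
  rw [← hκ, A.sec_pull l₁ rfl, A.sec_pull l₂ hl.symm]
  exact congrArg _ hδ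

section field

variable {K : Type u} [Field K] [IsAlgClosed K] {sK : Spec (CommRingCat.of K) ⟶ S}

/-- Points of unramified schemes over an algebraically closed field are rational. -/
theorem exists_rational_point {V : Over S} (k : V ⟶ Over.mk sK) [LocallyOfFiniteType k.left]
    [FormallyUnramified k.left] {Z : Over S} (v : Z ⟶ V) (z : Z.left) :
    ∃ (σ : Over.mk sK ⟶ V) (P : Over S) (g : P ⟶ Z) (p : P.left),
      g.left p = z ∧ g ≫ v = (g ≫ v ≫ k) ≫ σ ∧ σ ≫ k = 𝟙 _ := by
  haveI : LocallyQuasiFinite k.left := locallyQuasiFinite_of_unramified k.left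
  let f : V.left ⟶ Spec (CommRingCat.of K) := k.left
  let x : V.left := v.left z
  have hx : IsClosed ({x} : Set V.left) := by
    have hd := k.left.isDiscrete_preimage_singleton (k.left x)
    have hall : k.left ⁻¹' {k.left x} = Set.univ := Set.eq_univ_of_forall fun a =>
      @Subsingleton.elim _ (inferInstanceAs (Subsingleton (PrimeSpectrum K))) _ _
    rw [hall, isDiscrete_univ_iff] at hd
    exact isClosed_discrete _
  let σl := AlgebraicGeometry.pointOfClosedPoint f x hx
  have hσ : σl ≫ k.left = 𝟙 _ := AlgebraicGeometry.pointOfClosedPoint_comp f x hx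
  let σ : Over.mk sK ⟶ V := Over.homMk σl (by
    show σl ≫ V.hom = sK
    rw [← Over.w k, ← Category.assoc, hσ]
    exact Category.id_comp _)
  obtain ⟨p⟩ : Nonempty ↥(Spec (Z.left.residueField z)) := inferInstance
  refine ⟨σ, Over.mk (Z.left.fromSpecResidueField z ≫ Z.hom),
    Over.homMk (Z.left.fromSpecResidueField z) rfl, p, Scheme.fromSpecResidueField_apply _ _,
    Over.OverMorphism.ext ?_, Over.OverMorphism.ext hσ⟩
  show Z.left.fromSpecResidueField z ≫ v.left =
    (Z.left.fromSpecResidueField z ≫ v.left ≫ k.left) ≫ σl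
  have hfac : V.left.fromSpecResidueField x = (V.left.fromSpecResidueField x ≫ f) ≫ σl := by
    simp only [σl, AlgebraicGeometry.pointOfClosedPoint,
      ← AlgebraicGeometry.SpecMap_residueFieldIsoBase_inv f x hx]
    rw [← Spec.map_comp_assoc, Iso.hom_inv_id, Spec.map_id, Category.id_comp]
  rw [← Category.assoc (Z.left.fromSpecResidueField z) v.left k.left,
    ← Scheme.Hom.SpecMap_residueFieldMap_fromSpecResidueField]
  conv_lhs => rw [hfac]
  simp only [f, Category.assoc]
  rfl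

/-- Automorphisms over extension fields come from the ground field. -/
theorem AutSp.exists_const (h𝒴 : AlgSt.IsAlgStack Scheme.fppfPrecoverage 𝒴) (hsep : SepHyp 𝒴)
    {y : FibCat.overCat (Over.mk sK) ⥤ᵇ 𝒴} (A : AutSp h𝒴.isStack.1 y) {T : Over S}
    [Subsingleton T.left] [Nonempty T.left] (r : T ⟶ Over.mk sK) (θ : ob y r ⟶ ob y r) :
    ∃ θ₀ : ob y (𝟙 (Over.mk sK)) ⟶ ob y (𝟙 (Over.mk sK)),
      pullM h𝒴.isStack.1 y y r (Category.comp_id r) (Category.comp_id r) θ₀ = θ := by
  have hu := A.unramified h𝒴 hsep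
  have hΔ := AlgSpFormal.openImm_diagonal A.isAlgSpace (IsAlgSpace.yon_obj _) A.lft hu
  obtain ⟨V, c, hc, hcs⟩ := A.isAlgSpace.atlas
  let k : V ⟶ Over.mk sK := AlgSpc.pre (c ≫ A.π)
  have hk : (yon S).map k = c ≫ A.π := AlgSpc.map_pre _
  haveI : LocallyOfFiniteType k.left := A.lft c (𝟙 _) k hc (AlgSpc.repWith_iso _) (by simp [hk])
  haveI : FormallyUnramified k.left :=
    (AlgSpFormal.unramified_iff_locP A.isAlgSpace (IsAlgSpace.yon_obj _)).1 hu c (𝟙 _) k hc
      (AlgSpc.repWith_iso _) (by simp [hk])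
  obtain ⟨Z, fst, snd, sq⟩ := AlgSpc.exists_sq hcs.1 (A.sec r θ)
  haveI : Surjective snd.left := hcs.2 _ fst snd sq
  obtain ⟨v, rfl⟩ := (yon S).map_surjective fst
  obtain ⟨t⟩ : Nonempty T.left := inferInstance
  obtain ⟨z, hz⟩ := snd.left.surjective t
  obtain ⟨σ, P, g, p, hp, hg, hσ⟩ := exists_rational_point k v z
  obtain ⟨θ₀, hθ₀⟩ := A.exists_sec ((yon S).map σ ≫ c) (𝟙 _) (by
    rw [Category.assoc, ← hk, ← Functor.map_comp, hσ])
  refine ⟨θ₀, A.sec_inj r _ _ ?_⟩
  rw [← A.sec_pull r (Category.comp_id r), hθ₀]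
  refine eq_of_openImm_diag A.π hΔ _ _ (by
    rw [A.sec_π, Category.assoc, Category.assoc, ← hk, ← Functor.map_comp, ← Functor.map_comp, hσ,
      Category.comp_id]) fun t' => ⟨P, g ≫ snd, p, Subsingleton.elim _ _, ?_⟩
  have hvk : v ≫ k = snd ≫ r := (yon S).map_injective (by
    rw [Functor.map_comp, Functor.map_comp, hk, ← Category.assoc, sq.w, Category.assoc, A.sec_π])
  have h₁ : (yon S).map (g ≫ snd) ≫ A.sec r θ = (yon S).map (g ≫ v) ≫ c :=
    (congrArg (fun t => t ≫ A.sec r θ) ((yon S).map_comp g snd)).trans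
      ((Category.assoc _ _ _).trans ((congrArg (fun t => (yon S).map g ≫ t) sq.w.symm).trans
        ((Category.assoc _ _ _).symm.trans (congrArg (fun t => t ≫ c) ((yon S).map_comp g v).symm))))
  refine Eq.trans ?_ h₁.symm
  rw [hg, hvk, ← Category.assoc ((yon S).map r), ← (yon S).map_comp, ← Category.assoc ((yon S).map (g ≫ snd)),
    ← (yon S).map_comp]
  simp only [Category.assoc]

end field

end

end Groth.Agent.IsoNatSm
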