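import Groth.Agent.IsoNatSm.InfAut

/-!
# Formal unramifiedness of charts is determined by isomorphism classes
-/

set_option autoImplicit false
set_option backward.isDefEq.respectTransparency false
set_option backward.isDefEq.respectTransparency.types false

universe u

open CategoryTheory CategoryTheory.Limits AlgebraicGeometry Opposite
open scoped TensorProduct

namespace Groth.Agent.IsoNatSm

open Groth.Agent.AlgStB
open _root_.AlgSp (Sp LocP RepWith yon IsFormallyUnramifiedMor IsFormallyEtaleMor IsAlgSpace InfSq)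

noncomputable section

variable {S : Scheme.{u}} {𝒳 𝒴 : AlgSt.Cat S} {U Z Z' : Over S}

section points

variable (h𝒴 : FibCat.IsFibGrpd 𝒴.p) (G : FibCat.overCat Z ⥤ᵇ 𝒴) (H : FibCat.overCat Z' ⥤ᵇ 𝒴)

/-- The point given by a morphism between values. -/
abbrev homPt {T : Over S} {a : T ⟶ Z} {b : T ⟶ Z'} (f : ob G a ⟶ ob H b) : (FibCat.fp G H).obj :=
  stdPt G H a b (fibIso h𝒴 f) (fibIso_isHomLift h𝒴 f)

theorem homPt_mk {T : Over S} {a : T ⟶ Z} {b : T ⟶ Z'} (δ : G.obj (Over.mk a) ≅ H.obj (Over.mk b))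
    (hδ : 𝒴.p.IsHomLift (𝟙 T) δ.hom) :
    homPt h𝒴 G H (⟨δ.hom, hδ⟩ : ob G a ⟶ ob H b) = stdPt G H a b δ hδ := by
  have h : fibIso h𝒴 (⟨δ.hom, hδ⟩ : ob G a ⟶ ob H b) = δ := Iso.ext rfl
  unfold homPt
  congr 1

variable {h𝒴} {G} {H}

theorem exists_homPtHom {T' T : Over S} (k : T' ⟶ T) {a : T ⟶ Z} {b : T ⟶ Z'} {a' : T' ⟶ Z}
    {b' : T' ⟶ Z'} (ha : k ≫ a = a') (hb : k ≫ b = b') (f : ob G a ⟶ ob H b)
    (f' : ob G a' ⟶ ob H b') (h : pullM h𝒴 G H k ha hb f = f') :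
    ∃ χ : homPt h𝒴 G H f' ⟶ homPt h𝒴 G H f, (FibCat.fp G H).p.IsHomLift k χ := by
  refine exists_stdHom G H k ha hb ?_
  subst h
  exact (pullM_spec h𝒴 k ha hb f).symm

theorem pullM_of_homPtHom {T' T : Over S} (k : T' ⟶ T) {a : T ⟶ Z} {b : T ⟶ Z'} {a' : T' ⟶ Z}
    {b' : T' ⟶ Z'} (ha : k ≫ a = a') (hb : k ≫ b = b') (f : ob G a ⟶ ob H b)
    (f' : ob G a' ⟶ ob H b') (χ : homPt h𝒴 G H f' ⟶ homPt h𝒴 G H f)
    (hχ : (FibCat.fp G H).p.IsHomLift k χ) : pullM h𝒴 G H k ha hb f = f' := by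
  refine pullM_eq h𝒴 _ _ _ _ _ ?_
  have aux : ∀ {Z₀ : Over S} {a₀ : T ⟶ Z₀} {a₀' : T' ⟶ Z₀} (h₀ : k ≫ a₀ = a₀')
      (φ : (Over.mk a₀' : (FibCat.overCat Z₀).obj) ⟶ Over.mk a₀),
      (FibCat.overCat Z₀).p.IsHomLift k φ → φ = ovHom k h₀ := fun {Z₀} _ _ h₀ φ hφ =>
    Over.OverMorphism.ext ((IsHomLift.fac' (FibCat.overCat Z₀).p k φ).trans (by simp; rfl))
  have h1 := aux ha χ.hom.fst ((Fib.fp_isHomLift_iff _ _).1 hχ)
  have h2 := aux hb χ.hom.snd (Fib.fp_isHomLift_snd _ χ)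
  have hw : G.map χ.hom.fst ≫ f.1 = f'.1 ≫ H.map χ.hom.snd := χ.hom.w
  rw [h1, h2] at hw
  exact hw.symm

variable {F : Sp S} {e : AlgSt.ofSp F ⥤ᵇ FibCat.fp G H}

/-- A section over a scheme as a point given by a morphism. -/
theorem exists_homPt_of_section (h𝒴 : FibCat.IsFibGrpd 𝒴.p) {T : Over S} (s : F.obj.obj (op T)) :
    ∃ (a : T ⟶ Z) (b : T ⟶ Z') (f : ob G a ⟶ ob H b)
      (q : e.obj (⟨T, s⟩ : (AlgSt.ofSp F).obj) ≅ homPt h𝒴 G H f),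
      (FibCat.fp G H).p.IsHomLift (𝟙 T) q.hom := by
  obtain ⟨a, b, δ, hδ, q, hq⟩ := exists_pt_of_section (e := e) s
  refine ⟨a, b, ⟨δ.hom, hδ⟩, ?_⟩
  rw [homPt_mk]
  exact ⟨q, hq⟩

/-- The restriction of a point of the representing sheaf. -/
theorem exists_pt_map (he : FibCat.IsEquivOver e) {T' T : Over S} (g : T' ⟶ T)
    (c : (yon S).obj T ⟶ F) {a : T ⟶ Z} {b : T ⟶ Z'} (f : ob G a ⟶ ob H b)
    (q : e.obj (⟨T, (_root_.AlgSp.J S).uliftYonedaEquiv.{u + 1} c⟩ : (AlgSt.ofSp F).obj) ≅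
      homPt h𝒴 G H f)
    (hq : (FibCat.fp G H).p.IsHomLift (𝟙 T) q.hom) {a' : T' ⟶ Z} {b' : T' ⟶ Z'} (ha : g ≫ a = a')
    (hb : g ≫ b = b') :
    ∃ q' : e.obj (⟨T', (_root_.AlgSp.J S).uliftYonedaEquiv.{u + 1} ((yon S).map g ≫ c)⟩ :
        (AlgSt.ofSp F).obj) ≅ homPt h𝒴 G H (pullM h𝒴 G H g ha hb f),
      (FibCat.fp G H).p.IsHomLift (𝟙 T') q'.hom := by
  obtain ⟨s', qs, hqs⟩ := exists_section he (homPt h𝒴 G H (pullM h𝒴 G H g ha hb f)) (T := T') rfl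
  obtain ⟨χ, hχ⟩ := exists_homPtHom g ha hb f _ rfl
  rw [AlgSpLimit.equiv_map, section_eq he g qs hqs q hq χ hχ]
  exact ⟨qs, hqs⟩

end points

/-- Pullback of a chart of the diagonal. -/
theorem DiagChart.exists_comap {h𝒴 : FibCat.IsFibGrpd 𝒴.p} {y : FibCat.overCat U ⥤ᵇ 𝒴} {P P' : Over S}
    {r : P ⟶ U} (D : DiagChart h𝒴 y r) (g : P' ⟶ P) {r' : P' ⟶ U} (hg : g ≫ r = r') :
    Nonempty (DiagChart h𝒴 y r') := by
  obtain ⟨qv, hqv⟩ := D.hv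
  obtain ⟨s, qs, hqs⟩ := exists_section D.he
    (stdPt y y r' r' (Iso.refl _) (IsHomLift.id (y.w_obj _))) (T := P') rfl
  obtain ⟨χ, hχ⟩ := exists_stdHom y y g (δ' := Iso.refl _) (hδ' := IsHomLift.id (y.w_obj (Over.mk r')))
    (δ := Iso.refl _) (hδ := IsHomLift.id (y.w_obj (Over.mk r))) hg hg
    (by simp)
  have h := section_eq D.he g qs hqs qv hqv χ hχ
  refine ⟨{ F := D.F, e := D.e, he := D.he, G := D.G, c := D.c, hc := D.hc, v := g ≫ D.v, hv := ?_ }⟩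
  rw [Functor.map_comp, Category.assoc, AlgSpLimit.equiv_map, h]
  exact ⟨qs, hqs⟩

variable {A : Type u} [CommRing A] {I : Ideal A} {str : Spec (CommRingCat.of A) ⟶ S}

/-- An isomorphism of points of an unramified chart which is trivial on a thickening is trivial. -/
theorem eq_of_unramified (h𝒳 : FibCat.IsFibGrpd 𝒳.p) (x : FibCat.overCat U ⥤ᵇ 𝒳)
    (hx : AlgSt.RepByAlgSpWith IsFormallyUnramifiedMor x) (hI : I ^ 2 = ⊥)
    {r₁ r₂ : thick A str ⟶ U} (e : ob x r₁ ⟶ ob x r₂) {q : thin A I str ⟶ U}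
    (h₁ : thinHom A I str ≫ r₁ = q) (h₂ : thinHom A I str ≫ r₂ = q)
    (he : pullM h𝒳 x x (thinHom A I str) h₁ h₂ e = 𝟙 _) :
    ∃ h : r₁ = r₂, e.1 = eqToHom (by rw [h]) := by
  let T := thick A str
  let j := thinHom A I str
  let z := BasedFunctor.comp (AlgSt.overMap r₂) x
  obtain ⟨F, ε, hε, hP⟩ := hx T z
  have := isIso_fiber h𝒳 e
  let f₂ : ob z (𝟙 T) ⟶ ob x r₂ :=
    ⟨x.map (ovHom (𝟙 T) (rfl : 𝟙 T ≫ r₂ = 𝟙 T ≫ r₂)),
      map_ovHom_isHomLift x (𝟙 T) (rfl : 𝟙 T ≫ r₂ = 𝟙 T ≫ r₂)⟩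
  let f₁ : ob z (𝟙 T) ⟶ ob x r₁ := f₂ ≫ inv e
  have hinv : pullM h𝒳 x x j h₂ h₁ (inv e) = 𝟙 _ := by
    have h := pullM_inv h𝒳 j h₁ h₂ e (inv e) (IsIso.hom_inv_id e)
    rwa [he, Category.id_comp] at h
  have hf : pullM h𝒳 z x j (Category.comp_id j) h₁ f₁ = pullM h𝒳 z x j (Category.comp_id j) h₂ f₂ := by
    simp only [f₁]
    rw [pullM_comp h𝒳 j (Category.comp_id j) h₂ h₁, hinv, Category.comp_id]
  obtain ⟨s₁, q₁, hq₁⟩ := exists_section hε (homPt h𝒳 z x f₁) (T := T) rfl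
  obtain ⟨s₂, q₂, hq₂⟩ := exists_section hε (homPt h𝒳 z x f₂) (T := T) rfl
  obtain ⟨s₀, q₀, hq₀⟩ := exists_section hε
    (homPt h𝒳 z x (pullM h𝒳 z x j (Category.comp_id j) h₂ f₂)) (T := thin A I str) rfl
  obtain ⟨χ₁, hχ₁⟩ := exists_homPtHom j (Category.comp_id j) h₁ f₁ _ hf
  obtain ⟨χ₂, hχ₂⟩ := exists_homPtHom j (Category.comp_id j) h₂ f₂ _ rfl
  have hs₁ := section_eq hε j q₀ hq₀ q₁ hq₁ χ₁ hχ₁
  have hs₂ := section_eq hε j q₀ hq₀ q₂ hq₂ χ₂ hχ₂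
  obtain ⟨l₁, rfl⟩ := ((_root_.AlgSp.J S).uliftYonedaEquiv.{u + 1}).surjective s₁
  obtain ⟨l₂, rfl⟩ := ((_root_.AlgSp.J S).uliftYonedaEquiv.{u + 1}).surjective s₂
  obtain ⟨l₀, rfl⟩ := ((_root_.AlgSp.J S).uliftYonedaEquiv.{u + 1}).surjective s₀
  have hl₁ : (yon S).map j ≫ l₁ = l₀ := by
    apply ((_root_.AlgSp.J S).uliftYonedaEquiv.{u + 1}).injective
    rw [AlgSpLimit.equiv_map, hs₁]
  have hl₂ : (yon S).map j ≫ l₂ = l₀ := by
    apply ((_root_.AlgSp.J S).uliftYonedaEquiv.{u + 1}).injective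
    rw [AlgSpLimit.equiv_map, hs₂]
  have hb₁ := comp_spMap_fst l₁ q₁ hq₁
  have hb₂ := comp_spMap_fst l₂ q₂ hq₂
  let sq : InfSq (AlgSt.spMapOfOver (BasedFunctor.comp ε (FibCat.fpFst z x))) :=
    { A := A
      commRing := inferInstance
      I := I
      sq_zero := hI
      str := str
      top := l₀
      bot := (yon S).map (𝟙 T)
      comm := by
        rw [← hl₁, Category.assoc]
        exact congrArg _ hb₁ }
  obtain rfl : l₁ = l₂ := hP sq l₁ l₂ hl₁ hb₁ hl₂ hb₂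
  let χ : homPt h𝒳 z x f₁ ⟶ homPt h𝒳 z x f₂ := q₁.inv ≫ q₂.hom
  have hχ : (FibCat.fp z x).p.IsHomLift (𝟙 T) χ := by
    have : (FibCat.fp z x).p.IsHomLift (𝟙 T) q₁.inv := inferInstance
    have : (FibCat.fp z x).p.IsHomLift (𝟙 T ≫ 𝟙 T) χ := inferInstance
    simpa using this
  obtain ⟨-, hr⟩ := of_stdHom z x (𝟙 T) χ hχ
  obtain rfl : r₂ = r₁ := by simpa using hr
  refine ⟨rfl, ?_⟩
  have h := pullM_of_homPtHom (𝟙 T) (Category.id_comp _) (Category.id_comp _) f₂ f₁ χ hχ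
  rw [pullM_self] at h
  have := isIso_fiber h𝒳 f₂
  have he' : inv e = 𝟙 _ := by
    rw [← cancel_epi f₂, Category.comp_id]
    exact h.symm
  have : e = 𝟙 _ := by
    have h := IsIso.hom_inv_id e
    rwa [he', Category.comp_id] at h
  rw [this]
  rfl

open KaehlerDifferential in
/-- The projection of a chart to the base is formally unramified. -/
theorem formallyUnramified_chart (h𝒳 : AlgSt.IsAlgStack Scheme.fppfPrecoverage 𝒳)
    (h𝒴 : AlgSt.IsAlgStack Scheme.fppfPrecoverage 𝒴) (φ : IsoNat.FIso 𝒳 𝒴)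
    (x : FibCat.overCat U ⥤ᵇ 𝒳) (y : FibCat.overCat U ⥤ᵇ 𝒴)
    (hxy : φ.toEquiv U (IsoNat.objCls x) = IsoNat.objCls y)
    (hx : AlgSt.RepByAlgSpWith IsFormallyUnramifiedMor x) {W : Over S}
    (z : FibCat.overCat W ⥤ᵇ 𝒴) {F : Sp S} {e : AlgSt.ofSp F ⥤ᵇ FibCat.fp z y}
    (he : FibCat.IsEquivOver e) {V : Over S} (c : (yon S).obj V ⟶ F) (hc : IsFormallyEtaleMor c)
    {k : V ⟶ W} {qU : V ⟶ U} (κ : ob z k ⟶ ob y qU)
    (qc : e.obj (⟨V, (_root_.AlgSp.J S).uliftYonedaEquiv.{u + 1} c⟩ : (AlgSt.ofSp F).obj) ≅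
      homPt h𝒴.isStack.1 z y κ)
    (hqc : (FibCat.fp z y).p.IsHomLift (𝟙 V) qc.hom) (D : DiagChart h𝒴.isStack.1 y qU) :
    FormallyUnramified k.left := by
  refine ⟨fun {W₁} hW {U₁} hU hUW => ?_⟩
  let φr := k.left.appLE W₁ U₁ hUW
  algebraize [φr.hom]
  let R := Γ(W.left, W₁)
  let B := Γ(V.left, U₁)
  let J := KaehlerDifferential.ideal R B
  let C := (B ⊗[R] B) ⧸ J ^ 2
  let μ : C →+* B := Ideal.Quotient.lift (J ^ 2) (Algebra.TensorProduct.lmul' R (S := B)).toRingHom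
    fun t ht => (Ideal.pow_le_self two_ne_zero ht : t ∈ J)
  let i₁ : B →+* C := (Ideal.Quotient.mk (J ^ 2)).comp Algebra.TensorProduct.includeLeftRingHom
  let i₂ : B →+* C := (Ideal.Quotient.mk (J ^ 2)).comp
    (Algebra.TensorProduct.includeRight : B →ₐ[R] B ⊗[R] B).toRingHom
  have hμ₁ : ∀ b, μ (i₁ b) = b := fun b => by
    show Algebra.TensorProduct.lmul' R (S := B) (b ⊗ₜ[R] (1 : B)) = b
    rw [Algebra.TensorProduct.lmul'_apply_tmul, mul_one]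
  have hμ₂ : ∀ b, μ (i₂ b) = b := fun b => by
    show Algebra.TensorProduct.lmul' R (S := B) ((1 : B) ⊗ₜ[R] b) = b
    rw [Algebra.TensorProduct.lmul'_apply_tmul, one_mul]
  let eC : C →+* C := i₁.comp μ
  have hee : eC.comp eC = eC := RingHom.ext fun t => congrArg i₁ (hμ₁ (μ t))
  let I : Ideal C := RingHom.ker eC
  have hker : I ^ 2 = ⊥ := by
    have hI : I ≤ J.map (Ideal.Quotient.mk (J ^ 2)) := by
      intro t ht
      obtain ⟨p, rfl⟩ := Ideal.Quotient.mk_surjective t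
      refine Ideal.mem_map_of_mem _ ?_
      have h := congrArg μ (RingHom.mem_ker.1 ht)
      rw [map_zero] at h
      exact (hμ₁ _).symm.trans h
    refine le_bot_iff.1 ((Ideal.pow_right_mono hI 2).trans ?_)
    rw [← Ideal.map_pow, Ideal.map_quotient_self]
  let bR : R →+* C := i₁.comp φr.hom
  have hR₂ : i₂.comp φr.hom = bR := RingHom.ext fun r =>
    congrArg (Ideal.Quotient.mk (J ^ 2))
      (((Algebra.TensorProduct.includeRight : B →ₐ[R] B ⊗[R] B).commutes r).trans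
        (Algebra.TensorProduct.algebraMap_apply r))
  let bS : Spec (CommRingCat.of C) ⟶ W.left := Spec.map (CommRingCat.ofHom bR) ≫ hW.fromSpec
  let strC : Spec (CommRingCat.of C) ⟶ S := bS ≫ W.hom
  have hlk : ∀ i : B →+* C, i.comp φr.hom = bR →
      (Spec.map (CommRingCat.ofHom i) ≫ hU.fromSpec) ≫ k.left = bS := by
    intro i hi
    simp only [bS, Category.assoc, ← IsAffineOpen.SpecMap_appLE_fromSpec k.left hW hU hUW]
    rw [← Spec.map_comp_assoc]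
    congr 2
    exact CommRingCat.hom_ext hi
  have hlV : ∀ i : B →+* C, i.comp φr.hom = bR →
      (Spec.map (CommRingCat.ofHom i) ≫ hU.fromSpec) ≫ V.hom = strC := by
    intro i hi
    rw [← Over.w k, ← Category.assoc, hlk i hi]
  let b : thick C strC ⟶ W := Over.homMk bS rfl
  let l₁ : thick C strC ⟶ V :=
    Over.homMk (Spec.map (CommRingCat.ofHom i₁) ≫ hU.fromSpec) (hlV i₁ rfl)
  let l₂ : thick C strC ⟶ V :=
    Over.homMk (Spec.map (CommRingCat.ofHom i₂) ≫ hU.fromSpec) (hlV i₂ hR₂)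
  have hb₁ : l₁ ≫ k = b := Over.OverMorphism.ext (hlk i₁ rfl)
  have hb₂ : l₂ ≫ k = b := Over.OverMorphism.ext (hlk i₂ hR₂)
  let εC : thick C strC ⟶ thick C strC := Over.homMk (Spec.map (CommRingCat.ofHom eC)) (by
    show Spec.map (CommRingCat.ofHom eC) ≫ (Spec.map (CommRingCat.ofHom bR) ≫ hW.fromSpec) ≫ W.hom =
      (Spec.map (CommRingCat.ofHom bR) ≫ hW.fromSpec) ≫ W.hom
    rw [← Category.assoc, ← Spec.map_comp_assoc, ← CommRingCat.ofHom_comp,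
      show eC.comp bR = bR from RingHom.ext fun r => congrArg i₁ (hμ₁ (φr.hom r))])
  have hεl₁ : εC ≫ l₁ = l₁ := by
    apply Over.OverMorphism.ext
    show Spec.map _ ≫ Spec.map _ ≫ hU.fromSpec = Spec.map _ ≫ hU.fromSpec
    rw [← Spec.map_comp_assoc, ← CommRingCat.ofHom_comp,
      show eC.comp i₁ = i₁ from RingHom.ext fun t => congrArg i₁ (hμ₁ t)]
  have hεl₂ : εC ≫ l₂ = l₁ := by
    apply Over.OverMorphism.ext
    show Spec.map _ ≫ Spec.map _ ≫ hU.fromSpec = Spec.map _ ≫ hU.fromSpec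
    rw [← Spec.map_comp_assoc, ← CommRingCat.ofHom_comp,
      show eC.comp i₂ = i₁ from RingHom.ext fun t => congrArg i₁ (hμ₂ t)]
  let j := thinHom C I strC
  have hjε : j ≫ εC = j := by
    apply Over.OverMorphism.ext
    show Spec.map _ ≫ Spec.map _ = Spec.map _
    rw [← Spec.map_comp, ← CommRingCat.ofHom_comp]
    congr 2
    exact RingHom.ext fun t => (Ideal.Quotient.mk_eq_mk_iff_sub_mem _ _).2 (by
      rw [RingHom.mem_ker, map_sub, ← RingHom.comp_apply, hee, sub_self])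
  have hjl : j ≫ l₂ = j ≫ l₁ := by rw [← hjε, Category.assoc, hεl₂, Category.assoc, hεl₁]
  have hY := h𝒴.isStack.1
  have hX := h𝒳.isStack.1
  have hε₁ : εC ≫ l₁ ≫ qU = l₁ ≫ qU := by rw [← Category.assoc, hεl₁]
  have hε₂ : εC ≫ l₂ ≫ qU = l₁ ≫ qU := by rw [← Category.assoc, hεl₂]
  have hcls : IsoNat.cls (ob x (l₂ ≫ qU)) = IsoNat.cls (ob x (l₁ ≫ qU)) := by
    apply (φ.toEquiv _).injective
    rw [cls_ob_of_objCls hY φ x y hxy, cls_ob_of_objCls hY φ x y hxy]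
    have := isIso_fiber hY (pullM hY z y l₁ hb₁ rfl κ)
    have := isIso_fiber hY (pullM hY z y l₂ hb₂ rfl κ)
    exact Quotient.sound ⟨(asIso (pullM hY z y l₂ hb₂ rfl κ)).symm ≪≫
      asIso (pullM hY z y l₁ hb₁ rfl κ)⟩
  obtain ⟨g⟩ := Quotient.exact hcls
  let g₀ : ob x (l₁ ≫ qU) ⟶ ob x (l₁ ≫ qU) := pullM hX x x εC hε₂ hε₁ g.hom
  have := isIso_fiber hX g₀
  let g' : ob x (l₂ ≫ qU) ⟶ ob x (l₁ ≫ qU) := g.hom ≫ inv g₀
  have hj₁ : j ≫ l₁ ≫ qU = j ≫ l₁ ≫ qU := rfl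
  have hj₂ : j ≫ l₂ ≫ qU = j ≫ l₁ ≫ qU := by rw [← Category.assoc, hjl, Category.assoc]
  have hg₀ : pullM hX x x j hj₁ hj₁ g₀ = pullM hX x x j hj₂ hj₁ g.hom := by
    simp only [g₀]
    rw [pullM_pullM hX j εC _ _ _ _ _ hjε]
  have hg' : pullM hX x x j hj₂ hj₁ g' = 𝟙 _ := by
    simp only [g']
    rw [pullM_comp hX j hj₂ hj₁ hj₁, ← hg₀]
    exact pullM_inv hX j hj₁ hj₁ g₀ (inv g₀) (IsIso.hom_inv_id g₀)
  obtain ⟨hr, _⟩ := eq_of_unramified hX x hx hker g' hj₂ hj₁ hg'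
  let δ₁ := pullM hY z y l₁ hb₁ rfl κ
  let δ₂ := pullM hY z y l₂ hb₂ hr κ
  have := isIso_fiber hY δ₁
  let θ : ob y (l₁ ≫ qU) ⟶ ob y (l₁ ≫ qU) := inv δ₁ ≫ δ₂
  have hεb : εC ≫ b = b := by rw [← hb₁, ← Category.assoc, hεl₁]
  have hδ₂ : pullM hY z y εC hεb hε₁ δ₂ = δ₁ := pullM_pullM hY εC l₂ _ _ _ _ l₁ hεl₂ κ
  have hδ₁ : pullM hY z y εC hεb hε₁ δ₁ = δ₁ := pullM_pullM hY εC l₁ _ _ _ _ l₁ hεl₁ κ
  have hθ : pullM hY y y εC hε₁ hε₁ θ = 𝟙 _ := by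
    simp only [θ]
    rw [pullM_comp hY εC hε₁ hεb hε₁, hδ₂]
    have h := pullM_inv hY εC hεb hε₁ δ₁ (inv δ₁) (IsIso.hom_inv_id δ₁)
    rw [hδ₁] at h
    have : pullM hY y z εC hε₁ hεb (inv δ₁) = inv δ₁ := by
      rw [← cancel_epi δ₁, h, IsIso.hom_inv_id]
    rw [this, IsIso.inv_hom_id]
  have hinf : ∀ (B : Type u) [CommRing B] (str : Spec (CommRingCat.of B) ⟶ S) (e : B →+* B),
      e.comp e = e → (RingHom.ker e) ^ 2 = ⊥ →
      ∀ (ε : Over.mk str ⟶ Over.mk str), ε.left = Spec.map (CommRingCat.ofHom e) →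
      ∀ (r : Over.mk str ⟶ U) (hr : ε ≫ r = r) (t : ob x r ⟶ ob x r),
        pullM hX x x ε hr hr t = 𝟙 _ → t = 𝟙 _ := by
    intro B₀ _ str₀ e₀ hee₀ hker₀ ε₀ hε₀ r₀ hr₀ t ht
    have hjε₀ : thinHom B₀ (RingHom.ker e₀) str₀ ≫ ε₀ = thinHom B₀ (RingHom.ker e₀) str₀ := by
      apply Over.OverMorphism.ext
      show Spec.map _ ≫ ε₀.left = Spec.map _
      rw [hε₀, ← Spec.map_comp, ← CommRingCat.ofHom_comp]
      congr 2
      exact RingHom.ext fun t => (Ideal.Quotient.mk_eq_mk_iff_sub_mem _ _).2 (by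
        rw [RingHom.mem_ker, map_sub, ← RingHom.comp_apply, hee₀, sub_self])
    obtain ⟨_, h⟩ := eq_of_unramified hX x hx hker₀ t (q := thinHom B₀ (RingHom.ker e₀) str₀ ≫ r₀)
      rfl rfl (by rw [← pullM_pullM hX _ ε₀ hr₀ hr₀ rfl rfl _ hjε₀, ht, pullM_id])
    exact Subtype.ext h
  obtain ⟨D'⟩ := D.exists_comap l₁ (rfl : l₁ ≫ qU = l₁ ≫ qU)
  have hθid : θ = 𝟙 _ :=
    eq_id_of_trivial_on_retract h𝒴 y (Or.inr ⟨𝒳, h𝒳, φ, x, hxy, hinf⟩) eC hee hker εC rfl (l₁ ≫ qU) hε₁ D' θ hθ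
  have hδ : δ₂ = δ₁ := by
    have h := congrArg (δ₁ ≫ ·) hθid
    simpa [θ] using h
  obtain ⟨p₁, hp₁⟩ := exists_pt_map he l₁ c κ qc hqc hb₁ (rfl : l₁ ≫ qU = l₁ ≫ qU)
  obtain ⟨p₂, hp₂⟩ := exists_pt_map he l₂ c κ qc hqc hb₂ hr
  obtain ⟨χ, hχ⟩ := exists_homPtHom (h𝒴 := hY) (𝟙 _) (Category.id_comp b) (Category.id_comp (l₁ ≫ qU)) δ₁ δ₂
    (by rw [pullM_self, hδ])
  have hsec := section_eq he (𝟙 (thick C strC)) p₂ hp₂ p₁ hp₁ χ hχ
  have hlc : (yon S).map l₂ ≫ c = (yon S).map l₁ ≫ c := by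
    apply ((_root_.AlgSp.J S).uliftYonedaEquiv.{u + 1}).injective
    simpa using hsec.symm
  let sq : InfSq c :=
    { A := C
      commRing := inferInstance
      I := I
      sq_zero := hker
      str := strC
      top := (yon S).map (j ≫ l₁)
      bot := (yon S).map l₁ ≫ c
      comm := by rw [Functor.map_comp, Category.assoc] }
  obtain ⟨l, -, hu⟩ := hc sq
  have hl : (yon S).map l₂ = (yon S).map l₁ :=
    (hu _ ⟨by rw [← Functor.map_comp]; exact congrArg _ hjl, hlc⟩).trans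
      (hu _ ⟨((yon S).map_comp j l₁).symm, rfl⟩).symm
  have : IsOpenImmersion hU.fromSpec := IsAffineOpen.isOpenImmersion_fromSpec hU
  have hi : i₂ = i₁ := by
    have h := congrArg CommaMorphism.left ((yon S).map_injective hl)
    exact congrArg (fun g => g.hom) (Spec.map_injective ((cancel_mono hU.fromSpec).1 h))
  have hD : ∀ t : B, KaehlerDifferential.D R B t = 0 := fun t => by
    show KaehlerDifferential.DLinearMap R B t = 0
    rw [KaehlerDifferential.DLinearMap_apply, Ideal.toCotangent_eq_zero]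
    exact Ideal.Quotient.eq.1 (RingHom.congr_fun hi t)
  show Algebra.FormallyUnramified R B
  refine ⟨⟨fun a b => ?_⟩⟩
  have htop : (⊤ : Submodule B Ω[B⁄R]) = ⊥ := by
    rw [← KaehlerDifferential.span_range_derivation, Submodule.span_eq_bot]
    rintro _ ⟨t, rfl⟩
    exact hD t
  have hz : ∀ a : Ω[B⁄R], a = 0 := fun a => by
    rw [← Submodule.mem_bot B, ← htop]
    trivial
  rw [hz a, hz b]

/-- A point of a stack corresponding to an unramified one is unramified. -/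
theorem repByAlgSpWith_unramified_of_fIso (h𝒳 : AlgSt.IsAlgStack Scheme.fppfPrecoverage 𝒳)
    (h𝒴 : AlgSt.IsAlgStack Scheme.fppfPrecoverage 𝒴) (φ : IsoNat.FIso 𝒳 𝒴)
    (x : FibCat.overCat U ⥤ᵇ 𝒳) (y : FibCat.overCat U ⥤ᵇ 𝒴)
    (hxy : φ.toEquiv U (IsoNat.objCls x) = IsoNat.objCls y)
    (hx : AlgSt.RepByAlgSpWith IsFormallyUnramifiedMor x)
    (hlfp : AlgSt.RepByAlgSpWith (LocP @LocallyOfFinitePresentation) y) :
    AlgSt.RepByAlgSpWith (LocP (@LocallyOfFiniteType ⊓ @FormallyUnramified)) y := by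
  intro W z
  obtain ⟨F, e, he, hl⟩ := hlfp W z
  refine ⟨F, e, he, AlgSpc.locP_inf.2 ⟨AlgSpc.locP_mono (fun _ _ h (hh : LocallyOfFinitePresentation h) =>
    (inferInstance : LocallyOfFiniteType h)) hl, ?_⟩⟩
  have hY := h𝒴.isStack.1
  refine (AlgSpFormal.unramified_iff_locP F.property (IsAlgSpace.yon_obj W)).1 ?_
  obtain ⟨V, c, hc, hcs⟩ := F.property.atlas
  obtain ⟨k, q, κ, qc, hqc⟩ := exists_homPt_of_section hY (e := e) (T := V)
    ((_root_.AlgSp.J S).uliftYonedaEquiv.{u + 1} c)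
  -- refine the chart so that the diagonal point lifts
  obtain ⟨F', e', he'⟩ := repByAlgSp1_of_diag hY h𝒴.diag U y U y
  obtain ⟨G, c', hc', hcs'⟩ := F'.property.atlas
  obtain ⟨sd, qd, hqd⟩ := exists_section he'
    (stdPt y y q q (Iso.refl _) (IsHomLift.id (y.w_obj _))) (T := V) rfl
  obtain ⟨d, rfl⟩ := ((_root_.AlgSp.J S).uliftYonedaEquiv.{u + 1}).surjective sd
  obtain ⟨V', fst, snd, sq⟩ := AlgSpc.exists_sq hc'.1 d
  have hsn : RepWith @Etale ((yon S).map snd) :=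
    (_root_.AlgSp.repWith_yon_map_iff _ _).2 (hc'.2 d fst snd sq)
  have hsns : RepWith @Surjective ((yon S).map snd) :=
    (_root_.AlgSp.repWith_yon_map_iff _ _).2 (hcs'.2 d fst snd sq)
  obtain ⟨v, rfl⟩ := (yon S).map_surjective fst
  obtain ⟨q', hq'⟩ := exists_pt_map he snd c κ qc hqc (rfl : snd ≫ k = _) (rfl : snd ≫ q = _)
  obtain ⟨sd', qd', hqd'⟩ := exists_section he'
    (stdPt y y (snd ≫ q) (snd ≫ q) (Iso.refl _) (IsHomLift.id (y.w_obj _))) (T := V') rfl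
  obtain ⟨χ, hχ⟩ := exists_stdHom y y snd (δ' := Iso.refl _)
    (hδ' := IsHomLift.id (y.w_obj (Over.mk (snd ≫ q)))) (δ := Iso.refl _)
    (hδ := IsHomLift.id (y.w_obj (Over.mk q))) (rfl : snd ≫ q = _) (rfl : snd ≫ q = _) (by simp)
  have hsd : (_root_.AlgSp.J S).uliftYonedaEquiv.{u + 1} ((yon S).map v ≫ c') = sd' := by
    rw [sq.w, AlgSpLimit.equiv_map]
    exact section_eq he' snd qd' hqd' qd hqd χ hχ
  let D : DiagChart hY y (snd ≫ q) :=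
    { F := F'.obj
      e := e'
      he := he'
      G := G
      c := c'
      hc := AlgSpFormal.etale_of_repWith_etale hc'
      v := v
      hv := by rw [hsd]; exact ⟨qd', hqd'⟩ }
  have hk := comp_spMap_fst ((yon S).map snd ≫ c) q' hq'
  have hc₂ := AlgSpc.repWith_comp hsn hc
  exact AlgSpFormal.unramified_of_chart hc₂ (AlgSpc.repWith_comp hsns hcs) (AlgSpc.repWith_iso (𝟙 _))
    (hk.trans (Category.comp_id _).symm)
    (formallyUnramified_chart h𝒳 h𝒴 φ x y hxy hx z he ((yon S).map snd ≫ c)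
      (AlgSpFormal.etale_of_repWith_etale hc₂) _ q' hq' D)

theorem isFormallyUnramified_of_locP {x : FibCat.overCat U ⥤ᵇ 𝒳}
    (hx : AlgSt.RepByAlgSpWith (LocP (@LocallyOfFiniteType ⊓ @FormallyUnramified)) x) :
    AlgSt.RepByAlgSpWith IsFormallyUnramifiedMor x :=
  fun T z => by
    obtain ⟨F, e, he, h⟩ := hx T z
    exact ⟨F, e, he, (AlgSpFormal.unramified_iff_locP F.property (IsAlgSpace.yon_obj T)).2
      (AlgSpc.locP_inf.1 h).2⟩

end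

end Groth.Agent.IsoNatSm
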